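import Cfsg.Agent.Lib.RealGraph56.Members

/-!
With an irreducible element `z` of large prime order, every normal subgroup of odd order is central.
-/

set_option autoImplicit false
set_option linter.style.haveILetI false
set_option linter.unusedSectionVars false

namespace Cfsg.Agent.Lib.RealGraph56

open Subgroup
open scoped Pointwise commutatorElement

variable {H : Type*} [Group H] [Finite H] {V : Type*} [AddCommGroup V] [Finite V]
  [DistribMulAction H V]

/-- An irreducible element of large prime order. -/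
structure Prim (V : Type*) [AddCommGroup V] [DistribMulAction H V] (z : H) : Prop where
  prime : (orderOf z).Prime
  big : Nat.card V < 2 ^ orderOf z
  irr : ∀ X : AddSubgroup V, (∀ v ∈ X, z • v ∈ X) → X = ⊥ ∨ X = ⊤
  uniq : ∀ a b : H, Commute a z → Commute b z → (orderOf a).Prime → orderOf b = orderOf a →
    b ∈ zpowers a
  conjReal : ∀ x : H, RealPrime x → ∃ h : H, Commute (h * x * h⁻¹) z

/-- In a perfect group an element whose cyclic subgroup is normal is central. -/
theorem mem_center_of_zpowers_normal (hperf : commutator H = ⊤) {y : H}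
    (h : ∀ g : H, g * y * g⁻¹ ∈ zpowers y) : y ∈ center H := by
  rw [Subgroup.mem_center_iff]
  intro g
  have hle : commutator H ≤ centralizer ({y} : Set H) := by
    rw [commutator_def, Subgroup.commutator_le]
    intro a _ b _
    rw [Subgroup.mem_centralizer_singleton_iff]
    have key : ∀ c d : H, (c * d) * y * (c * d)⁻¹ = (d * c) * y * (d * c)⁻¹ := by
      intro c d
      obtain ⟨i, hi⟩ := Subgroup.mem_zpowers_iff.1 (h c)
      obtain ⟨j, hj⟩ := Subgroup.mem_zpowers_iff.1 (h d)
      calc (c * d) * y * (c * d)⁻¹ = c * (d * y * d⁻¹) * c⁻¹ := by group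
        _ = (y ^ i) ^ j := by rw [← hj, ← conj_zpow, hi]
        _ = (y ^ j) ^ i := by rw [← zpow_mul, ← zpow_mul, mul_comm]
        _ = d * (c * y * c⁻¹) * d⁻¹ := by rw [hj, conj_zpow, hi]
        _ = (d * c) * y * (d * c)⁻¹ := by group
    have := key a⁻¹ b⁻¹
    calc ⁅a, b⁆ * y = a * b * ((a⁻¹ * b⁻¹) * y * (a⁻¹ * b⁻¹)⁻¹) * (a⁻¹ * b⁻¹) := by
          rw [commutatorElement_def]; group
      _ = a * b * ((b⁻¹ * a⁻¹) * y * (b⁻¹ * a⁻¹)⁻¹) * (a⁻¹ * b⁻¹) := by rw [this]
      _ = y * ⁅a, b⁆ := by rw [commutatorElement_def]; group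
  exact Subgroup.mem_centralizer_singleton_iff.1 (hle (hperf ▸ Subgroup.mem_top g))

/-- Subgroups maximal with nonzero fixed space give linearly independent vectors. -/
theorem two_pow_card_le (hc : ∀ v : V, v + v = 0) {L : Subgroup H} (hodd : Odd (Nat.card L))
    (hab : ∀ a ∈ L, ∀ b ∈ L, Commute a b) {ι : Type} [Fintype ι] (M : ι → Subgroup H)
    (hinj : Function.Injective M) (hML : ∀ i, M i ≤ L) (hne : ∀ i, fixS V (M i) ≠ ⊥)
    (hmax : ∀ i, ∀ M' : Subgroup H, M' ≤ L → M i ≤ M' → fixS V M' ≠ ⊥ → M' = M i) :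
    2 ^ Fintype.card ι ≤ Nat.card V := by
  classical
  haveI : Fintype H := Fintype.ofFinite H
  have hex : ∀ i, ∃ w : V, w ∈ fixS V (M i) ∧ w ≠ 0 := fun i => by
    obtain ⟨⟨w, hw⟩, hw0⟩ := AddSubgroup.ne_bot_iff_exists_ne_zero.1 (hne i)
    exact ⟨w, hw, fun e => hw0 (Subtype.ext e)⟩
  choose v hv hv0 using hex
  let e : ι → V →+ V := fun i => ∑ l : M i, DistribSMul.toAddMonoidHom V (l : H)
  have happly : ∀ (i : ι) (w : V), e i w = ∑ l : M i, (l : H) • w := fun i w => by
    simp [e, AddMonoidHom.finsetSum_apply]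
  have hfix : ∀ (i : ι) (w : V), ∀ m ∈ M i, m • e i w = e i w := by
    intro i w m hm
    rw [happly, Finset.smul_sum]
    exact Fintype.sum_equiv (Equiv.mulLeft (⟨m, hm⟩ : M i)) _ _
      (fun l => by simp [mul_smul])
  have hone : ∀ i, e i (v i) = v i := by
    intro i
    rw [happly, Finset.sum_congr rfl fun (l : M i) _ => hv i l l.2, Finset.sum_const,
      Finset.card_univ, ← Nat.card_eq_fintype_card]
    obtain ⟨k, hk⟩ : Odd (Nat.card (M i)) :=
      Odd.of_dvd_nat hodd (Subgroup.card_dvd_of_le (hML i))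
    rw [hk, succ_nsmul, mul_nsmul, show (2 : ℕ) • v i = 0 by rw [two_nsmul, hc], nsmul_zero,
      zero_add]
  have hzero : ∀ i j, i ≠ j → e i (v j) = 0 := by
    intro i j hij
    by_contra h0
    have hcent : ∀ m ∈ M j, m • e i (v j) = e i (v j) := by
      intro m hm
      rw [happly, Finset.smul_sum]
      refine Finset.sum_congr rfl fun l _ => ?_
      rw [← mul_smul, (hab m (hML j hm) l (hML i l.2)).eq, mul_smul, hv j m hm]
    have hsup : fixS V (M i ⊔ M j) ≠ ⊥ := by
      intro hb
      refine h0 ((AddSubgroup.eq_bot_iff_forall _).1 hb _ ?_)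
      intro g hg
      have hle : M i ⊔ M j ≤ MulAction.stabilizer H (e i (v j)) :=
        sup_le (fun m hm => hfix i _ m hm) fun m hm => hcent m hm
      exact hle hg
    have h1 := hmax i _ (sup_le (hML i) (hML j)) le_sup_left hsup
    have h2 := hmax j _ (sup_le (hML i) (hML j)) le_sup_right hsup
    exact hij (hinj (h1.symm.trans h2))
  let Φ : (ι → Bool) → V := fun f => ∑ i, if f i then v i else 0
  have hΦ : Function.Injective Φ := by
    intro f g hfg
    funext j
    have hj : ∀ f : ι → Bool, e j (Φ f) = if f j then v j else 0 := by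
      intro f
      simp only [Φ, map_sum]
      rw [Finset.sum_eq_single j]
      · split_ifs <;> simp [hone]
      · intro i _ hij
        split_ifs <;> simp [hzero j i (Ne.symm hij)]
      · simp
    have := (hj f).symm.trans ((congrArg (e j) hfg).trans (hj g))
    cases hf : f j <;> cases hg : g j <;> simp only [hf, hg, Bool.false_eq_true,
      if_false] at this ⊢
    · exact absurd this.symm (hv0 j)
    · exact absurd this (hv0 j)
  have := Nat.card_le_card_of_injective Φ hΦ
  rwa [Nat.card_fun, Nat.card_eq_fintype_card (α := Bool), Fintype.card_bool,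
    Nat.card_eq_fintype_card] at this

namespace Prim

variable {z : H}

theorem fixed_free (hc : ∀ v : V, v + v = 0) (P : Prim V z) {L : Subgroup H} (hLn : L.Normal)
    (hodd : Odd (Nat.card L)) (hab : ∀ a ∈ L, ∀ b ∈ L, Commute a b)
    (hfaith : ∀ h : H, (∀ v : V, h • v = v) → h = 1) (hV : ∃ v : V, v ≠ 0) :
    ∀ u ∈ L, u ≠ 1 → ∀ v : V, u • v = v → v = 0 := by
  classical
  have hbot : fixS V (⊥ : Subgroup H) ≠ ⊥ := by
    obtain ⟨v, hv⟩ := hV
    intro h
    refine hv ((AddSubgroup.eq_bot_iff_forall _).1 h v fun g hg => ?_)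
    rw [Subgroup.mem_bot.1 hg, one_smul]
  intro u hu hu1 v hv
  by_contra hv0
  obtain ⟨M, ⟨hML, hMne⟩, hMmax⟩ := Set.Finite.exists_maximalFor id
    {M : Subgroup H | M ≤ L ∧ fixS V M ≠ ⊥} (Set.toFinite _) ⟨⊥, bot_le, hbot⟩
  have hmaxM : ∀ M' : Subgroup H, M' ≤ L → M ≤ M' → fixS V M' ≠ ⊥ → M' = M :=
    fun M' h1 h2 h3 => le_antisymm (hMmax ⟨h1, h3⟩ h2) h2
  by_cases hn : ∀ m ∈ M, z * m * z⁻¹ ∈ M
  · -- the fixed space of `M` is `z`-invariant
    have hstab : ∀ w ∈ fixS V M, z • w ∈ fixS V M := by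
      intro w hw m hm
      -- `z⁻¹` also normalises `M`
      have hfin : z⁻¹ * m * z ∈ M := by
        let f : M → M := fun a => ⟨z * a * z⁻¹, hn a a.2⟩
        have hf : Function.Injective f := fun a b h => Subtype.ext (by
          simpa [f] using congrArg Subtype.val h)
        obtain ⟨a, ha⟩ := Finite.injective_iff_surjective.1 hf ⟨m, hm⟩
        have e : z * (a : H) * z⁻¹ = m := congrArg Subtype.val ha
        rw [← e, show z⁻¹ * (z * (a : H) * z⁻¹) * z = a by group]
        exact a.2
      have := hw _ hfin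
      rw [mul_smul, mul_smul, inv_smul_eq_iff] at this
      exact this
    rcases P.irr _ hstab with h | h
    · exact hMne h
    · have hM1 : M = ⊥ := (Subgroup.eq_bot_iff_forall _).2 fun m hm => hfaith m fun w =>
        (h ▸ AddSubgroup.mem_top w : w ∈ fixS V M) m hm
      have huM : zpowers u = M := hmaxM _ (zpowers_le.2 hu) (hM1 ▸ bot_le) fun hb => by
        refine hv0 ((AddSubgroup.eq_bot_iff_forall _).1 hb v fun g hg => ?_)
        exact (zpowers_le.2 (show u ∈ MulAction.stabilizer H v from hv) hg : _)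
      exact hu1 (Subgroup.zpowers_eq_bot.1 (huM.trans hM1))
  · haveI := Fact.mk P.prime
    let Mi : Fin (orderOf z) → Subgroup H := fun i => MulAut.conj (z ^ (i : ℕ)) • M
    have hmem : ∀ (g a : H) (K : Subgroup H), a ∈ MulAut.conj g • K ↔ g⁻¹ * a * g ∈ K := by
      intro g a K
      rw [Subgroup.mem_pointwise_smul_iff_inv_smul_mem]
      simp [MulAut.smul_def, mul_assoc]
    have hinj : Function.Injective Mi := by
      intro i j hij
      by_contra hne
      apply hn
      -- a nontrivial power of `z` normalises `M`, so `z` does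
      let N : Subgroup H := MulAction.stabilizer (MulAut H) M |>.comap MulAut.conj
      have hd : (z ^ (i : ℕ))⁻¹ * z ^ (j : ℕ) ∈ N := by
        show MulAut.conj _ • M = M
        rw [map_mul, map_inv, mul_smul, inv_smul_eq_iff]
        exact hij.symm
      have hd1 : (z ^ (i : ℕ))⁻¹ * z ^ (j : ℕ) ≠ 1 := fun h => hne (Fin.ext
        (pow_injOn_Iio_orderOf i.2 j.2 (inv_mul_eq_one.1 h)))
      have hz : z ∈ N := by
        have hdz : (z ^ (i : ℕ))⁻¹ * z ^ (j : ℕ) ∈ zpowers z :=
          mul_mem (inv_mem (pow_mem (mem_zpowers z) _)) (pow_mem (mem_zpowers z) _)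
        have heq := zpowers_eq_top_of_prime_card (G := zpowers z) (p := orderOf z)
          (Nat.card_zpowers z) (g := ⟨_, hdz⟩) (fun h => hd1 (congrArg Subtype.val h))
        have hz' : (⟨z, mem_zpowers z⟩ : zpowers z) ∈
            zpowers (⟨_, hdz⟩ : zpowers z) := heq ▸ Subgroup.mem_top _
        obtain ⟨k, hk⟩ := Subgroup.mem_zpowers_iff.1 hz'
        have e : ((z ^ (i : ℕ))⁻¹ * z ^ (j : ℕ)) ^ k = z := by
          have := congrArg Subtype.val hk
          simpa using this
        rw [← e]
        exact zpow_mem hd k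
      intro m hm
      have : MulAut.conj z • M = M := hz
      rw [← this, hmem, show z⁻¹ * (z * m * z⁻¹) * z = m by group]
      exact hm
    have hMiL : ∀ i, Mi i ≤ L := fun i a ha => by
      have := hLn.conj_mem _ (hML ((hmem _ _ _).1 ha)) (z ^ (i : ℕ))
      simpa [mul_assoc] using this
    have hMine : ∀ i, fixS V (Mi i) ≠ ⊥ := fun i hb => by
      obtain ⟨⟨w, hw⟩, hw0⟩ := AddSubgroup.ne_bot_iff_exists_ne_zero.1 hMne
      have hw' : (z ^ (i : ℕ)) • w ∈ fixS V (Mi i) := fun g hg => by
        have := hw _ ((hmem _ _ _).1 hg)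
        rw [mul_smul, mul_smul, inv_smul_eq_iff] at this
        exact this
      exact hw0 (Subtype.ext ((smul_eq_zero_iff_eq _).1
        ((AddSubgroup.eq_bot_iff_forall _).1 hb _ hw')))
    have hMimax : ∀ i, ∀ M' : Subgroup H, M' ≤ L → Mi i ≤ M' → fixS V M' ≠ ⊥ → M' = Mi i := by
      intro i M' h1 h2 h3
      set g := z ^ (i : ℕ)
      have hK : (MulAut.conj g)⁻¹ • M' = M := by
        refine hmaxM _ (fun a ha => ?_) ?_ fun hb => ?_
        · rw [← map_inv, hmem, inv_inv] at ha
          have := hLn.conj_mem _ (h1 ha) g⁻¹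
          simpa [mul_assoc] using this
        · rw [← Subgroup.pointwise_smul_subset_iff]
          exact h2
        · obtain ⟨⟨w, hw⟩, hw0⟩ := AddSubgroup.ne_bot_iff_exists_ne_zero.1 h3
          have hw' : g⁻¹ • w ∈ fixS V ((MulAut.conj g)⁻¹ • M') := fun a ha => by
            rw [← map_inv, hmem, inv_inv] at ha
            have := hw _ ha
            rw [mul_smul, mul_smul] at this
            exact eq_inv_smul_iff.2 this
          exact hw0 (Subtype.ext ((smul_eq_zero_iff_eq _).1
            ((AddSubgroup.eq_bot_iff_forall _).1 hb _ hw')))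
      show M' = MulAut.conj g • M
      rw [← hK, smul_inv_smul]
    have := two_pow_card_le hc hodd hab Mi hinj hMiL hMine hMimax
    rw [Fintype.card_fin] at this
    exact absurd this (not_le.2 P.big)

/-- Every normal subgroup of odd order is central. -/
theorem le_center (S : Setup H V) (P : Prim V z) (L : Subgroup H) (hLn : L.Normal)
    (hLo : Odd (Nat.card L)) : L ≤ center H := by
  classical
  haveI : Fact (Nat.Prime 2) := ⟨Nat.prime_two⟩
  by_contra hnot
  obtain ⟨K, ⟨hKn, hKo, hKc⟩, hKmin⟩ := Set.Finite.exists_minimalFor id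
    {K : Subgroup H | K.Normal ∧ Odd (Nat.card K) ∧ ¬ K ≤ center H} (Set.toFinite _)
    ⟨L, hLn, hLo, hnot⟩
  have hmin : ∀ K' : Subgroup H, K'.Normal → K' ≤ K → ¬ K' ≤ center H → K' = K := fun K' h1 h2 h3 =>
    le_antisymm h2 (hKmin ⟨h1, Odd.of_dvd_nat hKo (Subgroup.card_dvd_of_le h2), h3⟩ h2)
  haveI := hKn
  -- some 2-element does not centralise `K`
  have hgen : closure {g : H | TwoEl g} = ⊤ := by
    set M := closure {g : H | TwoEl g} with hM
    haveI hMn : M.Normal := ⟨fun n hn a => by
      induction hn using Subgroup.closure_induction with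
      | mem x hx => exact subset_closure (hx.conj a)
      | one => simp
      | mul x y _ _ hx hy =>
        have := mul_mem hx hy
        rwa [show a * x * a⁻¹ * (a * y * a⁻¹) = a * (x * y) * a⁻¹ by group] at this
      | inv x _ hx =>
        have := inv_mem hx
        rwa [show (a * x * a⁻¹)⁻¹ = a * x⁻¹ * a⁻¹ by group] at this⟩
    by_contra hne
    have hoddq : Odd (Nat.card (H ⧸ M)) := by
      rw [← Nat.not_even_iff_odd, even_iff_two_dvd]
      intro hd
      obtain ⟨T⟩ : Nonempty (Sylow 2 H) := inferInstance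
      have hTM : (T : Subgroup H) ≤ M := fun a ha => subset_closure (twoEl_of_mem T.2 ha)
      exact T.not_dvd_index (hd.trans (M.index_eq_card ▸ Subgroup.index_dvd_of_le hTM))
    haveI := OddOrder.FeitThompson.isSolvable_of_odd_card hoddq
    haveI : Nontrivial (H ⧸ M) := QuotientGroup.nontrivial_iff.2 hne
    refine (ne_of_lt (Group.IsSolvable.commutator_lt_top_of_nontrivial (H ⧸ M))) ?_
    rw [_root_.commutator_def, ← Subgroup.map_top_of_surjective (QuotientGroup.mk' M)
      (QuotientGroup.mk'_surjective M), ← Subgroup.map_commutator, ← _root_.commutator_def, S.perfect]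
  obtain ⟨g, hg2, hgK⟩ : ∃ g : H, TwoEl g ∧ g ∉ centralizer (K : Set H) := by
    by_contra hc
    push Not at hc
    have : centralizer (K : Set H) = ⊤ := top_le_iff.1 (hgen ▸ (closure_le _).2 fun g hg => hc g hg)
    refine hKc fun k hk => Subgroup.mem_center_iff.2 fun a => ?_
    exact (Subgroup.mem_centralizer_iff.1 (this ▸ Subgroup.mem_top a) k hk).symm
  -- a real element of odd prime order of `K` commuting with `z`
  obtain ⟨y, hy, hyK, hyz⟩ : ∃ y : H, RealPrime y ∧ y ∈ K ∧ Commute y z := by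
    have hex : ∃ j, g ^ 2 ^ j ∈ centralizer (K : Set H) := by
      obtain ⟨k, hk⟩ := hg2.pow_eq
      exact ⟨k, hk ▸ one_mem _⟩
    have h0 : Nat.find hex ≠ 0 := fun h => hgK (by simpa [h] using Nat.find_spec hex)
    obtain ⟨j, hj⟩ := Nat.exists_eq_add_one_of_ne_zero h0
    set x := g ^ 2 ^ j
    have hxn : x ∉ centralizer (K : Set H) := Nat.find_min hex (show j < Nat.find hex by omega)
    have hx2 : x ^ 2 ∈ centralizer (K : Set H) := by
      rw [← pow_mul, ← pow_succ, ← hj]; exact Nat.find_spec hex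
    simp only [Subgroup.mem_centralizer_iff] at hxn
    push Not at hxn
    obtain ⟨u, hu, hne⟩ := hxn
    set w := u⁻¹ * (x * u * x⁻¹)
    have hwK : w ∈ K := K.mul_mem (K.inv_mem hu) (hKn.conj_mem u hu x)
    have hw1 : w ≠ 1 := fun h => hne (eq_mul_inv_iff_mul_eq.1 (inv_mul_eq_one.1 h))
    have hxu : x ^ 2 * u * (x ^ 2)⁻¹ = u := by
      rw [← (Subgroup.mem_centralizer_iff.1 hx2 u hu), mul_inv_cancel_right]
    have hinv : x * w * x⁻¹ = w⁻¹ := by
      calc x * w * x⁻¹ = (x * u * x⁻¹)⁻¹ * (x ^ 2 * u * (x ^ 2)⁻¹) := by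
            simp only [w, sq]; group
        _ = w⁻¹ := by rw [hxu]; simp only [w]; group
    obtain ⟨m, hm, -⟩ := exists_realPrime_pow_of_odd hinv (orderOf_odd_of_mem hKo hwK) hw1
    obtain ⟨h, hh⟩ := P.conjReal _ hm
    exact ⟨_, hm.conj h, hKn.conj_mem _ (pow_mem hwK m) h, hh⟩
  have hyc : y ∉ center H := fun h => by
    obtain ⟨a, ha⟩ := hy.2.2
    rw [Subgroup.mem_center_iff.1 h a, mul_inv_cancel_right] at ha
    exact hy.ne_inv ha
  set r := orderOf y with hr
  -- no central element of order `r`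
  have hnoc : ∀ c ∈ center H, c ^ r = 1 → c = 1 := by
    intro c hc hcr
    by_contra hc1
    haveI := Fact.mk hy.1
    have hco : orderOf c = r := orderOf_eq_prime hcr hc1
    have hcz : Commute c z := (Subgroup.mem_center_iff.1 hc z).symm
    have := P.uniq c y hcz hyz (hco ▸ hy.1) hco.symm
    exact hyc ((zpowers_le.2 hc) this)
  -- the derived subgroup is central
  haveI : Group.IsSolvable K := OddOrder.FeitThompson.isSolvable_of_odd_card hKo
  have hK1 : K ≠ ⊥ := fun h => hKc (h ▸ bot_le)
  have hder : ⁅K, K⁆ ≤ center H := by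
    by_contra hc
    haveI : Nontrivial K := (nontrivial_iff_ne_bot K).2 hK1
    have hlt := Group.IsSolvable.commutator_lt_top_of_nontrivial K
    refine hlt.ne (Subgroup.map_injective K.subtype_injective ?_)
    rw [Subgroup.map_subtype_commutator, ← MonoidHom.range_eq_map, Subgroup.range_subtype]
    exact hmin _ inferInstance (Subgroup.commutator_le_left K K) hc
  have hyKc : ∀ b ∈ K, Commute y b := by
    intro b hb
    set c := ⁅y, b⁆ with hcdef
    have hc : c ∈ center H := hder (Subgroup.commutator_mem_commutator hyK hb)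
    have hby : b * y * b⁻¹ = c⁻¹ * y := by rw [hcdef, commutatorElement_def]; group
    have hcy : Commute c y := (Subgroup.mem_center_iff.1 hc y).symm
    have hcomm : Commute c⁻¹ y := hcy.inv_left
    have hcr : c ^ r = 1 := by
      have h1 : (b * y * b⁻¹) ^ r = 1 := by
        rw [conj_pow, hr, pow_orderOf_eq_one, mul_one, mul_inv_cancel]
      rw [hby, hcomm.mul_pow, hr, pow_orderOf_eq_one, mul_one, inv_pow, inv_eq_one] at h1
      exact h1
    have : c = 1 := hnoc c hc hcr
    exact commutatorElement_eq_one_iff_commute.1 this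
  have hKab : ∀ a ∈ K, ∀ b ∈ K, Commute a b := by
    have := hmin (centralizer (K : Set H) ⊓ K) inferInstance inf_le_right fun h =>
      hyc (h ⟨Subgroup.mem_centralizer_iff.2 fun b hb => (hyKc b hb).eq.symm, hyK⟩)
    intro a ha b hb
    exact ((Subgroup.mem_centralizer_iff.1 (this.symm ▸ ha : a ∈ centralizer (K : Set H) ⊓ K).1)
      b hb).symm
  let K₂ : Subgroup H :=
    { carrier := {u | u ∈ K ∧ u ^ r = 1}
      one_mem' := ⟨one_mem _, one_pow r⟩
      mul_mem' := fun {a b} ha hb => ⟨mul_mem ha.1 hb.1, by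
        rw [(hKab a ha.1 b hb.1).mul_pow, ha.2, hb.2, one_mul]⟩
      inv_mem' := fun {a} ha => ⟨inv_mem ha.1, by rw [inv_pow, ha.2, inv_one]⟩ }
  have hK₂n : K₂.Normal := ⟨fun u hu a => ⟨hKn.conj_mem u hu.1 a, by
    rw [conj_pow, hu.2, mul_one, mul_inv_cancel]⟩⟩
  have hK₂ : K₂ = K := hmin K₂ hK₂n (fun u hu => hu.1) fun h =>
    hyc (h ⟨hyK, pow_orderOf_eq_one y⟩)
  have hfree := P.fixed_free S.char2 hKn hKo hKab S.faithful S.exists_ne_zero
  -- hence `K = ⟨y⟩`
  have hKy : ∀ u ∈ K, u ∈ zpowers y := by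
    intro u hu
    by_contra hnu
    obtain ⟨v, hv⟩ := S.exists_ne_zero
    apply hv
    have hu' : u ^ r = 1 := ((hK₂.symm ▸ hu) : u ∈ K₂).2
    have hsum : ∀ w ∈ K, w ≠ 1 → w ^ r = 1 → ∀ v : V, ∑ j ∈ Finset.range r, w ^ j • v = 0 := by
      intro w hw hw1 hwr v
      refine hfree w hw hw1 _ ?_
      rw [Finset.smul_sum]
      rw [Finset.sum_congr rfl fun j _ => (by rw [← mul_smul, ← pow_succ'] :
        w • w ^ j • v = w ^ (j + 1) • v)]
      have h1 := Finset.sum_range_succ' (fun j => w ^ j • v) r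
      have h2 := Finset.sum_range_succ (fun j => w ^ j • v) r
      rw [h2, hwr, pow_zero] at h1
      exact (add_right_cancel h1).symm
    have htot : ∑ j ∈ Finset.range r, ∑ i ∈ Finset.range r, (u * y ^ i) ^ j • v = 0 := by
      rw [Finset.sum_comm]
      refine Finset.sum_eq_zero fun i _ => hsum _ (mul_mem hu (pow_mem hyK i)) (fun h => hnu ?_)
        ?_ v
      · rw [eq_inv_of_mul_eq_one_left h]
        exact inv_mem (pow_mem (mem_zpowers y) i)
      · rw [(hKab u hu _ (pow_mem hyK i)).mul_pow, hu', ← pow_mul, mul_comm, pow_mul, hr,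
          pow_orderOf_eq_one, one_pow, one_mul]
    rw [Finset.sum_eq_single 0] at htot
    · simp only [pow_zero, one_smul, Finset.sum_const, Finset.card_range] at htot
      obtain ⟨k, hk⟩ := hy.odd
      rwa [hr, hk, succ_nsmul, mul_nsmul, show (2 : ℕ) • v = 0 by rw [two_nsmul, S.char2],
        nsmul_zero, zero_add] at htot
    · intro j hj hj0
      have hyj : y ^ j ≠ 1 := pow_ne_one_of_lt_orderOf hj0 (Finset.mem_range.1 hj)
      have : ∀ i, (u * y ^ i) ^ j • v = u ^ j • (y ^ j) ^ i • v := fun i => by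
        rw [(hKab u hu _ (pow_mem hyK i)).mul_pow, mul_smul, ← pow_mul, mul_comm, pow_mul]
      rw [Finset.sum_congr rfl fun i _ => this i, ← Finset.smul_sum,
        hsum _ (pow_mem hyK j) hyj (by rw [← pow_mul, mul_comm, pow_mul, hr, pow_orderOf_eq_one,
          one_pow]) v, smul_zero]
    · intro h
      exact absurd (Finset.mem_range.2 hy.1.pos) h
  exact hyc (mem_center_of_zpowers_normal S.perfect fun g => hKy _ (hKn.conj_mem y hyK g))

end Prim

end Cfsg.Agent.Lib.RealGraph56
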