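import Mathlib
import Cfsg.Agent.Lib.Elem70.Lift
import Cfsg.Agent.Lib.LAEven54.Inverted
import Cfsg.Agent.Lib.OddOrder.FeitThompson
import Cfsg.Agent.Lib.ClassSizes.NonAdjacent

/-!
Real elements of odd prime order, subgroups without them, and fixed points of inverting maps.
Tools for groups whose prime graph on real class sizes is disconnected.
-/

set_option autoImplicit false
set_option linter.style.haveILetI false

namespace Cfsg.Agent.Lib.RealGraph56

open Subgroup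
open scoped Pointwise

variable {G : Type*} [Group G]

/-- An element of order a power of two. -/
def TwoEl (g : G) : Prop := ∃ k : ℕ, orderOf g = 2 ^ k

/-- A real element of odd prime order. -/
def RealPrime (x : G) : Prop :=
  (orderOf x).Prime ∧ orderOf x ≠ 2 ∧ ∃ g : G, g * x * g⁻¹ = x⁻¹

/-- No element of odd prime order of `M` is inverted by an element of `M`. -/
def NoReal (M : Subgroup G) : Prop :=
  ∀ x g : G, x ∈ M → g ∈ M → (orderOf x).Prime → orderOf x ≠ 2 → g * x * g⁻¹ ≠ x⁻¹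

theorem twoEl_of_pow {g : G} {k : ℕ} (h : g ^ 2 ^ k = 1) : TwoEl g := by
  obtain ⟨m, -, hm⟩ := (Nat.dvd_prime_pow Nat.prime_two).1 (orderOf_dvd_of_pow_eq_one h)
  exact ⟨m, hm⟩

theorem TwoEl.pow_eq {g : G} (h : TwoEl g) : ∃ k : ℕ, g ^ 2 ^ k = 1 := by
  obtain ⟨k, hk⟩ := h
  exact ⟨k, by rw [← hk, pow_orderOf_eq_one]⟩

theorem TwoEl.pow {g : G} (h : TwoEl g) (n : ℕ) : TwoEl (g ^ n) := by
  obtain ⟨k, hk⟩ := h.pow_eq
  exact twoEl_of_pow (k := k) (by rw [← pow_mul, mul_comm, pow_mul, hk, one_pow])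

theorem TwoEl.inv {g : G} (h : TwoEl g) : TwoEl g⁻¹ := by
  obtain ⟨k, hk⟩ := h.pow_eq
  exact twoEl_of_pow (k := k) (by rw [inv_pow, hk, inv_one])

theorem TwoEl.conj {g : G} (h : TwoEl g) (a : G) : TwoEl (a * g * a⁻¹) := by
  obtain ⟨k, hk⟩ := h.pow_eq
  exact twoEl_of_pow (k := k) (by rw [conj_pow, hk]; group)

theorem twoEl_one : TwoEl (1 : G) := ⟨0, by simp⟩

theorem twoEl_of_orderOf_two {g : G} (h : orderOf g = 2) : TwoEl g := ⟨1, by simpa using h⟩

theorem twoEl_of_mem {R : Subgroup G} (hR : IsPGroup 2 R) {g : G} (hg : g ∈ R) : TwoEl g := by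
  haveI : Fact (Nat.Prime 2) := ⟨Nat.prime_two⟩
  obtain ⟨k, hk⟩ := IsPGroup.iff_orderOf.1 hR ⟨g, hg⟩
  exact ⟨k, by rw [← hk, Subgroup.orderOf_mk]⟩

/-- An odd power of an element of finite order is a two-element. -/
theorem exists_twoEl_pow [Finite G] (g : G) : ∃ m : ℕ, Odd m ∧ TwoEl (g ^ m) :=
  LAEven54.Inverted.exists_two_part g

theorem conj_sq {g x : G} (h : g * x * g⁻¹ = x⁻¹) : g ^ 2 * x * (g ^ 2)⁻¹ = x := by
  rw [sq, show g * g * x * (g * g)⁻¹ = g * (g * x * g⁻¹) * g⁻¹ by group, h, ← conj_inv, h, inv_inv]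

theorem odd_pow_inverts {g x : G} {m : ℕ} (hm : Odd m) (h : g * x * g⁻¹ = x⁻¹) :
    g ^ m * x * (g ^ m)⁻¹ = x⁻¹ := by
  obtain ⟨j, rfl⟩ := hm
  have hj : ∀ i : ℕ, g ^ (2 * i) * x * (g ^ (2 * i))⁻¹ = x := by
    intro i
    induction i with
    | zero => simp
    | succ i ih =>
      calc g ^ (2 * (i + 1)) * x * (g ^ (2 * (i + 1)))⁻¹
          = g ^ (2 * i) * (g ^ 2 * x * (g ^ 2)⁻¹) * (g ^ (2 * i))⁻¹ := by
            rw [mul_add, pow_add]; group
        _ = x := by rw [conj_sq h, ih]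
  calc g ^ (2 * j + 1) * x * (g ^ (2 * j + 1))⁻¹
      = g * (g ^ (2 * j) * x * (g ^ (2 * j))⁻¹) * g⁻¹ := by rw [pow_succ']; group
    _ = x⁻¹ := by rw [hj, h]

theorem exists_twoEl_inverter [Finite G] {g x : G} (h : g * x * g⁻¹ = x⁻¹) :
    ∃ g' : G, TwoEl g' ∧ g' * x * g'⁻¹ = x⁻¹ ∧ ∃ m : ℕ, g' = g ^ m := by
  obtain ⟨m, hm, hm2⟩ := exists_twoEl_pow g
  exact ⟨g ^ m, hm2, odd_pow_inverts hm h, m, rfl⟩

theorem RealPrime.ne_one {x : G} (h : RealPrime x) : x ≠ 1 := fun e => by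
  have h1 := h.1
  rw [e, orderOf_one] at h1
  exact Nat.not_prime_one h1

theorem RealPrime.odd {x : G} (h : RealPrime x) : Odd (orderOf x) := h.1.odd_of_ne_two h.2.1

theorem RealPrime.sq_ne_one {x : G} (h : RealPrime x) : x ^ 2 ≠ 1 := fun e =>
  h.2.1 ((Nat.prime_dvd_prime_iff_eq h.1 Nat.prime_two).1 (orderOf_dvd_of_pow_eq_one e))

theorem RealPrime.ne_inv {x : G} (h : RealPrime x) : x ≠ x⁻¹ := fun e =>
  h.sq_ne_one (by rw [sq]; exact mul_eq_one_iff_eq_inv.2 e)

theorem RealPrime.conj {x : G} (h : RealPrime x) (a : G) : RealPrime (a * x * a⁻¹) := by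
  have e : orderOf (a * x * a⁻¹) = orderOf x := by
    simpa using MulEquiv.orderOf_eq (MulAut.conj a) x
  obtain ⟨g, hg⟩ := h.2.2
  refine ⟨e ▸ h.1, e ▸ h.2.1, a * g * a⁻¹, ?_⟩
  rw [show (a * g * a⁻¹) * (a * x * a⁻¹) * (a * g * a⁻¹)⁻¹ = a * (g * x * g⁻¹) * a⁻¹ by group, hg]
  group

/-- An inverted element which is not a two-element has a real power of odd prime order. -/
theorem exists_realPrime_pow [Finite G] {g y : G} (h : g * y * g⁻¹ = y⁻¹) (hy : ¬ TwoEl y) :
    ∃ m : ℕ, RealPrime (y ^ m) ∧ g * y ^ m * g⁻¹ = (y ^ m)⁻¹ := by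
  obtain ⟨p, hp, hpd, hp2⟩ : ∃ p, p.Prime ∧ p ∣ orderOf y ∧ p ≠ 2 := by
    by_contra hc
    push Not at hc
    exact hy ⟨_, Nat.eq_prime_pow_of_unique_prime_dvd (orderOf_pos y).ne' fun {d} hd hdv =>
      hc d hd hdv⟩
  refine ⟨orderOf y / p, ?_, by rw [← conj_pow, h, inv_pow]⟩
  have e : orderOf (y ^ (orderOf y / p)) = p := by
    rw [orderOf_pow_of_dvd (Nat.div_pos (Nat.le_of_dvd (orderOf_pos y) hpd) hp.pos).ne'
      (Nat.div_dvd_of_dvd hpd), Nat.div_div_self hpd (orderOf_pos y).ne']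
  exact ⟨by rw [e]; exact hp, by rw [e]; exact hp2, g, by rw [← conj_pow, h, inv_pow]⟩

/-- A nontrivial inverted element of odd order has a real power of odd prime order. -/
theorem exists_realPrime_pow_of_odd [Finite G] {g y : G} (h : g * y * g⁻¹ = y⁻¹)
    (ho : Odd (orderOf y)) (hy : y ≠ 1) :
    ∃ m : ℕ, RealPrime (y ^ m) ∧ g * y ^ m * g⁻¹ = (y ^ m)⁻¹ :=
  exists_realPrime_pow h fun ⟨k, hk⟩ => by
    rcases Nat.eq_zero_or_pos k with rfl | hk0
    · exact hy (orderOf_eq_one_iff.1 (by simpa using hk))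
    · rw [hk] at ho
      exact Nat.not_even_iff_odd.2 ho ((Nat.even_pow' hk0.ne').2 even_two)

theorem noReal_of_forall {M : Subgroup G} (h : ∀ x, RealPrime x → x ∈ M → False) : NoReal M :=
  fun x g hx _ hp h2 hi => h x ⟨hp, h2, g, hi⟩ hx

/-- A subgroup without real elements of odd prime order has a normal Sylow 2-subgroup. -/
theorem exists_twoCore [Finite G] {M : Subgroup G} (h : NoReal M) :
    ∃ R : Subgroup G, R ≤ M ∧ IsPGroup 2 R ∧ (∀ g ∈ M, ∀ r ∈ R, g * r * g⁻¹ ∈ R) ∧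
      ∀ g ∈ M, TwoEl g → g ∈ R := by
  haveI : Fact (Nat.Prime 2) := ⟨Nat.prime_two⟩
  obtain ⟨P⟩ : Nonempty (Sylow 2 M) := inferInstance
  have hn : (P : Subgroup M).Normal :=
    Elem70.sylow_two_normal_of_no_real (G := M) (fun p x g hp hp2 hx hi =>
      h x g x.2 g.2 (by rw [Subgroup.orderOf_coe, hx]; exact hp)
        (by rw [Subgroup.orderOf_coe, hx]; exact hp2)
        (by simpa using congrArg Subtype.val hi)) P
  refine ⟨(P : Subgroup M).map M.subtype, Subgroup.map_subtype_le _, P.2.map _, ?_, ?_⟩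
  · rintro g hg _ ⟨a, ha, rfl⟩
    exact ⟨⟨g, hg⟩ * a * ⟨g, hg⟩⁻¹, hn.conj_mem a ha _, by simp⟩
  · intro g hg ⟨k, hk⟩
    have hp : IsPGroup 2 (Subgroup.zpowers (⟨g, hg⟩ : M)) :=
      IsPGroup.of_card (n := k) (by rw [Nat.card_zpowers, Subgroup.orderOf_mk, hk])
    obtain ⟨Q, hQ⟩ := hp.exists_le_sylow
    have : Subsingleton (Sylow 2 M) := by
      haveI := Sylow.unique_of_normal P hn
      infer_instance
    refine ⟨⟨g, hg⟩, ?_, rfl⟩
    rw [Subsingleton.elim P Q]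
    exact hQ (Subgroup.mem_zpowers _)

theorem solvable_of_noReal [Finite G] {M : Subgroup G} (h : NoReal M) : Group.IsSolvable M := by
  haveI : Fact (Nat.Prime 2) := ⟨Nat.prime_two⟩
  obtain ⟨P⟩ : Nonempty (Sylow 2 M) := inferInstance
  haveI hn : (P : Subgroup M).Normal :=
    Elem70.sylow_two_normal_of_no_real (G := M) (fun p x g hp hp2 hx hi =>
      h x g x.2 g.2 (by rw [Subgroup.orderOf_coe, hx]; exact hp)
        (by rw [Subgroup.orderOf_coe, hx]; exact hp2)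
        (by simpa using congrArg Subtype.val hi)) P
  haveI : Group.IsNilpotent (P : Subgroup M) := P.2.isNilpotent
  haveI : Group.IsSolvable (M ⧸ (P : Subgroup M)) :=
    OddOrder.FeitThompson.isSolvable_of_odd_card (by
      rw [← Subgroup.index_eq_card, Nat.odd_iff, ← Nat.two_dvd_ne_zero]
      exact P.not_dvd_index)
  exact Group.isSolvable_of_ker_le_range (P : Subgroup M).subtype (QuotientGroup.mk' (P : Subgroup M))
    (by rw [QuotientGroup.ker_mk', Subgroup.range_subtype])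

/-- A map of two-power period on a set of odd size has a fixed point. -/
theorem exists_fixed_of_odd {α : Type*} [Finite α] (ho : Odd (Nat.card α)) (f : Equiv.Perm α)
    (k : ℕ) (hf : f ^ 2 ^ k = 1) : ∃ a, f a = a := by
  classical
  haveI : Fintype α := Fintype.ofFinite α
  haveI : Fact (Nat.Prime 2) := ⟨Nat.prime_two⟩
  refine Equiv.Perm.exists_fixed_point_of_prime (p := 2) (n := k) ?_ hf
  rw [← Nat.card_eq_fintype_card]
  exact fun h => Nat.not_even_iff_odd.2 ho (even_iff_two_dvd.2 h)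

/-- A two-element acting on a set of odd size as an involution-like map fixes an element:
an inverting action `w ↦ (g w g⁻¹)⁻¹` on a finite set of odd size. -/
theorem exists_inverted_mem [Finite G] {g : G} (hg : TwoEl g) (s : Set G)
    (hs : ∀ w ∈ s, (g * w * g⁻¹)⁻¹ ∈ s) (ho : Odd (Nat.card s)) :
    ∃ w ∈ s, g * w * g⁻¹ = w⁻¹ := by
  let φ : G → G := fun w => (g * w * g⁻¹)⁻¹
  have hinj : Function.Injective φ := fun a b e => by simpa [φ] using e
  let f : Equiv.Perm s := Equiv.ofBijective (fun w => (⟨φ w, hs w w.2⟩ : s))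
    (Finite.injective_iff_bijective.1 fun a b e => Subtype.ext (hinj (congrArg Subtype.val e)))
  have hf2 : ∀ (i : ℕ) (w : s),
      ((f ^ (2 * i)) w : G) = g ^ (2 * i) * (w : G) * (g ^ (2 * i))⁻¹ := by
    intro i
    induction i with
    | zero => intro w; simp
    | succ i ih =>
      intro w
      rw [mul_add, mul_one, pow_add, Equiv.Perm.mul_apply, ih, pow_two f, Equiv.Perm.mul_apply]
      show g ^ (2 * i) * φ (φ w) * (g ^ (2 * i))⁻¹ = _
      simp only [φ, pow_add, pow_two]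
      group
  obtain ⟨k, hk⟩ := hg.pow_eq
  have hfk : f ^ 2 ^ (k + 1) = 1 := by
    refine Equiv.ext fun w => Subtype.ext ?_
    rw [pow_succ, mul_comm, hf2, mul_comm, pow_mul, hk]
    simp
  obtain ⟨⟨w, hw⟩, he⟩ := exists_fixed_of_odd ho f (k + 1) hfk
  refine ⟨w, hw, ?_⟩
  have e : φ w = w := congrArg Subtype.val he
  calc g * w * g⁻¹ = (φ w)⁻¹ := by simp [φ, mul_assoc]
    _ = w⁻¹ := by rw [e]

/-- Subgroups of coprime index: the factorisation of an element. -/
theorem exists_mul_of_coprime [Finite G] {A B : Subgroup G} (h : A.index.Coprime B.index) (g : G) :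
    ∃ a ∈ A, ∃ b ∈ B, g = a * b :=
  ClassSizes.NonAdjacent.exists_mul_of_coprime_index h g

theorem orderOf_odd_of_mem [Finite G] {C : Subgroup G} (hC : Odd (Nat.card C)) {c : G}
    (hc : c ∈ C) : Odd (orderOf c) :=
  Odd.of_dvd_nat hC (Subgroup.orderOf_dvd_natCard C hc)

theorem eq_one_of_twoEl_of_odd {c : G} (h : TwoEl c) (ho : Odd (orderOf c)) : c = 1 := by
  obtain ⟨k, hk⟩ := h
  rcases Nat.eq_zero_or_pos k with rfl | hk0
  · exact orderOf_eq_one_iff.1 (by simpa using hk)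
  · rw [hk] at ho
    exact absurd ((Nat.even_pow' hk0.ne').2 even_two) (Nat.not_even_iff_odd.2 ho)

/-- In a group of prime-power order a self-normalising subgroup is everything. -/
theorem eq_of_normalizer_le [Finite G] {p : ℕ} [Fact p.Prime] {P S : Subgroup G}
    (hS : IsPGroup p S) (hPS : P ≤ S)
    (h : ∀ s ∈ S, (∀ a, a ∈ P ↔ s * a * s⁻¹ ∈ P) → s ∈ P) : P = S := by
  haveI : Group.IsNilpotent S := hS.isNilpotent
  by_contra hne
  have hlt : P.subgroupOf S < ⊤ := lt_top_iff_ne_top.2 fun e =>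
    hne (le_antisymm hPS fun s hs => by
      have : (⟨s, hs⟩ : S) ∈ P.subgroupOf S := e ▸ Subgroup.mem_top _
      exact Subgroup.mem_subgroupOf.1 this)
  obtain ⟨⟨s, hs⟩, hsn, hsp⟩ := SetLike.exists_of_lt
    (Group.normalizerCondition_of_isNilpotent _ hlt)
  refine hsp (Subgroup.mem_subgroupOf.2 (h s hs fun a => ⟨fun ha => ?_, fun ha => ?_⟩))
  · have := (Subgroup.mem_normalizer_iff.1 hsn ⟨a, hPS ha⟩).1 (Subgroup.mem_subgroupOf.2 ha)
    exact Subgroup.mem_subgroupOf.1 this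
  · have haS : a ∈ S := by
      have h1 := S.mul_mem (S.mul_mem (S.inv_mem hs) (hPS ha)) hs
      simpa [mul_assoc] using h1
    have := (Subgroup.mem_normalizer_iff.1 hsn ⟨a, haS⟩).2 (Subgroup.mem_subgroupOf.2 ha)
    exact Subgroup.mem_subgroupOf.1 this

end Cfsg.Agent.Lib.RealGraph56
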