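import Cfsg.Agent.Lib.RealGraph56.Members

/-!
The counting argument: a 2-element `τ` normalising a subgroup of odd order that is transitive on
the Sylow 2-subgroups, with no real element of odd prime order on a space of the size of its fixed
space, contradicts perfectness.
-/

set_option autoImplicit false
set_option linter.style.haveILetI false
set_option linter.unusedSectionVars false

namespace Cfsg.Agent.Lib.RealGraph56

open Subgroup
open scoped Pointwise

variable {H : Type*} [Group H] [Finite H] {V : Type*} [AddCommGroup V] [Finite V]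
  [DistribMulAction H V]

/-- The data used by the counting argument. -/
structure Rotor (V : Type*) [AddCommGroup V] [DistribMulAction H V] (τ : H) (C : Subgroup H)
    (e : ℕ) : Prop where
  two : TwoEl τ
  oddC : Odd (Nat.card C)
  normC : ∀ c ∈ C, τ * c * τ⁻¹ ∈ C
  trans : ∀ T T' : Sylow 2 H, ∃ c ∈ C, c • T = T'
  fix1 : Nat.card (fixE V τ) = 2 ^ e
  fix2 : Nat.card (fixE V (τ ^ 2)) = 2 ^ (2 * e)
  epos : 0 < e
  noReal : ∀ x : H, RealPrime x → ¬ orderOf x ∣ 2 ^ e - 1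

theorem smul_mem_fixS_of_conj {R : Subgroup H} {s : H} (hs : ∀ r ∈ R, s⁻¹ * r * s ∈ R) {v : V}
    (hv : v ∈ fixS V R) : s • v ∈ fixS V R := by
  intro r hr
  have := hv _ (hs r hr)
  rw [mul_smul, mul_smul, inv_smul_eq_iff] at this
  exact this

namespace Rotor

variable {τ : H} {C : Subgroup H} {e : ℕ}

/-- Two Sylow 2-subgroups through the same element `σ` normalising `C` are conjugate under the
centraliser of `σ` in `C`. -/
theorem trans_fixed (R : Rotor V τ C e) {σ : H} (hσ : TwoEl σ)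
    (hσC : ∀ c ∈ C, σ * c * σ⁻¹ ∈ C) {T T' : Sylow 2 H} (hT : σ ∈ T) (hT' : σ ∈ T') :
    ∃ c ∈ C, Commute c σ ∧ c • T = T' := by
  obtain ⟨c₀, hc₀, hcT⟩ := R.trans T T'
  let s := {c : H // c ∈ C ∧ c • T = T'}
  have hodd : Odd (Nat.card s) := by
    have hcard : Nat.card s = Nat.card (C ⊓ MulAction.stabilizer H T : Subgroup H) := by
      refine Nat.card_congr
        { toFun := fun c => ⟨c₀⁻¹ * c.1, C.mul_mem (C.inv_mem hc₀) c.2.1, ?_⟩
          invFun := fun d => ⟨c₀ * d.1, C.mul_mem hc₀ d.2.1, ?_⟩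
          left_inv := fun c => Subtype.ext (mul_inv_cancel_left c₀ c.1)
          right_inv := fun d => Subtype.ext (inv_mul_cancel_left c₀ d.1) }
      · show (c₀⁻¹ * c.1) • T = T
        rw [mul_smul, c.2.2, inv_smul_eq_iff, hcT]
      · rw [mul_smul, MulAction.mem_stabilizer_iff.1 d.2.2, hcT]
    rw [hcard]
    exact Odd.of_dvd_nat R.oddC (Subgroup.card_dvd_of_le inf_le_left)
  have hinvT : σ⁻¹ • T = T := smul_eq_of_mem_sylow (inv_mem hT)
  let f : s → s := fun c => ⟨σ * c.1 * σ⁻¹, hσC _ c.2.1, by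
    rw [mul_smul, mul_smul, hinvT, c.2.2, smul_eq_of_mem_sylow hT']⟩
  have hinj : Function.Injective f := fun a b h => Subtype.ext (by
    simpa [f] using congrArg Subtype.val h)
  let P : Equiv.Perm s := Equiv.ofBijective f (Finite.injective_iff_bijective.1 hinj)
  have hpow : ∀ (n : ℕ) (c : s), ((P ^ n) c).1 = σ ^ n * c.1 * (σ ^ n)⁻¹ := by
    intro n
    induction n with
    | zero => intro c; simp
    | succ n ih =>
      intro c
      rw [pow_succ', Equiv.Perm.mul_apply]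
      show σ * ((P ^ n) c).1 * σ⁻¹ = _
      rw [ih, pow_succ']
      group
  obtain ⟨k, hk⟩ := hσ.pow_eq
  obtain ⟨c, hc⟩ := exists_fixed_of_odd hodd P k
    (Equiv.ext fun c => Subtype.ext (by rw [hpow, hk]; simp))
  exact ⟨c.1, c.2.1, (mul_inv_eq_iff_eq_mul.1 (congrArg Subtype.val hc)).symm, c.2.2⟩

theorem normC_sq (R : Rotor V τ C e) : ∀ c ∈ C, τ ^ 2 * c * (τ ^ 2)⁻¹ ∈ C := fun c hc => by
  have := R.normC _ (R.normC c hc)
  rwa [show τ * (τ * c * τ⁻¹) * τ⁻¹ = τ ^ 2 * c * (τ ^ 2)⁻¹ by rw [sq]; group] at this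

/-- No real element of odd prime order stabilises a subgroup with `2 ^ e` elements. -/
theorem no_stab (S : Setup H V) (R : Rotor V τ C e) {x : H} (hx : RealPrime x) {X : AddSubgroup V}
    (hX : Nat.card X = 2 ^ e) (hstab : ∀ v ∈ X, x • v ∈ X) : False :=
  R.noReal x hx (hX ▸ dvd_card_sub_one hx.1 (pow_orderOf_eq_one x) X hstab
    fun v _ hv => S.free x hx v hv)

/-- There is exactly one Sylow 2-subgroup through `τ`, and it has the fixed space of `τ`. -/
theorem exists_unique_sylow (S : Setup H V) (R : Rotor V τ C e) :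
    ∃ T₀ : Sylow 2 H, τ ∈ T₀ ∧ fixS V (T₀ : Subgroup H) = fixE V τ ∧
      ∀ T : Sylow 2 H, τ ∈ T → T = T₀ := by
  haveI : Fact (Nat.Prime 2) := ⟨Nat.prime_two⟩
  set A : Subgroup H := stabX (fixE V τ) with hA
  have hτA : τ ∈ A := stabX_of_le fun v hv => by
    rw [mem_fixE.1 hv]; exact hv
  obtain ⟨R₁, hR₁A, hR₁p, hR₁n, hR₁m⟩ := exists_twoCore (M := A) (noReal_of_forall fun x hx hxA =>
    R.no_stab S hx R.fix1 fun v hv => (mem_stabX.1 hxA v).2 hv)
  have hτR : τ ∈ R₁ := hR₁m τ hτA R.two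
  obtain ⟨T₀, hT₀⟩ := hR₁p.exists_le_sylow
  have hall : ∀ T : Sylow 2 H, τ ∈ T → R₁ ≤ T := by
    intro T hT
    obtain ⟨c, -, hcτ, rfl⟩ := R.trans_fixed R.two R.normC (hT₀ hτR) hT
    have hcA : c ∈ A := stabX_of_le fun v hv => by
      show τ • c • v = c • v
      rw [← mul_smul, ← hcτ.eq, mul_smul, mem_fixE.1 hv]
    intro a ha
    refine mem_smul_sylow.2 ?_
    have h1 := hR₁n c⁻¹ (A.inv_mem hcA) a ha
    rw [inv_inv] at h1
    exact hT₀ h1
  have hfix : fixS V R₁ = fixE V τ := by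
    refine le_antisymm (fun v hv => hv τ hτR) fun v hv r hr => ?_
    by_cases h0 : v = 0
    · rw [h0, smul_zero]
    · obtain ⟨T, hT⟩ := S.exists_sylow_le h0
      exact hT (hall T (S.mem_of_twoEl h0 hT R.two hv) hr)
  have hP : (T₀ : Subgroup H) ⊓ A = R₁ := le_antisymm
    (fun a ha => hR₁m a ha.2 (twoEl_of_mem T₀.2 ha.1)) (le_inf hT₀ hR₁A)
  have heq : (T₀ : Subgroup H) ⊓ A = T₀ := by
    refine eq_of_normalizer_le T₀.2 inf_le_left fun s hs hn => ⟨hs, stabX_of_le fun v hv => ?_⟩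
    rw [hP] at hn
    rw [← hfix] at hv ⊢
    refine smul_mem_fixS_of_conj (fun r hr => ?_) hv
    rw [hn, show s * (s⁻¹ * r * s) * s⁻¹ = r by group]
    exact hr
  have hT₀R : (T₀ : Subgroup H) = R₁ := heq ▸ hP
  refine ⟨T₀, hT₀ hτR, hT₀R ▸ hfix, fun T hT => Sylow.ext ?_⟩
  exact T₀.3 T.2 (hT₀R ▸ hall T hT)

theorem card_fixS (S : Setup H V) (R : Rotor V τ C e) (T : Sylow 2 H) :
    Nat.card (fixS V (T : Subgroup H)) = 2 ^ e := by
  obtain ⟨T₀, -, h, -⟩ := R.exists_unique_sylow S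
  rw [S.card_fixS_eq T T₀, h, R.fix1]

/-- No real element of odd prime order normalises a Sylow 2-subgroup. -/
theorem smul_ne (S : Setup H V) (R : Rotor V τ C e) {x : H} (hx : RealPrime x) (T : Sylow 2 H) :
    x • T ≠ T := fun h =>
  R.no_stab S hx (R.card_fixS S T) fun v hv => by
    rw [← h, mem_fixS_smul, inv_smul_smul]; exact hv

end Rotor

/-- A perfect group has no Sylow 2-subgroup of order two. -/
theorem card_sylow_ne_two (hperf : commutator H = ⊤) (T : Sylow 2 H) : Nat.card T ≠ 2 := by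
  haveI : Fact (Nat.Prime 2) := ⟨Nat.prime_two⟩
  intro h2
  haveI : IsCyclic T := isCyclic_of_prime_card h2
  have hmin : (Nat.card H).minFac = 2 := by
    rw [Nat.minFac_eq_two_iff]
    exact h2 ▸ Subgroup.card_subgroup_dvd_card _
  have hc := IsCyclic.isComplement' hmin (P := T) inferInstance
  set φ := MonoidHom.transferSylow T ((inferInstance : IsCyclic T).normalizer_le_centralizer hmin)
  have hle : commutator H ≤ φ.ker := by
    rw [commutator_def, Subgroup.commutator_le]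
    intro a _ b _
    rw [MonoidHom.mem_ker, map_commutatorElement, commutatorElement_eq_one_iff_commute]
    haveI := IsCyclic.isMulCommutative (α := T)
    exact mul_comm' _ _
  have := hc.symm.index_eq_card
  have htop : φ.ker = ⊤ := top_le_iff.1 (le_of_eq_of_le hperf.symm hle)
  rw [htop, Subgroup.index_top] at this
  omega

namespace Rotor

variable {τ : H} {C : Subgroup H} {e : ℕ}

/-- The counting argument. -/
theorem false (S : Setup H V) (R : Rotor V τ C e)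
    (hodd : Nat.card V ≠ 2 ^ (2 * e) →
      ∀ L : Subgroup H, L.Normal → Odd (Nat.card L) → L ≤ center H) : False := by
  classical
  haveI : Fact (Nat.Prime 2) := ⟨Nat.prime_two⟩
  obtain ⟨T₀, hτT₀, hU₀, huniq⟩ := R.exists_unique_sylow S
  set X := fixE V (τ ^ 2) with hXdef
  set A : Subgroup H := stabX X with hAdef
  have hUcard := R.card_fixS S
  have hτ2 : TwoEl (τ ^ 2) := R.two.pow 2
  have hcommA : ∀ g : H, Commute g (τ ^ 2) → g ∈ A := fun g hg => stabX_of_le fun v hv => by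
    show τ ^ 2 • g • v = g • v
    rw [← mul_smul, ← hg.eq, mul_smul, mem_fixE.1 hv]
  have hτA : τ ∈ A := hcommA τ ((Commute.refl τ).pow_right 2)
  -- the Sylow subgroups through `τ²` are those whose fixed space lies in `X`
  have hmem : ∀ T : Sylow 2 H, τ ^ 2 ∈ T ↔ fixS V (T : Subgroup H) ≤ X := fun T =>
    ⟨fun h v hv => hv _ h, fun h => by
      obtain ⟨v, hv, hv0⟩ := S.exists_mem_fixS T
      exact S.mem_of_twoEl hv0 (Setup.le_stabilizer_of_mem_fixS S hv) hτ2 (h hv)⟩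
  have hXsyl : ∀ v ∈ X, v ≠ 0 → ∀ T : Sylow 2 H, v ∈ fixS V (T : Subgroup H) →
      fixS V (T : Subgroup H) ≤ X := fun v hv hv0 T hT =>
    (hmem T).1 (S.mem_of_twoEl hv0 (Setup.le_stabilizer_of_mem_fixS S hT) hτ2 hv)
  have hAmem : ∀ a ∈ A, ∀ T : Sylow 2 H, τ ^ 2 ∈ T → τ ^ 2 ∈ a • T := by
    intro a ha T hT
    rw [hmem] at hT ⊢
    intro v hv
    have := (mem_stabX.1 ha _).2 (hT (mem_fixS_smul.1 hv))
    rwa [smul_inv_smul] at this
  have hagree : ∀ a b : H, ∀ T : Sylow 2 H, τ ^ 2 ∈ T → (∀ v ∈ X, a • v = b • v) →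
      a • T = b • T := by
    intro a b T hT hab
    obtain ⟨v, hv, hv0⟩ := S.exists_mem_fixS T
    refine S.sylow_unique (v := a • v) (fun h => hv0 ((smul_eq_zero_iff_eq a).1 h))
      (Setup.le_stabilizer_of_mem_fixS S (mem_fixS_smul.2 (by rw [inv_smul_smul]; exact hv))) ?_
    rw [hab v ((hmem T).1 hT hv)]
    exact Setup.le_stabilizer_of_mem_fixS S (mem_fixS_smul.2 (by rw [inv_smul_smul]; exact hv))
  -- two fixed spaces in `X` span it
  have hspan : ∀ T T' : Sylow 2 H, τ ^ 2 ∈ T → τ ^ 2 ∈ T' → T ≠ T' → ∀ g : H, g ∈ T → g ∈ T' →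
      ∀ v ∈ X, g • v = v := by
    intro T T' hT hT' hne g hg hg' v hv
    let f : fixS V (T : Subgroup H) × fixS V (T' : Subgroup H) → X := fun w =>
      ⟨(w.1 : V) + (w.2 : V), X.add_mem ((hmem T).1 hT w.1.2) ((hmem T').1 hT' w.2.2)⟩
    have hinj : Function.Injective f := by
      rintro ⟨a, b⟩ ⟨a', b'⟩ h
      have h' : ((a - a' : fixS V (T : Subgroup H)) : V) =
          ((b' - b : fixS V (T' : Subgroup H)) : V) := by
        rw [AddSubgroup.coe_sub, AddSubgroup.coe_sub, sub_eq_sub_iff_add_eq_add]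
        simpa [f, add_comm, add_left_comm] using congrArg Subtype.val h
      have hu : ((a - a' : fixS V (T : Subgroup H)) : V) = 0 := by
        by_contra h0
        exact hne (S.sylow_unique h0 (Setup.le_stabilizer_of_mem_fixS S (a - a').2)
          (Setup.le_stabilizer_of_mem_fixS S (h' ▸ (b' - b).2)))
      rw [Prod.mk.injEq]
      exact ⟨sub_eq_zero.1 (Subtype.ext hu),
        (sub_eq_zero.1 (Subtype.ext (h'.symm.trans hu))).symm⟩
    have hbij := hinj.bijective_of_nat_card_le (by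
      rw [Nat.card_prod, hUcard, hUcard, R.fix2, ← pow_add, two_mul])
    obtain ⟨⟨w, w'⟩, hw⟩ := hbij.2 ⟨v, hv⟩
    have hw' : (w : V) + (w' : V) = v := congrArg Subtype.val hw
    rw [← hw', smul_add, w.2 g hg, w'.2 g hg']
  have hfix_only : ∀ a : H, TwoEl a → (∃ v ∈ X, a • v ≠ v) → ∀ T T' : Sylow 2 H,
      τ ^ 2 ∈ T → τ ^ 2 ∈ T' → a ∈ T → a • T' = T' → T' = T := by
    intro a ha ⟨v, hv, hav⟩ T T' hT hT' haT haT'
    by_contra hne
    exact hav (hspan T T' hT hT' (Ne.symm hne) a haT (mem_of_smul_eq ha haT') v hv)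
  -- two swappers of the same pair agree on `X`
  have hswap : ∀ a b : H, TwoEl a → TwoEl b → ∀ T T' : Sylow 2 H, τ ^ 2 ∈ T → τ ^ 2 ∈ T' →
      T ≠ T' → a • T = T' → a • T' = T → b • T = T' → b • T' = T → ∀ v ∈ X, a • v = b • v := by
    intro a b ha hb T T' hT hT' hne h1 h2 h3 h4 v hv
    let M : Subgroup H :=
      { carrier := {h | (h • T = T ∧ h • T' = T') ∨ (h • T = T' ∧ h • T' = T)}
        one_mem' := Or.inl ⟨one_smul _ _, one_smul _ _⟩
        mul_mem' := fun {p q} hp hq => by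
          rcases hq with ⟨q1, q2⟩ | ⟨q1, q2⟩ <;> rcases hp with ⟨p1, p2⟩ | ⟨p1, p2⟩
          · exact Or.inl ⟨by rw [mul_smul, q1, p1], by rw [mul_smul, q2, p2]⟩
          · exact Or.inr ⟨by rw [mul_smul, q1, p1], by rw [mul_smul, q2, p2]⟩
          · exact Or.inr ⟨by rw [mul_smul, q1, p2], by rw [mul_smul, q2, p1]⟩
          · exact Or.inl ⟨by rw [mul_smul, q1, p2], by rw [mul_smul, q2, p1]⟩
        inv_mem' := fun {p} hp => by
          rcases hp with ⟨p1, p2⟩ | ⟨p1, p2⟩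
          · exact Or.inl ⟨inv_smul_eq_iff.2 p1.symm, inv_smul_eq_iff.2 p2.symm⟩
          · exact Or.inr ⟨inv_smul_eq_iff.2 p2.symm, inv_smul_eq_iff.2 p1.symm⟩ }
    obtain ⟨Q, hQM, hQp, -, hQm⟩ := exists_twoCore (M := M) (noReal_of_forall fun x hx hxM => by
      refine R.smul_ne S hx T ?_
      rcases hxM with ⟨x1, -⟩ | ⟨x1, x2⟩
      · exact x1
      · obtain ⟨m, hm⟩ := hx.odd
        have hx2 : x ^ 2 • T = T := by rw [sq, mul_smul, x1, x2]
        have e1 : x ^ (2 * m + 1) • T = T := by rw [← hm, pow_orderOf_eq_one, one_smul]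
        have e2 : ∀ i : ℕ, (x ^ 2) ^ i • T = T := fun i => by
          induction i with
          | zero => rw [pow_zero, one_smul]
          | succ i ih => rw [pow_succ, mul_smul, hx2, ih]
        rw [pow_succ', mul_smul, pow_mul, e2] at e1
        exact e1)
    have haQ : a ∈ Q := hQm a (Or.inr ⟨h1, h2⟩) ha
    have hbQ : b ∈ Q := hQm b (Or.inr ⟨h3, h4⟩) hb
    have hk : TwoEl (a⁻¹ * b) := twoEl_of_mem hQp (Q.mul_mem (Q.inv_mem haQ) hbQ)
    have hkT : (a⁻¹ * b) • T = T := by rw [mul_smul, h3, inv_smul_eq_iff, h1]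
    have hkT' : (a⁻¹ * b) • T' = T' := by rw [mul_smul, h4, inv_smul_eq_iff, h2]
    have := hspan T T' hT hT' hne _ (mem_of_smul_eq hk hkT) (mem_of_smul_eq hk hkT') v hv
    rw [mul_smul, inv_smul_eq_iff] at this
    exact this.symm
  -- conjugates of `τ`
  have hτX : ∃ v ∈ X, τ • v ≠ v := by
    by_contra hc
    push Not at hc
    have : X ≤ fixE V τ := hc
    have := AddSubgroup.card_le_of_le this
    rw [R.fix1, R.fix2] at this
    have := Nat.pow_le_pow_iff_right (le_refl 2) |>.1 this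
    have := R.epos
    omega
  have hinvol : ∀ T : {T : Sylow 2 H // τ ^ 2 ∈ T}, ∃ a : H, a ∈ T.1 ∧ a ∈ A ∧
      (∀ v ∈ X, a • a • v = v) ∧ ∃ v ∈ X, a • v ≠ v := by
    intro T
    obtain ⟨c, -, hcτ, hc⟩ := R.trans_fixed hτ2 R.normC_sq (pow_mem hτT₀ 2) T.2
    refine ⟨c * τ * c⁻¹, ?_, ?_, fun v hv => ?_, ?_⟩
    · rw [← hc, mem_smul_sylow, show c⁻¹ * (c * τ * c⁻¹) * c = τ by group]
      exact hτT₀
    · exact A.mul_mem (A.mul_mem (hcommA c hcτ) hτA) (A.inv_mem (hcommA c hcτ))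
    · rw [← mul_smul, show c * τ * c⁻¹ * (c * τ * c⁻¹) = c * τ ^ 2 * c⁻¹ by rw [sq]; group,
        hcτ.eq, mul_inv_cancel_right, mem_fixE.1 hv]
    · obtain ⟨v, hv, hne⟩ := hτX
      refine ⟨c • v, (mem_stabX.1 (hcommA c hcτ) v).2 hv, fun h => hne ?_⟩
      rw [mul_smul, mul_smul, inv_smul_smul] at h
      exact smul_left_cancel c h
  choose inv hinvT hinvA hinvsq hinvne using hinvol
  have hback : ∀ a : H, (∀ v ∈ X, a • a • v = v) → ∀ T : Sylow 2 H, τ ^ 2 ∈ T →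
      a • a • T = T := by
    intro a ha T hT
    have := hagree (a * a) 1 T hT fun v hv => by rw [mul_smul, one_smul, ha v hv]
    rwa [mul_smul, one_smul] at this
  -- every swapper of `X` is some conjugate
  let P2 := {p : Sylow 2 H × Sylow 2 H // τ ^ 2 ∈ p.1 ∧ τ ^ 2 ∈ p.2 ∧ p.1 ≠ p.2}
  let F : P2 → P2 := fun p => ⟨(p.1.2, inv ⟨p.1.1, p.2.1⟩ • p.1.2), p.2.2.1,
    hAmem _ (hinvA _) _ p.2.2.1, fun h => p.2.2.2
      (hfix_only _ (twoEl_of_mem p.1.1.2 (hinvT ⟨p.1.1, p.2.1⟩)) (hinvne _) p.1.1 p.1.2 p.2.1 p.2.2.1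
        (hinvT ⟨p.1.1, p.2.1⟩) h.symm).symm⟩
  have hFinj : Function.Injective F := by
    rintro ⟨⟨T, T'⟩, h1, h2, h3⟩ ⟨⟨T₁, T₁'⟩, k1, k2, k3⟩ h
    have h' := congrArg Subtype.val h
    simp only [F, Prod.mk.injEq] at h'
    obtain ⟨rfl, hX'⟩ := h'
    have hne : T' ≠ inv ⟨T, h1⟩ • T' := fun e => h3
      (hfix_only _ (twoEl_of_mem T.2 (hinvT ⟨T, h1⟩)) (hinvne _) T T' h1 h2 (hinvT ⟨T, h1⟩) e.symm).symm
    have hag := hswap (inv ⟨T, h1⟩) (inv ⟨T₁, k1⟩) (twoEl_of_mem T.2 (hinvT ⟨T, h1⟩))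
      (twoEl_of_mem T₁.2 (hinvT ⟨T₁, k1⟩)) T' (inv ⟨T, h1⟩ • T') h2 (hAmem _ (hinvA _) _ h2) hne rfl
      (hback _ (hinvsq _) _ h2) hX'.symm
      (by rw [hX']; exact hback _ (hinvsq _) _ h2)
    have := hagree _ _ T₁ k1 hag
    rw [smul_eq_of_mem_sylow (hinvT ⟨T₁, k1⟩)] at this
    obtain rfl := hfix_only _ (twoEl_of_mem T.2 (hinvT ⟨T, h1⟩)) (hinvne _) T T₁ h1 k1 (hinvT ⟨T, h1⟩) this
    rfl
  have hFsurj : Function.Surjective F := Finite.injective_iff_surjective.1 hFinj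
  obtain ⟨T₁, hT₁, hT₁ne⟩ : ∃ T₁ : Sylow 2 H, τ ^ 2 ∈ T₁ ∧ T₁ ≠ T₀ := by
    obtain ⟨v, hv, hne⟩ := hτX
    have hv0 : v ≠ 0 := fun h => hne (by rw [h, smul_zero])
    obtain ⟨T, hT⟩ := S.exists_sylow_le hv0
    exact ⟨T, S.mem_of_twoEl hv0 hT hτ2 hv, fun h => hne (hT (h ▸ hτT₀))⟩
  have hclass : ∀ s : H, s ∈ T₀ → s ∈ A → (∀ v ∈ X, s • s • v = v) → (∃ v ∈ X, s • v ≠ v) →
      ∀ v ∈ X, s • v = inv ⟨T₀, pow_mem hτT₀ 2⟩ • v := by
    intro s hs hsA hssq hsne
    have hne : T₁ ≠ s • T₁ := fun e => hT₁ne (hfix_only s (twoEl_of_mem T₀.2 hs) hsne T₀ T₁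
      (pow_mem hτT₀ 2) hT₁ hs e.symm)
    obtain ⟨⟨⟨Q, Q'⟩, q1, q2, q3⟩, hq⟩ := hFsurj ⟨(T₁, s • T₁), hT₁, hAmem s hsA _ hT₁, hne⟩
    have h' := congrArg Subtype.val hq
    simp only [F, Prod.mk.injEq] at h'
    obtain ⟨rfl, hQ⟩ := h'
    have hag := hswap s (inv ⟨Q, q1⟩) (twoEl_of_mem T₀.2 hs) (twoEl_of_mem Q.2 (hinvT ⟨Q, q1⟩))
      Q' (s • Q') q2 (hAmem s hsA _ q2) hne rfl (hback s hssq _ q2) hQ
      (by rw [← hQ]; exact hback _ (hinvsq _) _ q2)
    have := hagree _ _ Q q1 hag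
    rw [smul_eq_of_mem_sylow (hinvT ⟨Q, q1⟩)] at this
    obtain rfl := hfix_only s (twoEl_of_mem T₀.2 hs) hsne T₀ Q (pow_mem hτT₀ 2) q1 hs this
    exact hag
  have hτsq : ∀ v ∈ X, τ • τ • v = v := fun v hv => by
    rw [← mul_smul, ← sq]; exact hv
  have hlike : ∀ s : H, s ∈ T₀ → s ∈ A → (∀ v ∈ X, s • s • v = v) → (∃ v ∈ X, s • v ≠ v) →
      ∀ v ∈ X, s • v = τ • v := fun s hs hsA h1 h2 v hv => by
    rw [hclass s hs hsA h1 h2 v hv, hclass τ hτT₀ hτA hτsq hτX v hv]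
  have hinvolutive : ∀ s : H, s ∈ T₀ → s ∈ A → ∀ v ∈ X, s • s • v = v := by
    intro s hs hsA
    by_contra hc
    push Not at hc
    have hexj : ∃ j : ℕ, ∀ v ∈ X, s ^ 2 ^ j • v = v := by
      obtain ⟨k, hk⟩ := (twoEl_of_mem T₀.2 hs).pow_eq
      exact ⟨k, fun v _ => by rw [hk, one_smul]⟩
    have h0 : Nat.find hexj ≠ 0 := fun h => by
      obtain ⟨v, hv, hne⟩ := hc
      have := Nat.find_spec hexj
      rw [h] at this
      exact hne (by have e := this v hv; rw [pow_zero, pow_one] at e; rw [e, e])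
    obtain ⟨j, hj⟩ := Nat.exists_eq_add_one_of_ne_zero h0
    have hs' := hlike (s ^ 2 ^ j) (pow_mem hs _) (A.pow_mem hsA _) (fun v hv => by
      have := Nat.find_spec hexj v hv
      rw [hj, pow_succ, pow_mul, sq, mul_smul] at this
      exact this) (by
      by_contra hc'
      push Not at hc'
      exact Nat.find_min hexj (show j < Nat.find hexj by omega) hc')
    -- so `τ` commutes with `s` on `X`
    have hcomm : ∀ v ∈ X, τ • s • v = s • τ • v := fun v hv => by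
      rw [← hs' _ ((mem_stabX.1 hsA v).2 hv), ← hs' v hv, ← mul_smul, ← mul_smul, ← pow_succ,
        ← pow_succ']
    obtain ⟨v, hv, hne⟩ := hc
    apply hne
    have hU : ∀ w : V, τ • w = w → s • w = w := fun w hw =>
      (hU₀ ▸ (mem_fixE.2 hw) : w ∈ fixS V (T₀ : Subgroup H)) s hs
    have hw : τ • (τ • v + v) = τ • v + v := by rw [smul_add, hτsq v hv, add_comm]
    have h1 := hU _ hw
    rw [smul_add, ← hcomm v hv] at h1
    have hw2 : τ • (s • v + v) = s • v + v := by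
      rw [smul_add]
      calc τ • s • v + τ • v
          = τ • s • v + s • v + (τ • v + s • v) := by
            rw [add_add_add_comm (τ • s • v), S.char2 (s • v), add_zero]
        _ = τ • v + v + (τ • v + s • v) := by rw [h1]
        _ = s • v + v := by
            rw [add_add_add_comm, S.char2 (τ • v), zero_add, add_comm]
    have h2 := hU _ hw2
    rw [smul_add, add_comm (s • v) v] at h2
    exact add_right_cancel h2
  have hdich : ∀ s : H, s ∈ T₀ → s ∈ A →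
      (∀ v ∈ X, s • v = v) ∨ (∀ v ∈ X, s • v = τ • v) := by
    intro s hs hsA
    by_cases h : ∀ v ∈ X, s • v = v
    · exact Or.inl h
    · push Not at h
      exact Or.inr (hlike s hs hsA (hinvolutive s hs hsA) h)
  by_cases hfull : Nat.card V = 2 ^ (2 * e)
  · -- `X` is everything, so the Sylow subgroup has order two
    have hXtop : X = ⊤ := AddSubgroup.eq_top_of_card_eq X (by rw [R.fix2, hfull])
    have hall : ∀ v : V, v ∈ X := fun v => hXtop ▸ AddSubgroup.mem_top v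
    have hAall : ∀ h : H, h ∈ A := fun h => stabX_of_le fun v _ => hall _
    refine card_sylow_ne_two S.perfect T₀ ?_
    have hτ1 : τ ≠ 1 := fun h => by
      obtain ⟨v, _, hne⟩ := hτX
      exact hne (by rw [h, one_smul])
    have hset : ∀ s ∈ T₀, s = 1 ∨ s = τ := by
      intro s hs
      rcases hdich s hs (hAall s) with h | h
      · exact Or.inl (S.faithful s fun v => h v (hall v))
      · refine Or.inr (inv_mul_eq_one.1 (S.faithful (s⁻¹ * τ) fun v => ?_))
        rw [mul_smul, ← h v (hall v), inv_smul_smul]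
    rw [Nat.card_eq_two_iff]
    refine ⟨⟨1, one_mem _⟩, ⟨τ, hτT₀⟩, fun h => hτ1 (congrArg Subtype.val h).symm, ?_⟩
    refine Set.eq_univ_of_forall fun ⟨s, hs⟩ => ?_
    rcases hset s hs with h | h <;> simp [h]
  have hLodd := hodd hfull
  -- `X` is stabilised by the normaliser of `T₀`
  have hnormA : ∀ s : H, (s * τ * s⁻¹) ∈ T₀ → (s * τ * s⁻¹) ∈ A → s ∈ A := by
    intro s h1 h2
    have h3 := hinvolutive _ h1 h2
    refine inv_mem_iff.1 (stabX_of_le fun v hv => ?_)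
    show τ ^ 2 • s⁻¹ • v = s⁻¹ • v
    have := h3 v hv
    rw [← mul_smul, show s * τ * s⁻¹ * (s * τ * s⁻¹) = s * τ ^ 2 * s⁻¹ by rw [sq]; group,
      mul_smul, mul_smul] at this
    rw [eq_inv_smul_iff, this]
  have hT₀A : (T₀ : Subgroup H) ≤ A := by
    have heq : (T₀ : Subgroup H) ⊓ A = T₀ :=
      eq_of_normalizer_le T₀.2 inf_le_left fun s hs hn =>
        ⟨hs, hnormA s ((hn τ).1 ⟨hτT₀, hτA⟩).1 ((hn τ).1 ⟨hτT₀, hτA⟩).2⟩
    exact heq ▸ inf_le_right
  have hNA : ∀ h : H, h • T₀ = T₀ → h ∈ A := fun h hh => by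
    have h1 : h * τ * h⁻¹ ∈ T₀ := by
      rw [← hh, mem_smul_sylow, show h⁻¹ * (h * τ * h⁻¹) * h = τ by group]
      exact hτT₀
    exact hnormA h h1 (hT₀A h1)
  -- a real element of odd prime order fixing every translate of `X`
  obtain ⟨y, hy, hyτ⟩ : ∃ y : H, RealPrime y ∧ Commute y (τ ^ 2) := by
    obtain ⟨c, hcC, hcτ, hcT⟩ := R.trans_fixed hτ2 R.normC_sq (pow_mem hτT₀ 2) hT₁
    have hncomm : ¬ Commute c τ := fun h => hT₁ne (hcT ▸ huniq (c • T₀) (by
      rw [mem_smul_sylow, mul_assoc, ← h.eq, inv_mul_cancel_left]; exact hτT₀))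
    set x := c⁻¹ * (τ * c * τ⁻¹)
    have hxC : x ∈ C := C.mul_mem (C.inv_mem hcC) (R.normC c hcC)
    have hx1 : x ≠ 1 := fun h => hncomm (mul_inv_eq_iff_eq_mul.1 (inv_mul_eq_one.1 h).symm).symm
    have hτ2c : τ ^ 2 * c * (τ ^ 2)⁻¹ = c := by rw [← hcτ.eq]; group
    have hxinv : τ * x * τ⁻¹ = x⁻¹ := by
      calc τ * x * τ⁻¹ = (τ * c⁻¹ * τ⁻¹) * (τ ^ 2 * c * (τ ^ 2)⁻¹) := by
            simp only [x, sq]; group
        _ = x⁻¹ := by rw [hτ2c]; simp only [x]; group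
    obtain ⟨m, hm, -⟩ := exists_realPrime_pow_of_odd hxinv (orderOf_odd_of_mem R.oddC hxC) hx1
    refine ⟨x ^ m, hm, Commute.pow_left ?_ m⟩
    have hττ : Commute τ (τ ^ 2) := (Commute.refl τ).pow_right 2
    exact hcτ.inv_left.mul_left ((hττ.mul_left hcτ).mul_left hττ.inv_left)
  have hyA : y ∈ A := hcommA y hyτ
  let L : Subgroup H :=
    { carrier := {g | ∀ h : H, h⁻¹ * g * h ∈ A}
      one_mem' := fun h => by simpa using A.one_mem
      mul_mem' := fun {a b} ha hb h => by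
        have := A.mul_mem (ha h) (hb h)
        simpa [mul_assoc] using this
      inv_mem' := fun {a} ha h => by
        have := A.inv_mem (ha h)
        simpa [mul_assoc] using this }
  have hLn : L.Normal := ⟨fun g hg a h => by
    have := hg (a⁻¹ * h)
    simpa [mul_assoc] using this⟩
  have hyL : y ∈ L := by
    intro h
    obtain ⟨c, hcy, hcT⟩ := S.exists_cent_smul hy T₀ (h • T₀)
    have ha : c⁻¹ * h ∈ A := hNA _ (by rw [mul_smul, ← hcT, inv_smul_smul])
    have := A.mul_mem (A.mul_mem (A.inv_mem ha) hyA) ha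
    have e1 : (c⁻¹ * h)⁻¹ * y * (c⁻¹ * h) = h⁻¹ * (c * y * c⁻¹) * h := by group
    rwa [e1, hcy.eq, mul_inv_cancel_right] at this
  refine hy.ne_inv ?_
  have hyc : y ∈ center H := hLodd L hLn ?_ hyL
  · obtain ⟨g, hg⟩ := hy.2.2
    rw [Subgroup.mem_center_iff.1 hyc g, mul_inv_cancel_right] at hg
    exact hg
  -- `L` has odd order
  rw [← Nat.not_even_iff_odd, even_iff_two_dvd]
  intro h2L
  obtain ⟨⟨s, hsL⟩, hs2⟩ := exists_prime_orderOf_dvd_card' (G := L) 2 h2L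
  rw [Subgroup.orderOf_mk] at hs2
  obtain ⟨n, hn, hVn⟩ := S.card_eq_two_pow_even
  have hfs : Nat.card (fixE V s) = 2 ^ n := by
    obtain ⟨a, ha⟩ := exists_card_eq_two_pow S.char2 (fixE V s)
    have := S.card_fixE_sq hs2
    rw [ha, hVn, ← pow_add] at this
    rw [ha, show a = n by have := Nat.pow_right_injective (le_refl 2) this; omega]
  have hcS := S.card_sub_one (fixE V s) T₀ fun v hv hv0 T hT w hw =>
    hw s (S.mem_of_twoEl hv0 (Setup.le_stabilizer_of_mem_fixS S hT) (twoEl_of_orderOf_two hs2) hv)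
  have hcX := S.card_sub_one X T₀ hXsyl
  have hcV := S.card_sub_one_univ T₀
  rw [hfs, hUcard T₀] at hcS
  rw [R.fix2, hUcard T₀] at hcX
  rw [hVn, hUcard T₀] at hcV
  -- a surjection onto the Sylow subgroups
  choose hrep hhrep using fun T : Sylow 2 H => MulAction.exists_smul_eq H T₀ T
  have hNle : Nat.card (Sylow 2 H) ≤
      Nat.card ({T : Sylow 2 H // fixS V (T : Subgroup H) ≤ fixE V s} ×
        {T : Sylow 2 H // fixS V (T : Subgroup H) ≤ X}) := by
    refine Nat.card_le_card_of_surjective (fun p => hrep p.1.1 • p.2.1) fun T => ?_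
    set h := hrep T
    have hsh : h⁻¹ * s * h ∈ A := hsL h
    have hXne : X ≠ ⊥ := fun h0 => by
      obtain ⟨v, hv, hne⟩ := hτX
      rw [h0, AddSubgroup.mem_bot] at hv
      exact hne (by rw [hv, smul_zero])
    obtain ⟨v, hv, hv0, hvfix⟩ := exists_fixed_ne_zero S.char2
      (g := h⁻¹ * s * h) (by simpa using (twoEl_of_orderOf_two hs2).conj h⁻¹) X hXne
      fun w hw => (mem_stabX.1 hsh w).2 hw
    obtain ⟨R₀, hR₀⟩ := S.exists_sylow_le hv0
    have hR₀X : fixS V (R₀ : Subgroup H) ≤ X := hXsyl v hv hv0 R₀ fun g hg => hR₀ hg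
    have hsR₀ : h⁻¹ * s * h ∈ R₀ :=
      S.mem_of_twoEl hv0 hR₀ (by simpa using (twoEl_of_orderOf_two hs2).conj h⁻¹) hvfix
    have hRs : fixS V ((h • R₀ : Sylow 2 H) : Subgroup H) ≤ fixE V s := fun w hw =>
      hw s (mem_smul_sylow.2 hsR₀)
    obtain ⟨c, -, hcτ, hcR⟩ := R.trans_fixed hτ2 R.normC_sq (pow_mem hτT₀ 2) ((hmem R₀).2 hR₀X)
    set h' := hrep (h • R₀)
    have hh' : h⁻¹ * h' ∈ A := by
      have hn : (h * c)⁻¹ * h' ∈ A := hNA _ (by
        rw [mul_smul, hhrep, inv_smul_eq_iff, mul_smul, hcR])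
      have := A.mul_mem (hcommA c hcτ) hn
      simpa [mul_assoc] using this
    refine ⟨(⟨h • R₀, hRs⟩, ⟨(h'⁻¹ * h) • T₀, (hmem _).1
      (hAmem _ (by simpa using A.inv_mem hh') _ (pow_mem hτT₀ 2))⟩), ?_⟩
    show h' • (h'⁻¹ * h) • T₀ = T
    rw [← mul_smul, mul_inv_cancel_left, hhrep]
  rw [Nat.card_prod] at hNle
  have hE := Nat.two_pow_pos e
  have hN := Nat.two_pow_pos n
  -- `(2^n)^2 - 1 ≤ (2^n - 1)(2^e + 1)`
  have hle : 2 * e ≤ 2 * n := by
    have := Nat.card_le_card_of_injective _ (Subtype.val_injective (p := fun v => v ∈ X))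
    rw [R.fix2, hVn] at this
    exact (Nat.pow_le_pow_iff_right (le_refl 2)).1 this
  set M := Nat.card {T : Sylow 2 H // fixS V (T : Subgroup H) ≤ fixE V s}
  set N2 := Nat.card {T : Sylow 2 H // fixS V (T : Subgroup H) ≤ X}
  set N := Nat.card (Sylow 2 H)
  have hq2 : 2 ≤ 2 ^ e := by
    calc 2 = 2 ^ 1 := rfl
      _ ≤ 2 ^ e := Nat.pow_le_pow_right two_pos R.epos
  obtain ⟨a, ha⟩ : ∃ a, 2 ^ e = a + 1 := ⟨_, (Nat.succ_pred_eq_of_pos hE).symm⟩
  obtain ⟨b, hb⟩ : ∃ b, 2 ^ n = b + 1 := ⟨_, (Nat.succ_pred_eq_of_pos hN).symm⟩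
  rw [two_mul, pow_add, ha] at hcX
  rw [two_mul, pow_add, ha, hb] at hcV
  rw [ha, hb] at hcS
  simp only [Nat.add_sub_cancel] at hcX hcV hcS
  rw [show (a + 1) * (a + 1) - 1 = a * (a + 2) by
    rw [show (a + 1) * (a + 1) = a * (a + 2) + 1 by ring, Nat.add_sub_cancel]] at hcX
  rw [show (b + 1) * (b + 1) - 1 = b * (b + 2) by
    rw [show (b + 1) * (b + 1) = b * (b + 2) + 1 by ring, Nat.add_sub_cancel]] at hcV
  have ha0 : 0 < a := by omega
  have hN2 : N2 = a + 2 := Nat.eq_of_mul_eq_mul_right ha0 (by rw [← hcX]; ring)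
  have hb0 : 0 < b := by
    have := Nat.pow_le_pow_right two_pos hn
    omega
  have hba : b ≤ a := by
    have h1 : b * (b + 2) ≤ b * (a + 2) := by
      calc b * (b + 2) = N * a := hcV
        _ ≤ M * N2 * a := Nat.mul_le_mul hNle le_rfl
        _ = (M * a) * N2 := by ring
        _ = b * (a + 2) := by rw [← hcS, hN2]
    have := Nat.le_of_mul_le_mul_left h1 hb0
    omega
  have hne : n ≤ e := (Nat.pow_le_pow_iff_right (le_refl 2)).1 (by omega)
  exact hfull (by rw [hVn, show n = e by omega])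

end Rotor

end Cfsg.Agent.Lib.RealGraph56
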