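import Cfsg.Agent.Lib.RealGraph56.Count
import Cfsg.Agent.Lib.RealGraph56.OddNormal

/-!
An element whose order is a primitive prime divisor of `2 ^ d - 1` generates a field of linear maps;
its normaliser provides the data of the counting argument.
-/

set_option autoImplicit false
set_option linter.style.haveILetI false
set_option linter.unusedSectionVars false

namespace Cfsg.Agent.Lib.RealGraph56

open Subgroup
open scoped Pointwise IsMulCommutative

variable {H : Type*} [Group H] [Finite H] {V : Type*} [AddCommGroup V] [Finite V]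
  [DistribMulAction H V] [Module (ZMod 2) V]

/-- An element as a linear map. -/
def rho (V : Type*) [AddCommGroup V] [DistribMulAction H V] [Module (ZMod 2) V] (g : H) :
    Module.End (ZMod 2) V :=
  (DistribSMul.toAddMonoidHom V g).toZModLinearMap 2

theorem rho_apply (g : H) (v : V) : rho V g v = g • v := rfl

theorem rho_mul (g h : H) : rho V (g * h) = rho V g * rho V h :=
  LinearMap.ext fun v => mul_smul g h v

theorem rho_one : rho V (1 : H) = 1 := LinearMap.ext fun v => one_smul H v

theorem rho_pow (g : H) (n : ℕ) : rho V (g ^ n) = rho V g ^ n := by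
  induction n with
  | zero => rw [pow_zero, pow_zero, rho_one]
  | succ n ih => rw [pow_succ, pow_succ, rho_mul, ih]

/-- The algebra generated by an element. -/
abbrev alg (V : Type*) [AddCommGroup V] [DistribMulAction H V] [Module (ZMod 2) V] (z : H) :
    Subalgebra (ZMod 2) (Module.End (ZMod 2) V) :=
  Algebra.adjoin (ZMod 2) {rho V z}

theorem rho_mem_alg (z : H) : rho V z ∈ alg V z := Algebra.subset_adjoin rfl

/-- Conjugation by an element, on linear maps. -/
def conjAlg (V : Type*) [AddCommGroup V] [Finite V] [DistribMulAction H V] [Module (ZMod 2) V]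
    (g : H) :
    Module.End (ZMod 2) V →ₐ[ZMod 2] Module.End (ZMod 2) V where
  toFun a := rho V g * a * rho V g⁻¹
  map_one' := by rw [mul_one, ← rho_mul, mul_inv_cancel, rho_one]
  map_mul' a b := by
    rw [show rho V g * (a * b) * rho V g⁻¹ = rho V g * (a * (rho V g⁻¹ * rho V g) * b) * rho V g⁻¹ by
      rw [← rho_mul, inv_mul_cancel, rho_one, mul_one]]
    simp only [mul_assoc]
  map_zero' := by rw [mul_zero, zero_mul]
  map_add' a b := by rw [mul_add, add_mul]
  commutes' r := by
    rw [← Algebra.commutes r (rho V g), mul_assoc, ← rho_mul, mul_inv_cancel, rho_one, mul_one]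

/-- A primitive prime divisor of `|V| - 1 = 2 ^ d - 1`. -/
structure Zsig (V : Type*) (p d : ℕ) : Prop where
  card : Nat.card V = 2 ^ d
  prime : p.Prime
  dvd : p ∣ 2 ^ d - 1
  prim : ∀ k, 0 < k → k < d → ¬ p ∣ 2 ^ k - 1
  dpos : 0 < d

variable {p d : ℕ}

theorem Zsig.ne_two (Z : Zsig V p d) : p ≠ 2 := by
  intro h
  have h1 := h ▸ Z.dvd
  have h2 : 2 ∣ 2 ^ d := dvd_pow_self 2 Z.dpos.ne'
  have h3 := Nat.two_pow_pos d
  omega

theorem Zsig.lt (Z : Zsig V p d) : d < p := by
  haveI := Fact.mk Z.prime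
  have hF : p ∣ 2 ^ (p - 1) - 1 := by
    rw [← ZMod.natCast_eq_zero_iff, Nat.cast_sub (Nat.one_le_two_pow), Nat.cast_pow,
      Nat.cast_one, sub_eq_zero]
    refine ZMod.pow_card_sub_one_eq_one fun h => Z.ne_two ?_
    exact (Nat.prime_dvd_prime_iff_eq Z.prime Nat.prime_two).1
      ((ZMod.natCast_eq_zero_iff 2 p).1 h)
  have hg := Nat.dvd_gcd Z.dvd hF
  rw [Nat.pow_sub_one_gcd_pow_sub_one] at hg
  have hp1 : 0 < p - 1 := by have := Z.prime.two_le; omega
  have hd : d.gcd (p - 1) = d := by
    by_contra hne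
    exact Z.prim _ (Nat.gcd_pos_of_pos_left _ Z.dpos)
      (lt_of_le_of_ne (Nat.gcd_le_left _ Z.dpos) hne) hg
  have := Nat.le_of_dvd hp1 (hd ▸ Nat.gcd_dvd_right d (p - 1))
  omega

variable (S : Setup H V) (Z : Zsig V p d)

section element

variable {z : H} (hz : orderOf z = p)

include S Z hz

theorem fixE_bot {v : V} (hv : z • v = v) : v = 0 := by
  haveI := Fact.mk Z.prime
  let φ : V →+ V := DistribSMul.toAddMonoidHom V z + AddMonoidHom.id V
  have hneg : ∀ w : V, -w = w := fun w => neg_eq_of_add_eq_zero_left (S.char2 w)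
  have hsub : ∀ a b : V, a + b = 0 ↔ a = b := fun a b => by rw [add_eq_zero_iff_eq_neg, hneg]
  have hfree : ∀ w ∈ φ.range, z • w = w → w = 0 := by
    rintro _ ⟨u, rfl⟩ hw
    set w := φ u with hwdef
    have hzu : z • u = u + w := by
      show z • u = u + (z • u + u)
      rw [add_left_comm, S.char2, add_zero]
    have hi : ∀ i : ℕ, z ^ i • u = u + i • w := by
      intro i
      induction i with
      | zero => simp
      | succ i ih =>
        rw [pow_succ', mul_smul, ih, smul_add, hzu, succ_nsmul]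
        rw [show z • i • w = i • w from by rw [smul_comm, hw]]
        abel
    have h1 := hi p
    rw [← hz, pow_orderOf_eq_one, one_smul, hz, left_eq_add] at h1
    obtain ⟨m, hm⟩ := Z.prime.odd_of_ne_two Z.ne_two
    rwa [hm, succ_nsmul, mul_nsmul, show (2 : ℕ) • w = 0 by rw [two_nsmul, S.char2],
      nsmul_zero, zero_add] at h1
  have hstab : ∀ w ∈ φ.range, z • w ∈ φ.range := by
    rintro _ ⟨u, rfl⟩
    exact ⟨z • u, show z • z • u + z • u = z • (z • u + u) by rw [smul_add]⟩
  have hdvd := dvd_card_sub_one Z.prime (x := z) (by rw [← hz, pow_orderOf_eq_one]) φ.range hstab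
    hfree
  obtain ⟨j, hj⟩ := exists_card_eq_two_pow S.char2 φ.range
  rw [hj] at hdvd
  have hjd : j ≤ d := by
    have := Nat.card_le_card_of_injective _ (Subtype.val_injective (p := fun w => w ∈ φ.range))
    rw [hj, Z.card] at this
    exact (Nat.pow_le_pow_iff_right (le_refl 2)).1 this
  rcases Nat.eq_zero_or_pos j with hj0 | hj0
  · exfalso
    have hbot : φ.range = ⊥ := AddSubgroup.card_eq_one.1 (by rw [hj, hj0, pow_zero])
    have : z = 1 := S.faithful z fun u => (hsub _ _).1
      ((AddSubgroup.eq_bot_iff_forall _).1 hbot _ ⟨u, rfl⟩)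
    rw [this, orderOf_one] at hz
    exact Z.prime.ne_one hz.symm
  · obtain rfl : j = d := by
      by_contra hne
      exact Z.prim j hj0 (by omega) hdvd
    have hsurj : Function.Surjective φ := fun w => by
      have : φ.range = ⊤ := AddSubgroup.eq_top_of_card_eq _ (by rw [hj, Z.card])
      exact (this ▸ AddSubgroup.mem_top w : w ∈ φ.range)
    exact (Finite.injective_iff_surjective.2 hsurj) (show φ v = φ 0 by
      rw [map_zero]; exact (hsub _ _).2 hv)

theorem irreducible (X : AddSubgroup V) (hX : ∀ v ∈ X, z • v ∈ X) : X = ⊥ ∨ X = ⊤ := by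
  have hdvd := dvd_card_sub_one Z.prime (x := z) (by rw [← hz, pow_orderOf_eq_one]) X hX
    fun v _ hv => fixE_bot S Z hz hv
  obtain ⟨j, hj⟩ := exists_card_eq_two_pow S.char2 X
  rw [hj] at hdvd
  rcases Nat.eq_zero_or_pos j with hj0 | hj0
  · exact Or.inl (AddSubgroup.card_eq_one.1 (by rw [hj, hj0, pow_zero]))
  · refine Or.inr (AddSubgroup.eq_top_of_card_eq X ?_)
    have hjd : j ≤ d := by
      have := Nat.card_le_card_of_injective _ (Subtype.val_injective (p := fun w => w ∈ X))
      rw [hj, Z.card] at this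
      exact (Nat.pow_le_pow_iff_right (le_refl 2)).1 this
    rw [hj, Z.card]
    by_contra hne
    exact Z.prim j hj0 (lt_of_le_of_ne hjd fun e => hne (by rw [e])) hdvd

theorem alg_comm {a : Module.End (ZMod 2) V} (ha : a ∈ alg V z) :
    a * rho V z = rho V z * a :=
  congrArg Subtype.val (mul_comm (⟨a, ha⟩ : alg V z) ⟨rho V z, rho_mem_alg z⟩)

theorem alg_injective {a : Module.End (ZMod 2) V} (ha : a ∈ alg V z) (ha0 : a ≠ 0) :
    Function.Injective a := by
  have hker := irreducible S Z hz a.toAddMonoidHom.ker fun v (hv : a v = 0) => show a (z • v) = 0 by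
    have := LinearMap.congr_fun (alg_comm S Z hz ha) v
    rw [Module.End.mul_apply, Module.End.mul_apply, rho_apply, hv, map_zero] at this
    exact this
  rcases hker with h | h
  · exact (AddMonoidHom.ker_eq_bot_iff a.toAddMonoidHom).1 h
  · refine absurd (LinearMap.ext fun v => ?_) ha0
    have hv : v ∈ a.toAddMonoidHom.ker := h ▸ AddSubgroup.mem_top v
    exact hv

theorem isField_alg : IsField (alg V z) := by
  haveI : Nontrivial V := by
    obtain ⟨v, hv⟩ := S.exists_ne_zero
    exact ⟨⟨v, 0, hv⟩⟩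
  haveI : Finite (Module.End (ZMod 2) V) := Finite.of_injective _ DFunLike.coe_injective
  haveI : NoZeroDivisors (alg V z) := ⟨fun {a b} h => by
    by_contra hc
    push Not at hc
    refine hc.2 (Subtype.ext (LinearMap.ext fun v => ?_))
    refine alg_injective S Z hz a.2 (fun e => hc.1 (Subtype.ext e)) ?_
    have := LinearMap.congr_fun (congrArg Subtype.val h) v
    simpa using this⟩
  haveI : IsDomain (alg V z) := NoZeroDivisors.to_isDomain _
  exact Finite.isField_of_domain _

theorem eval_bijective {v : V} (hv : v ≠ 0) :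
    Function.Bijective fun a : alg V z => (a : Module.End (ZMod 2) V) v := by
  constructor
  · intro a b h
    by_contra hne
    refine hv (alg_injective S Z hz (a - b).2 (fun e => hne (sub_eq_zero.1 (Subtype.ext e))) ?_)
    have h' : (a : Module.End (ZMod 2) V) v = (b : Module.End (ZMod 2) V) v := h
    simp [h']
  · let W : AddSubgroup V :=
      { carrier := {w | ∃ a : alg V z, (a : Module.End (ZMod 2) V) v = w}
        zero_mem' := ⟨0, by simp⟩
        add_mem' := fun {x y} ⟨a, ha⟩ ⟨b, hb⟩ => ⟨a + b, by simp [ha, hb]⟩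
        neg_mem' := fun {x} ⟨a, ha⟩ => ⟨-a, by simp [ha]⟩ }
    rcases irreducible S Z hz W (fun w ⟨a, ha⟩ => ⟨⟨rho V z, rho_mem_alg z⟩ * a, by
      simp [ha, rho_apply]⟩) with h | h
    · exact absurd ((AddSubgroup.eq_bot_iff_forall _).1 h v ⟨1, by simp⟩) hv
    · exact fun w => (h ▸ AddSubgroup.mem_top w : w ∈ W)

theorem card_alg : Nat.card (alg V z) = 2 ^ d := by
  obtain ⟨v, hv⟩ := S.exists_ne_zero
  rw [Nat.card_eq_of_bijective _ (eval_bijective S Z hz hv), Z.card]

theorem rho_mem_of_commute {a : H} (ha : Commute a z) : rho V a ∈ alg V z := by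
  obtain ⟨v, hv⟩ := S.exists_ne_zero
  obtain ⟨k, hk⟩ := (eval_bijective S Z hz hv).2 (a • v)
  have hcomm : ∀ b : alg V z, (b : Module.End (ZMod 2) V) * rho V a = rho V a * b := by
    rintro ⟨b, hb⟩
    induction hb using Algebra.adjoin_induction with
    | mem x hx =>
      show x * rho V a = rho V a * x
      rw [Set.mem_singleton_iff.1 hx, ← rho_mul, ← rho_mul, ha.eq]
    | algebraMap r => exact Algebra.commutes r _
    | add x y _ _ hx hy =>
      show (x + y) * rho V a = rho V a * (x + y)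
      rw [add_mul, mul_add, hx, hy]
    | mul x y _ _ hx hy =>
      show x * y * rho V a = rho V a * (x * y)
      rw [mul_assoc, hy, ← mul_assoc, hx, mul_assoc]
  have : rho V a = k := by
    refine LinearMap.ext fun w => ?_
    obtain ⟨b, rfl⟩ := (eval_bijective S Z hz hv).2 w
    have h1 := LinearMap.congr_fun (hcomm b) v
    rw [Module.End.mul_apply, Module.End.mul_apply, rho_apply a v, ← hk] at h1
    rw [← h1]
    exact LinearMap.congr_fun (congrArg Subtype.val (mul_comm b k)) v
  rw [this]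
  exact k.2

/-- The centraliser of `z` is a subgroup of the multiplicative group of the field. -/
theorem centralizer_facts : IsCyclic (centralizer ({z} : Set H)) ∧
    ∀ a : H, Commute a z → a ^ (2 ^ d - 1) = 1 := by
  letI : Field (alg V z) := (isField_alg S Z hz).toField
  let f : centralizer ({z} : Set H) →* alg V z :=
    { toFun := fun a => ⟨rho V a, rho_mem_of_commute S Z hz
        (Subgroup.mem_centralizer_singleton_iff.1 a.2)⟩
      map_one' := Subtype.ext rho_one
      map_mul' := fun a b => Subtype.ext (rho_mul _ _) }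
  have hf : Function.Injective f := fun a b h => Subtype.ext (inv_mul_eq_one.1
    (S.faithful ((a : H)⁻¹ * b) fun v => by
      have := LinearMap.congr_fun (congrArg Subtype.val h) v
      rw [mul_smul, ← show (a : H) • v = (b : H) • v from this, inv_smul_smul]))
  haveI : Finite (Module.End (ZMod 2) V) := Finite.of_injective _ DFunLike.coe_injective
  refine ⟨isCyclic_of_injective_ringHom f hf, fun a ha => ?_⟩
  letI : Fintype (alg V z) := Fintype.ofFinite _
  set a' : centralizer ({z} : Set H) := ⟨a, Subgroup.mem_centralizer_singleton_iff.2 ha⟩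
  have hne : f a' ≠ 0 := (IsUnit.map f (Group.isUnit a')).ne_zero
  have h1 := FiniteField.pow_card_sub_one_eq_one (f a') hne
  rw [← Nat.card_eq_fintype_card, card_alg S Z hz, ← map_pow, ← map_one f] at h1
  exact congrArg Subtype.val (hf h1)

theorem odd_centralizer : Odd (Nat.card (centralizer ({z} : Set H))) := by
  haveI : Fact (Nat.Prime 2) := ⟨Nat.prime_two⟩
  rw [← Nat.not_even_iff_odd, even_iff_two_dvd]
  intro h
  obtain ⟨⟨a, ha⟩, ha2⟩ := exists_prime_orderOf_dvd_card' (G := centralizer ({z} : Set H)) 2 h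
  rw [Subgroup.orderOf_mk] at ha2
  have h2 := orderOf_dvd_of_pow_eq_one
    ((centralizer_facts S Z hz).2 a (Subgroup.mem_centralizer_singleton_iff.1 ha))
  rw [ha2] at h2
  have h3 : 2 ∣ 2 ^ d := dvd_pow_self 2 Z.dpos.ne'
  have h4 := Nat.two_pow_pos d
  omega

theorem uniq_zpowers (a b : H) (ha : Commute a z) (hb : Commute b z) (hab : orderOf b = orderOf a) :
    b ∈ zpowers a := by
  haveI := (centralizer_facts S Z hz).1
  set a' : centralizer ({z} : Set H) := ⟨a, Subgroup.mem_centralizer_singleton_iff.2 ha⟩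
  set b' : centralizer ({z} : Set H) := ⟨b, Subgroup.mem_centralizer_singleton_iff.2 hb⟩
  have this : b' ∈ zpowers a' := by
    classical
    letI : Fintype (centralizer ({z} : Set H)) := Fintype.ofFinite _
    set n := orderOf a'
    let s : Finset (centralizer ({z} : Set H)) := Finset.univ.filter fun x => x ∈ zpowers a'
    let t : Finset (centralizer ({z} : Set H)) := Finset.univ.filter fun x => x ^ n = 1
    have hst : s ⊆ t := fun x hx => by
      obtain ⟨i, rfl⟩ := Subgroup.mem_zpowers_iff.1 (Finset.mem_filter.1 hx).2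
      simp only [t, Finset.mem_filter, Finset.mem_univ, true_and]
      rw [← zpow_natCast, ← zpow_mul, mul_comm, zpow_mul, zpow_natCast, pow_orderOf_eq_one,
        one_zpow]
    have hs : s.card = n := by
      rw [← Fintype.card_subtype, ← Nat.card_eq_fintype_card]
      exact Nat.card_zpowers a'
    have heq := Finset.eq_of_subset_of_card_le hst
      ((IsCyclic.card_pow_eq_one_le (orderOf_pos a')).trans hs.ge)
    have hbt : b' ∈ t := by
      simp only [t, Finset.mem_filter, Finset.mem_univ, true_and]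
      have hn : orderOf b' = n := by
        simp only [n, a', b', Subgroup.orderOf_mk, hab]
      rw [← hn, pow_orderOf_eq_one]
    rw [← heq] at hbt
    exact (Finset.mem_filter.1 hbt).2
  obtain ⟨i, hi⟩ := Subgroup.mem_zpowers_iff.1 this
  exact ⟨i, by simpa [a', b'] using congrArg Subtype.val hi⟩

end element

section main

variable {z : H}

include S Z

theorem exists_element : ∃ z : H, orderOf z = p ∧ p ∣ Nat.card (Sylow 2 H) := by
  haveI := Fact.mk Z.prime
  haveI : Fact (Nat.Prime 2) := ⟨Nat.prime_two⟩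
  obtain ⟨T⟩ : Nonempty (Sylow 2 H) := inferInstance
  obtain ⟨e, he⟩ := exists_card_eq_two_pow S.char2 (fixS V (T : Subgroup H))
  have hcard := S.card_sub_one_univ T
  rw [Z.card, he] at hcard
  have hdvd : p ∣ Nat.card (Sylow 2 H) := by
    refine (Z.prime.dvd_mul.1 (hcard ▸ Z.dvd)).resolve_right ?_
    have he0 : 0 < e := by
      obtain ⟨v, hv, hv0⟩ := S.exists_mem_fixS T
      refine Nat.pos_of_ne_zero fun h => hv0 ?_
      exact (AddSubgroup.eq_bot_iff_forall _).1
        (AddSubgroup.card_eq_one.1 (by rw [he, h, pow_zero])) v hv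
    refine Z.prim e he0 (lt_of_le_of_ne ?_ fun h => S.fixS_ne_top T
      (AddSubgroup.eq_top_of_card_eq _ (by rw [he, h, Z.card])))
    have := Nat.card_le_card_of_injective _
      (Subtype.val_injective (p := fun w => w ∈ fixS V (T : Subgroup H)))
    rw [he, Z.card] at this
    exact (Nat.pow_le_pow_iff_right (le_refl 2)).1 this
  have hH : p ∣ Nat.card H := by
    refine hdvd.trans ?_
    rw [Sylow.card_eq_index_normalizer T]
    exact Subgroup.index_dvd_card _
  obtain ⟨z, hz⟩ := exists_prime_orderOf_dvd_card' p hH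
  exact ⟨z, hz, hdvd⟩

variable (hz : orderOf z = p) (hpN : p ∣ Nat.card (Sylow 2 H))

include hz hpN

/-- The Sylow `p`-subgroup above `z` is cyclic and centralises `z`. -/
theorem sylow_le_centralizer (P : Subgroup H) (hP : IsPGroup p P) (hzP : z ∈ P) :
    P ≤ centralizer ({z} : Set H) ∧ ∀ w ∈ P, orderOf w = p → w ∈ zpowers z := by
  haveI := Fact.mk Z.prime
  haveI : Nontrivial P := ⟨⟨⟨z, hzP⟩, 1, fun h => Z.prime.ne_one
    (hz ▸ orderOf_eq_one_iff.2 (congrArg Subtype.val h))⟩⟩
  have hcn := hP.center_nontrivial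
  obtain ⟨k, hk⟩ := (hP.to_subgroup (center P)).exists_card_eq
  have hdvd : p ∣ Nat.card (center P) := by
    rw [hk]
    refine dvd_pow_self p fun h0 => ?_
    rw [h0, pow_zero] at hk
    exact (Finite.one_lt_card_iff_nontrivial.2 hcn).ne' hk
  obtain ⟨⟨⟨c, hcP⟩, hcc⟩, hc⟩ := exists_prime_orderOf_dvd_card' (G := center P) p hdvd
  rw [Subgroup.orderOf_mk, Subgroup.orderOf_mk] at hc
  have hcomm : ∀ w ∈ P, Commute w c := fun w hw =>
    congrArg Subtype.val (Subgroup.mem_center_iff.1 hcc ⟨w, hw⟩)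
  haveI := (centralizer_facts S Z hc).1
  have hzc : Commute z c := hcomm z hzP
  refine ⟨fun w hw => Subgroup.mem_centralizer_singleton_iff.2 ?_, fun w hw hwp =>
    uniq_zpowers S Z hc z w hzc (hcomm w hw) (hwp.trans hz.symm)⟩
  have h1 : Commute (⟨w, Subgroup.mem_centralizer_singleton_iff.2 (hcomm w hw)⟩ :
      centralizer ({c} : Set H)) ⟨z, Subgroup.mem_centralizer_singleton_iff.2 hzc⟩ := by
    haveI := IsCyclic.isMulCommutative (α := centralizer ({c} : Set H))
    exact mul_comm' _ _
  exact (congrArg Subtype.val h1.eq : _)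

theorem exists_conj_commute {x : H} (hx : RealPrime x) : ∃ h : H, Commute (h * x * h⁻¹) z := by
  haveI := Fact.mk Z.prime
  obtain ⟨P, hP⟩ := (IsPGroup.of_card (G := zpowers z) (n := 1)
    (by rw [Nat.card_zpowers, hz, pow_one])).exists_le_sylow
  obtain ⟨h, hh⟩ := ClassSizes.NonAdjacent.exists_conj_mem_centralizer P
    (S.not_dvd_index_centralizer hx Z.prime hpN)
  exact ⟨h⁻¹, by
    rw [inv_inv]
    exact ((Subgroup.mem_centralizer_iff.1 hh z (hP (mem_zpowers z))).symm : _)⟩

theorem exists_inverter {x : H} (hx : RealPrime x) (hxz : Commute x z) :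
    ∃ g : H, TwoEl g ∧ g * z * g⁻¹ ∈ zpowers z ∧ g * x * g⁻¹ = x⁻¹ := by
  haveI := Fact.mk Z.prime
  obtain ⟨g₀, hg₀, hg₀x, -⟩ := exists_twoEl_inverter hx.2.2.choose_spec
  set C := centralizer ({x} : Set H)
  have hzC : z ∈ C := Subgroup.mem_centralizer_singleton_iff.2 hxz.symm
  obtain ⟨P, hP⟩ := (IsPGroup.of_card (G := zpowers (⟨z, hzC⟩ : C)) (n := 1)
    (by rw [Nat.card_zpowers, Subgroup.orderOf_mk, hz, pow_one])).exists_le_sylow
  have hzP : (⟨z, hzC⟩ : C) ∈ P := hP (mem_zpowers _)
  have hgC : ∀ a ∈ C, g₀ * a * g₀⁻¹ ∈ C := fun a ha => by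
    rw [Subgroup.mem_centralizer_singleton_iff] at ha ⊢
    have hc : Commute (g₀ * a * g₀⁻¹) (g₀ * x * g₀⁻¹) :=
      (show Commute a x from ha).map (MulAut.conj g₀).toMonoidHom
    rw [hg₀x, Commute.inv_right_iff] at hc
    exact hc.eq
  let f : C →* C :=
    { toFun := fun a => ⟨g₀ * a * g₀⁻¹, hgC a a.2⟩
      map_one' := Subtype.ext (by simp)
      map_mul' := fun a b => Subtype.ext (by simp [mul_assoc]) }
  have hf : Function.Injective f := fun a b h => Subtype.ext (by
    simpa [f] using congrArg Subtype.val h)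
  let Q : Sylow p C := Sylow.ofCard ((P : Subgroup C).map f) (by
    rw [Subgroup.card_map_of_injective hf, P.card_eq_multiplicity])
  obtain ⟨c, hc⟩ := MulAction.exists_smul_eq C Q P
  set g₁ := (c : H) * g₀
  have hg₁x : g₁ * x * g₁⁻¹ = x⁻¹ := by
    rw [show g₁ * x * g₁⁻¹ = (c : H) * (g₀ * x * g₀⁻¹) * (c : H)⁻¹ by simp [g₁, mul_assoc], hg₀x,
      ← conj_inv, Subgroup.mem_centralizer_singleton_iff.1 c.2, mul_inv_cancel_right]
  have hg₁z : g₁ * z * g₁⁻¹ ∈ zpowers z := by
    refine (sylow_le_centralizer S Z hz hpN ((P : Subgroup C).map C.subtype)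
      (P.2.map C.subtype) ⟨⟨z, hzC⟩, hzP, rfl⟩).2 _ ?_ ?_
    · refine ⟨c * f ⟨z, hzC⟩ * c⁻¹, ?_, by simp [f, g₁, mul_assoc]⟩
      rw [← hc]
      show _ ∈ ((c • Q : Sylow p C) : Subgroup C)
      rw [Sylow.coe_subgroup_smul]
      exact ⟨f ⟨z, hzC⟩, ⟨⟨z, hzC⟩, hzP, rfl⟩, by simp⟩
    · rw [show orderOf (g₁ * z * g₁⁻¹) = orderOf z by
        simpa using MulEquiv.orderOf_eq (MulAut.conj g₁) z, hz]
  obtain ⟨g, hg, hgx, m, rfl⟩ := exists_twoEl_inverter hg₁x
  refine ⟨g₁ ^ m, hg, ?_, hgx⟩
  clear hg hgx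
  induction m with
  | zero => simpa using mem_zpowers z
  | succ m ih =>
    obtain ⟨i, hi⟩ := Subgroup.mem_zpowers_iff.1 ih
    rw [pow_succ', show g₁ * g₁ ^ m * z * (g₁ * g₁ ^ m)⁻¹ =
      g₁ * (g₁ ^ m * z * (g₁ ^ m)⁻¹) * g₁⁻¹ by group, ← hi, ← conj_zpow]
    exact zpow_mem hg₁z i

theorem exists_rotor : ∃ (τ : H) (C : Subgroup H) (e : ℕ), Rotor V τ C e := by
  classical
  haveI := Fact.mk Z.prime
  haveI : Fact (Nat.Prime 2) := ⟨Nat.prime_two⟩
  haveI : Finite (Module.End (ZMod 2) V) := Finite.of_injective _ DFunLike.coe_injective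
  set N := normalizer (zpowers z : Set H)
  set C := centralizer ({z} : Set H)
  -- the action of the normaliser on the field
  have hNz : ∀ g ∈ N, rho V g * rho V z * rho V g⁻¹ ∈ alg V z := fun g hg => by
    obtain ⟨i, hi⟩ := Subgroup.mem_zpowers_iff.1
      ((Subgroup.mem_normalizer_iff.1 hg z).1 (mem_zpowers z))
    rw [← rho_mul, ← rho_mul]
    refine rho_mem_of_commute S Z hz ?_
    rw [← hi]
    exact (Commute.refl z).zpow_left i
  have hNalg : ∀ g ∈ N, ∀ a ∈ alg V z, conjAlg V g a ∈ alg V z := by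
    intro g hg a ha
    have : alg V z ≤ (alg V z).comap (conjAlg V g) :=
      Algebra.adjoin_le (Set.singleton_subset_iff.2 (hNz g hg))
    exact this ha
  letI : Field (alg V z) := (isField_alg S Z hz).toField
  let σ : N → (alg V z →ₐ[ZMod 2] alg V z) := fun g =>
    ((conjAlg V (g : H)).comp (alg V z).val).codRestrict (alg V z) fun a => hNalg g g.2 a a.2
  have hσapply : ∀ (g : N) (a : alg V z) (v : V),
      (σ g a : Module.End (ZMod 2) V) ((g : H) • v) = (g : H) • (a : Module.End (ZMod 2) V) v := by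
    intro g a v
    show (g : H) • (a : Module.End (ZMod 2) V) ((g : H)⁻¹ • (g : H) • v) = _
    rw [inv_smul_smul]
  haveI : Finite (alg V z) := Finite.of_injective _ Subtype.val_injective
  let ψ : N →* (alg V z ≃ₐ[ZMod 2] alg V z) :=
    { toFun := fun g => AlgEquiv.ofBijective (σ g)
        (Finite.injective_iff_bijective.1 (σ g).injective)
      map_one' := AlgEquiv.ext fun a => Subtype.ext (LinearMap.ext fun v => by
        have := hσapply 1 a v
        simpa using this)
      map_mul' := fun g h => AlgEquiv.ext fun a => Subtype.ext (LinearMap.ext fun v => by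
        obtain ⟨w, rfl⟩ : ∃ w, ((g * h : N) : H) • w = v := ⟨_, smul_inv_smul _ v⟩
        show (σ (g * h) a : Module.End (ZMod 2) V) (((g * h : N) : H) • w) =
          (σ g (σ h a) : Module.End (ZMod 2) V) (((g * h : N) : H) • w)
        rw [hσapply, Subgroup.coe_mul, mul_smul, mul_smul, hσapply, hσapply]) }
  have hψker : ∀ g : N, ψ g = 1 → Commute (g : H) z := by
    intro g hg
    have h1 : σ g ⟨rho V z, rho_mem_alg z⟩ = ⟨rho V z, rho_mem_alg z⟩ := AlgEquiv.congr_fun hg _
    refine (inv_mul_eq_one.1 (S.faithful ((z * (g : H))⁻¹ * ((g : H) * z)) fun v => ?_)).symm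
    have := hσapply g ⟨rho V z, rho_mem_alg z⟩ v
    rw [h1] at this
    rw [mul_smul, inv_smul_eq_iff, mul_smul, mul_smul]
    exact this.symm
  obtain ⟨R⟩ : Nonempty (Sylow 2 N) := inferInstance
  have hRinj : Function.Injective (ψ.comp (R : Subgroup N).subtype) := by
    rw [← MonoidHom.ker_eq_bot_iff, Subgroup.eq_bot_iff_forall]
    intro g hg
    have hg2 : TwoEl ((g : N) : H) := by
      obtain ⟨k, hk⟩ := IsPGroup.iff_orderOf.1 R.2 g
      exact ⟨k, by rw [Subgroup.orderOf_coe, Subgroup.orderOf_coe, hk]⟩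
    refine Subtype.ext (Subtype.ext (eq_one_of_twoEl_of_odd hg2 (orderOf_odd_of_mem
      (odd_centralizer S Z hz) (Subgroup.mem_centralizer_singleton_iff.2 (hψker g hg)))))
  haveI hRc : IsCyclic (R : Subgroup N) := isCyclic_of_injective _ hRinj
  obtain ⟨t, ht⟩ := hRc.exists_generator
  obtain ⟨k, hk⟩ := IsPGroup.iff_orderOf.1 R.2 t
  set τ : H := ((t : N) : H)
  have hτ : orderOf τ = 2 ^ k := by rw [Subgroup.orderOf_coe, Subgroup.orderOf_coe, hk]
  have hσord : orderOf (ψ t) = 2 ^ k := by
    rw [← hk]; exact orderOf_injective _ hRinj t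
  -- each real element has a conjugate in `C` inverted by a power of `τ`
  have hreal : ∀ x : H, RealPrime x → ∃ (h : H) (i : ℤ), Commute (h * x * h⁻¹) z ∧
      τ ^ i * (h * x * h⁻¹) * (τ ^ i)⁻¹ = (h * x * h⁻¹)⁻¹ := by
    intro x hx
    obtain ⟨h, hh⟩ := exists_conj_commute S Z hz hpN hx
    obtain ⟨g, hg2, hgz, hgx⟩ := exists_inverter S Z hz hpN (hx.conj h) hh
    have hgN : g ∈ N := by
      rw [mem_normalizer_iff_map_conj_eq]
      refine Subgroup.eq_of_le_of_card_ge ?_
        (Subgroup.card_map_of_injective (MulAut.conj g).injective).ge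
      rintro _ ⟨a, ha, rfl⟩
      obtain ⟨i, rfl⟩ := Subgroup.mem_zpowers_iff.1 ha
      show g * z ^ i * g⁻¹ ∈ zpowers z
      rw [← conj_zpow]
      exact zpow_mem hgz i
    have hgp : IsPGroup 2 (zpowers (⟨g, hgN⟩ : N)) := by
      obtain ⟨j, hj⟩ := hg2
      exact IsPGroup.of_card (n := j) (by rw [Nat.card_zpowers, Subgroup.orderOf_mk, hj])
    obtain ⟨Q, hQ⟩ := hgp.exists_le_sylow
    obtain ⟨m, hm⟩ := MulAction.exists_smul_eq N Q R
    have hmg : m * ⟨g, hgN⟩ * m⁻¹ ∈ R := by
      rw [← hm]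
      show _ ∈ ((m • Q : Sylow 2 N) : Subgroup N)
      rw [Sylow.coe_subgroup_smul]
      exact ⟨_, hQ (mem_zpowers _), by simp⟩
    obtain ⟨i, hi⟩ := Subgroup.mem_zpowers_iff.1 (ht ⟨_, hmg⟩)
    refine ⟨(m : H) * h, i, ?_, ?_⟩
    · obtain ⟨j, hj⟩ := Subgroup.mem_zpowers_iff.1
        ((Subgroup.mem_normalizer_iff''.1 m.2 z).1 (mem_zpowers z))
      have e : z = (m : H) * (z ^ j) * (m : H)⁻¹ := by rw [hj]; group
      rw [e, show (m : H) * h * x * ((m : H) * h)⁻¹ = (m : H) * (h * x * h⁻¹) * (m : H)⁻¹ by group]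
      exact (hh.zpow_right j).map (MulAut.conj (m : H)).toMonoidHom
    · have e : τ ^ i = (m : H) * g * (m : H)⁻¹ := by
        have := congrArg (fun u : (R : Subgroup N) => ((u : N) : H)) hi
        simpa [τ] using this
      rw [e, show (m : H) * g * (m : H)⁻¹ * ((m : H) * h * x * ((m : H) * h)⁻¹) *
        ((m : H) * g * (m : H)⁻¹)⁻¹ = (m : H) * (g * (h * x * h⁻¹) * g⁻¹) * (m : H)⁻¹ by group, hgx]
      group
  -- `τ ≠ 1`, so `k` is positive
  have hk0 : k ≠ 0 := by
    rintro rfl
    obtain ⟨i₀, hi₀⟩ := S.exists_involution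
    obtain ⟨y, hy, -⟩ := S.exists_inverted hi₀
    obtain ⟨h, i, -, hinv⟩ := hreal y hy
    rw [pow_zero, orderOf_eq_one_iff] at hτ
    rw [hτ, one_zpow, one_mul, inv_one, mul_one] at hinv
    exact (hy.conj h).ne_inv hinv
  obtain ⟨k, rfl⟩ := Nat.exists_eq_succ_of_ne_zero hk0
  -- `z` is real
  have hzreal : RealPrime z := by
    refine ⟨hz ▸ Z.prime, hz ▸ Z.ne_two, τ ^ 2 ^ k, ?_⟩
    set u : N := (t : N) ^ 2 ^ k
    obtain ⟨j, hj⟩ := Subgroup.mem_zpowers_iff.1
      ((Subgroup.mem_normalizer_iff.1 u.2 z).1 (mem_zpowers z))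
    have hu : (u : H) = τ ^ 2 ^ k := by simp [u, τ]
    rw [hu] at hj
    have hsq : (τ ^ 2 ^ k) * (τ ^ 2 ^ k) = 1 := by
      rw [← pow_add, ← two_mul, ← pow_succ', ← hτ, pow_orderOf_eq_one]
    have hnc : ¬ Commute (τ ^ 2 ^ k) z := fun hc => by
      have h1 := eq_one_of_twoEl_of_odd (TwoEl.pow ⟨_, hτ⟩ (2 ^ k))
        (orderOf_odd_of_mem (odd_centralizer S Z hz)
          (Subgroup.mem_centralizer_singleton_iff.2 hc))
      have h2 := orderOf_dvd_of_pow_eq_one h1
      rw [hτ] at h2
      exact absurd (Nat.le_of_dvd (Nat.two_pow_pos k) h2)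
        (not_le.2 (Nat.pow_lt_pow_right one_lt_two (Nat.lt_succ_self k)))
    have hjj : z ^ (j * j) = z := by
      rw [zpow_mul, hj, conj_zpow, hj,
        show τ ^ 2 ^ k * (τ ^ 2 ^ k * z * (τ ^ 2 ^ k)⁻¹) * (τ ^ 2 ^ k)⁻¹ =
          (τ ^ 2 ^ k * τ ^ 2 ^ k) * z * (τ ^ 2 ^ k * τ ^ 2 ^ k)⁻¹ by group, hsq, one_mul, inv_one,
        mul_one]
    have hj2 : (p : ℤ) ∣ (j - 1) * (j + 1) := by
      rw [← hz]
      refine orderOf_dvd_iff_zpow_eq_one.2 ?_
      rw [show (j - 1) * (j + 1) = j * j - 1 by ring, zpow_sub_one, hjj, mul_inv_cancel]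
    rcases (Nat.prime_iff_prime_int.1 Z.prime).dvd_mul.1 hj2 with h | h
    · exfalso
      rw [← hz, orderOf_dvd_iff_zpow_eq_one, zpow_sub_one, mul_inv_eq_one] at h
      rw [h] at hj
      exact hnc (mul_inv_eq_iff_eq_mul.1 hj.symm)
    · rw [← hz, orderOf_dvd_iff_zpow_eq_one, zpow_add_one, mul_eq_one_iff_eq_inv] at h
      rw [← hj, h]
  -- fixed points
  obtain ⟨v₀, -, hv₀, hτv₀⟩ := exists_fixed_ne_zero S.char2 (g := τ) ⟨_, hτ⟩ ⊤ (fun h => by
    obtain ⟨v, hv⟩ := S.exists_ne_zero
    exact hv ((AddSubgroup.eq_bot_iff_forall _).1 h v (AddSubgroup.mem_top v))) fun v _ =>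
    AddSubgroup.mem_top _
  haveI : IsGalois (ZMod 2) (alg V z) := inferInstance
  have hfix : ∀ u : N, (u : H) • v₀ = v₀ →
      Nat.card (fixE V (u : H)) ^ orderOf (ψ u) = 2 ^ d := by
    intro u hu
    have e : {a : alg V z // ψ u a = a} ≃ fixE V (u : H) := by
      refine Equiv.ofBijective (fun a => ⟨(a.1 : Module.End (ZMod 2) V) v₀, ?_⟩) ⟨?_, ?_⟩
      · rw [mem_fixE, ← hσapply, hu]
        exact LinearMap.congr_fun (congrArg Subtype.val a.2) v₀
      · intro a b hab
        exact Subtype.ext ((eval_bijective S Z hz hv₀).1 (congrArg Subtype.val hab))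
      · rintro ⟨w, hw⟩
        obtain ⟨a, ha⟩ := (eval_bijective S Z hz hv₀).2 w
        refine ⟨⟨a, (eval_bijective S Z hz hv₀).1 ?_⟩, Subtype.ext ha⟩
        show (σ u a : Module.End (ZMod 2) V) v₀ = (a : Module.End (ZMod 2) V) v₀
        conv_lhs => rw [← hu]
        rw [hσapply]
        rw [show (a : Module.End (ZMod 2) V) v₀ = w from ha]
        exact hw
    set F := IntermediateField.fixedField (zpowers (ψ u))
    have e2 : F ≃ {a : alg V z // ψ u a = a} :=
      { toFun := fun a => ⟨a, (IntermediateField.mem_fixedField_iff _ _).1 a.2 _ (mem_zpowers _)⟩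
        invFun := fun a => ⟨a.1, (IntermediateField.mem_fixedField_iff _ _).2 fun f hf =>
          (zpowers_le.2 (show ψ u ∈ MulAction.stabilizer (alg V z ≃ₐ[ZMod 2] alg V z) a.1 from a.2)
            hf : f ∈ MulAction.stabilizer (alg V z ≃ₐ[ZMod 2] alg V z) a.1)⟩
        left_inv := fun a => rfl
        right_inv := fun a => rfl }
    have h1 := Module.natCard_eq_pow_finrank (K := F) (V := alg V z)
    rw [IntermediateField.finrank_fixedField_eq_card, Nat.card_zpowers, card_alg S Z hz,
      Nat.card_congr (e2.trans e)] at h1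
    exact h1.symm
  obtain ⟨e, he⟩ := exists_card_eq_two_pow S.char2 (fixE V τ)
  have hde : e * 2 ^ (k + 1) = d := by
    have := hfix t hτv₀
    rw [he, hσord, ← pow_mul] at this
    exact Nat.pow_right_injective (le_refl 2) this
  have hfix2 : Nat.card (fixE V (τ ^ 2)) = 2 ^ (2 * e) := by
    obtain ⟨e', he'⟩ := exists_card_eq_two_pow S.char2 (fixE V (τ ^ 2))
    have hu : (((t : N) ^ 2 : N) : H) = τ ^ 2 := by simp [τ]
    have := hfix ((t : N) ^ 2) (by rw [hu]; exact smul_eq_of_pow hτv₀ 2)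
    rw [hu, he', map_pow, orderOf_pow' _ two_ne_zero, hσord, ← pow_mul] at this
    have h2 : Nat.gcd (2 ^ (k + 1)) 2 = 2 := Nat.gcd_eq_right (dvd_pow_self 2 (Nat.succ_ne_zero k))
    rw [h2, pow_succ, Nat.mul_div_cancel _ two_pos] at this
    have h3 : e' * 2 ^ k = d := Nat.pow_right_injective (le_refl 2) this
    have h4 : e' = 2 * e := Nat.eq_of_mul_eq_mul_right (Nat.two_pow_pos k)
      (by rw [h3, ← hde, pow_succ]; ring)
    rw [he', h4]
  have hepos : 0 < e := by
    rcases Nat.eq_zero_or_pos e with h | h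
    · rw [h, zero_mul] at hde
      exact absurd hde Z.dpos.ne
    · exact h
  refine ⟨τ, C, e, ⟨_, hτ⟩, odd_centralizer S Z hz, ?_, ?_, he, hfix2, hepos, ?_⟩
  · intro c hc
    obtain ⟨j, hj⟩ := Subgroup.mem_zpowers_iff.1
      ((Subgroup.mem_normalizer_iff''.1 ((t : N)).2 z).1 (mem_zpowers z))
    rw [Subgroup.mem_centralizer_singleton_iff] at hc ⊢
    have e1 : z = τ * (z ^ j) * τ⁻¹ := by rw [hj]; simp [τ, mul_assoc]
    show Commute (τ * c * τ⁻¹) z
    rw [e1]
    exact ((show Commute c z from hc).zpow_right j).map (MulAut.conj τ).toMonoidHom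
  · intro T T'
    obtain ⟨c, hc, hcT⟩ := S.exists_cent_smul hzreal T T'
    exact ⟨c, Subgroup.mem_centralizer_singleton_iff.2 hc, hcT⟩
  · intro x hx hdvd
    obtain ⟨h, i, hxz, hinv⟩ := hreal x hx
    set y := h * x * h⁻¹
    have hy : RealPrime y := hx.conj h
    have hy1 : y ^ 2 ^ e = y := by
      have h0 : y ^ (2 ^ e - 1) = 1 := by
        rw [← orderOf_dvd_iff_pow_eq_one, show orderOf y = orderOf x by
          simpa [y] using MulEquiv.orderOf_eq (MulAut.conj h) x]
        exact hdvd
      calc y ^ 2 ^ e = y ^ (2 ^ e - 1 + 1) := by rw [Nat.sub_add_cancel Nat.one_le_two_pow]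
        _ = y := by rw [pow_succ, h0, one_mul]
    set a : alg V z := ⟨rho V y, rho_mem_of_commute S Z hz hxz⟩
    have ha : a ^ 2 ^ e = a := Subtype.ext (by
      rw [SubmonoidClass.coe_pow, ← rho_pow, hy1])
    -- the roots of `X ^ 2 ^ e - X` are exactly the fixed points
    set F := IntermediateField.fixedField (zpowers (ψ t))
    have hFcard : Nat.card F = 2 ^ e := by
      have h1 := Module.natCard_eq_pow_finrank (K := F) (V := alg V z)
      rw [IntermediateField.finrank_fixedField_eq_card, Nat.card_zpowers, card_alg S Z hz, hσord,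
        ← hde, pow_mul] at h1
      exact (Nat.pow_left_injective (Nat.two_pow_pos _).ne' h1).symm
    have hFroot : ∀ b ∈ F, b ^ 2 ^ e = b := by
      intro b hb
      letI : Fintype F := Fintype.ofFinite F
      have := FiniteField.pow_card (⟨b, hb⟩ : F)
      rw [← Nat.card_eq_fintype_card, hFcard] at this
      exact congrArg Subtype.val this
    have haF : a ∈ F := by
      by_contra haF
      letI : Fintype (alg V z) := Fintype.ofFinite _
      let s : Finset (alg V z) := insert a (Finset.univ.filter (· ∈ F))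
      have hs : s.card = 2 ^ e + 1 := by
        rw [Finset.card_insert_of_notMem (by simp [haF]), ← hFcard, Nat.card_eq_fintype_card,
          Fintype.card_subtype]
      have hsz : 1 < 2 ^ e := Nat.one_lt_two_pow hepos.ne'
      have hle : s.card ≤ (Polynomial.X ^ 2 ^ e - Polynomial.X :
          Polynomial (alg V z)).natDegree := by
        refine Polynomial.card_le_degree_of_subset_roots fun b hb => ?_
        rw [Polynomial.mem_roots (FiniteField.X_pow_card_sub_X_ne_zero _ hsz)]
        have hbe : b ^ 2 ^ e = b := by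
          rcases Finset.mem_insert.1 hb with rfl | hb
          · exact ha
          · exact hFroot b (Finset.mem_filter.1 hb).2
        simp [hbe]
      rw [FiniteField.X_pow_card_sub_X_natDegree_eq _ hsz, hs] at hle
      omega
    -- so `τ` commutes with `y`
    have hτy : Commute τ y := by
      refine (inv_mul_eq_one.1 (S.faithful ((y * τ)⁻¹ * (τ * y)) fun v => ?_)).symm
      have h1 := hσapply t a v
      have h2 : σ t a = a := (IntermediateField.mem_fixedField_iff _ _).1 haF _ (mem_zpowers _)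
      rw [h2] at h1
      rw [mul_smul, inv_smul_eq_iff, mul_smul τ y, mul_smul y τ]
      exact h1.symm
    rw [(hτy.zpow_left i).eq, mul_inv_cancel_right] at hinv
    exact hy.ne_inv hinv

theorem prim : Prim V z where
  prime := hz ▸ Z.prime
  big := by rw [Z.card, hz]; exact Nat.pow_lt_pow_right one_lt_two Z.lt
  irr := irreducible S Z hz
  uniq a b ha hb _ hab := uniq_zpowers S Z hz a b ha hb hab
  conjReal x hx := exists_conj_commute S Z hz hpN hx

end main

/-- With a primitive prime divisor there is no perfect group as in `Setup`. -/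
theorem false_of_zsig (S : Setup H V) (Z : Zsig V p d) : False := by
  obtain ⟨z, hz, hpN⟩ := exists_element S Z
  obtain ⟨τ, C, e, R⟩ := exists_rotor S Z hz hpN
  exact R.false S fun _ L hL hLo => (prim S Z hz hpN).le_center S L hL hLo

end Cfsg.Agent.Lib.RealGraph56
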