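import Cfsg.Agent.Lib.RealGraph56.Basic

/-!
Class sizes of real elements: parity, normal subgroups, quotients, lifts.
-/

set_option autoImplicit false
set_option linter.style.haveILetI false
set_option linter.unusedSectionVars false

namespace Cfsg.Agent.Lib.RealGraph56

open Subgroup
open scoped Pointwise

variable {G : Type*} [Group G] [Finite G]

/-- The class size. -/
noncomputable abbrev idx (x : G) : ℕ := (centralizer ({x} : Set G)).index

theorem card_conj (x : G) : Nat.card {w : G // IsConj x w} = idx x := by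
  have hmem : ∀ c, c ∈ centralizer ({x} : Set G) ↔ c * x * c⁻¹ = x := fun c => by
    rw [Subgroup.mem_centralizer_singleton_iff, mul_inv_eq_iff_eq_mul]
  let f : G ⧸ centralizer ({x} : Set G) → {w : G // IsConj x w} :=
    Quotient.lift (fun g => (⟨g * x * g⁻¹, isConj_iff.2 ⟨g, rfl⟩⟩ : {w : G // IsConj x w}))
      fun a b h => Subtype.ext (by
        have h2 := (hmem _).1 (QuotientGroup.leftRel_apply.1 h)
        calc a * x * a⁻¹ = a * (a⁻¹ * b * x * (a⁻¹ * b)⁻¹) * a⁻¹ := by rw [h2]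
          _ = b * x * b⁻¹ := by group)
  refine (Nat.card_congr (Equiv.ofBijective f ⟨?_, ?_⟩)).symm
  · intro a b
    induction a using QuotientGroup.induction_on with | _ a => ?_
    induction b using QuotientGroup.induction_on with | _ b => ?_
    intro h
    refine QuotientGroup.eq.2 ((hmem _).2 ?_)
    have h' : a * x * a⁻¹ = b * x * b⁻¹ := congrArg Subtype.val h
    calc a⁻¹ * b * x * (a⁻¹ * b)⁻¹ = a⁻¹ * (b * x * b⁻¹) * a := by group
      _ = x := by rw [← h']; group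
  · rintro ⟨w, hw⟩
    obtain ⟨g, rfl⟩ := isConj_iff.1 hw
    exact ⟨(g : G ⧸ centralizer ({x} : Set G)), rfl⟩

theorem idx_eq_of_isConj {x y : G} (h : IsConj x y) : idx y = idx x := by
  rw [← card_conj, ← card_conj]
  exact Nat.card_congr (Equiv.subtypeEquivRight fun w =>
    ⟨fun h' => h.trans h', fun h' => h.symm.trans h'⟩)

theorem even_idx {g y : G} (h : g * y * g⁻¹ = y⁻¹) (hy : y ^ 2 ≠ 1) : Even (idx y) := by
  by_contra hodd
  rw [← card_conj, Nat.not_even_iff_odd] at hodd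
  have hinv : ∀ w : G, IsConj y w → IsConj y w⁻¹ := fun w hw => by
    obtain ⟨a, rfl⟩ := isConj_iff.1 hw
    refine isConj_iff.2 ⟨a * g, ?_⟩
    rw [show a * g * y * (a * g)⁻¹ = a * (g * y * g⁻¹) * a⁻¹ by group, h]
    group
  let f : Equiv.Perm {w : G // IsConj y w} :=
    { toFun := fun w => ⟨(w : G)⁻¹, hinv _ w.2⟩
      invFun := fun w => ⟨(w : G)⁻¹, hinv _ w.2⟩
      left_inv := fun w => Subtype.ext (inv_inv _)
      right_inv := fun w => Subtype.ext (inv_inv _) }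
  obtain ⟨⟨w, hw⟩, hwf⟩ := exists_fixed_of_odd hodd f 1
    (Equiv.ext fun w => Subtype.ext (by simp [pow_two, f]))
  have hw1 : w⁻¹ = w := congrArg Subtype.val hwf
  obtain ⟨a, rfl⟩ := isConj_iff.1 hw
  apply hy
  have h2 : (a * y * a⁻¹) ^ 2 = 1 := by
    rw [sq]
    nth_rewrite 1 [← hw1]
    exact inv_mul_cancel _
  rw [conj_pow] at h2
  exact mul_eq_left.1 (mul_inv_eq_one.1 h2)

theorem idx_dvd_of_normal {M : Subgroup G} [M.Normal] (y : M) :
    (centralizer ({y} : Set M)).index ∣ idx (y : G) := by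
  have e : centralizer ({y} : Set M) = (centralizer ({(y : G)} : Set G)).subgroupOf M := by
    ext c
    rw [Subgroup.mem_subgroupOf, Subgroup.mem_centralizer_singleton_iff,
      Subgroup.mem_centralizer_singleton_iff]
    exact Subtype.ext_iff
  rw [e]
  change (centralizer ({(y : G)} : Set G)).relIndex M ∣ _
  set C := centralizer ({(y : G)} : Set G)
  have h1 : C.relIndex M * M.index = M.relIndex C * C.index := by
    rw [← Subgroup.inf_relIndex_right, relIndex_mul_index inf_le_right,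
      ← Subgroup.inf_relIndex_right M C, relIndex_mul_index inf_le_right, inf_comm]
  refine Nat.dvd_of_mul_dvd_mul_right (Nat.pos_of_ne_zero M.index_ne_zero_of_finite) ?_
  rw [h1, mul_comm C.index]
  exact Nat.mul_dvd_mul_right (relIndex_dvd_index_of_normal M C) _

theorem idx_map_dvd {H : Type*} [Group H] [Finite H] {φ : G →* H} (hφ : Function.Surjective φ)
    (y : G) : idx (φ y) ∣ idx y := by
  refine (index_dvd_of_le ?_).trans (index_map_dvd _ hφ)
  rintro _ ⟨c, hc, rfl⟩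
  rw [Subgroup.mem_centralizer_singleton_iff, ← map_mul, ← map_mul,
    Subgroup.mem_centralizer_singleton_iff.1 hc]

/-- Real elements lift through a kernel of odd order. -/
theorem exists_lift_of_odd {H : Type*} [Group H] [Finite H] {φ : G →* H}
    (hφ : Function.Surjective φ) (hk : Odd (Nat.card φ.ker)) {g q : H}
    (h : g * q * g⁻¹ = q⁻¹) : ∃ y g' : G, φ y = q ∧ g' * y * g'⁻¹ = y⁻¹ := by
  obtain ⟨g₀, hg₀⟩ := hφ g
  obtain ⟨m, hm, hm2⟩ := exists_twoEl_pow g₀
  set g₁ := g₀ ^ m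
  have hg₁ : φ g₁ * q * (φ g₁)⁻¹ = q⁻¹ := by
    rw [map_pow, hg₀]; exact odd_pow_inverts hm h
  obtain ⟨y₀, hy₀⟩ := hφ q
  obtain ⟨y, hy, hy'⟩ := exists_inverted_mem hm2 {w | φ w = q}
    (fun w (hw : φ w = q) => show φ (g₁ * w * g₁⁻¹)⁻¹ = q by
      rw [map_inv, map_mul, map_mul, map_inv, hw, hg₁, inv_inv]) (by
      rw [show Nat.card {w : G | φ w = q} = Nat.card φ.ker from Nat.card_congr
        { toFun := fun w => ⟨y₀⁻¹ * w.1, by
            show φ (y₀⁻¹ * w.1) = 1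
            rw [map_mul, map_inv, hy₀, show φ w.1 = q from w.2, inv_mul_cancel]⟩
          invFun := fun w => ⟨y₀ * w.1, by
            show φ (y₀ * w.1) = q
            rw [map_mul, hy₀, show φ w.1 = 1 from w.2, mul_one]⟩
          left_inv := fun w => Subtype.ext (mul_inv_cancel_left y₀ w.1)
          right_inv := fun w => Subtype.ext (inv_mul_cancel_left y₀ w.1) }]
      exact hk)
  exact ⟨y, g₁, hy, hy'⟩

/-- A real element of odd prime order lifts to a real element of odd order. -/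
theorem exists_lift_realPrime {H : Type*} [Group H] [Finite H] {φ : G →* H}
    (hφ : Function.Surjective φ) {q : H} (hq : RealPrime q) :
    ∃ y g : G, φ y = q ∧ g * y * g⁻¹ = y⁻¹ ∧ Odd (orderOf y) ∧ y ^ 2 ≠ 1 := by
  obtain ⟨g, hg⟩ := hq.2.2
  set r := orderOf q with hr
  haveI := Fact.mk hq.1
  obtain ⟨g₀, hg₀⟩ := hφ g
  set M := (zpowers q).comap φ with hM
  have hgM : ∀ a ∈ M, g₀ * a * g₀⁻¹ ∈ M := fun a (ha : φ a ∈ zpowers q) => by
    show φ (g₀ * a * g₀⁻¹) ∈ zpowers q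
    obtain ⟨i, hi⟩ := Subgroup.mem_zpowers_iff.1 ha
    rw [map_mul, map_mul, map_inv, hg₀, ← hi, ← conj_zpow, hg]
    exact zpow_mem (inv_mem (mem_zpowers q)) i
  -- an `r`-element over `q`
  obtain ⟨w₀, hw₀, k, hk⟩ : ∃ w : G, φ w = q ∧ ∃ k, orderOf w = r ^ k := by
    obtain ⟨y₀, hy₀⟩ := hφ q
    set o := orderOf y₀
    have ho : o ≠ 0 := (orderOf_pos y₀).ne'
    set b := o / r ^ o.factorization r
    have hcop : r.Coprime b := (Nat.coprime_ordCompl hq.1 ho)
    obtain ⟨c, hc⟩ : ∃ c : ℕ, b * c % r = 1 := by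
      obtain ⟨c, -, hc⟩ := Nat.exists_mul_mod_eq_one_of_coprime hcop.symm hq.1.one_lt
      exact ⟨c, hc⟩
    refine ⟨y₀ ^ (b * c), ?_, ?_⟩
    · rw [map_pow, hy₀, ← pow_mod_orderOf, ← hr, hc, pow_one]
    · obtain ⟨k, -, hk⟩ := (Nat.dvd_prime_pow hq.1).1 (orderOf_dvd_of_pow_eq_one
        (x := y₀ ^ (b * c)) (n := r ^ o.factorization r) (by
          rw [← pow_mul, show b * c * r ^ o.factorization r = r ^ o.factorization r * b * c by ring,
            show r ^ o.factorization r * b = o from Nat.mul_div_cancel' (Nat.ordProj_dvd o r),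
            pow_mul, pow_orderOf_eq_one, one_pow]))
      exact ⟨k, hk⟩
  have hw₀M : w₀ ∈ M := show φ w₀ ∈ zpowers q from hw₀.symm ▸ mem_zpowers q
  obtain ⟨P, hP⟩ := (IsPGroup.of_card (G := zpowers (⟨w₀, hw₀M⟩ : M)) (n := k)
    (by rw [Nat.card_zpowers, Subgroup.orderOf_mk, hk])).exists_le_sylow
  let f : M →* M :=
    { toFun := fun a => ⟨g₀ * a * g₀⁻¹, hgM a a.2⟩
      map_one' := Subtype.ext (by simp)
      map_mul' := fun a b => Subtype.ext (by simp [mul_assoc]) }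
  have hf : Function.Injective f := fun a b h => Subtype.ext (by
    simpa [f] using congrArg Subtype.val h)
  let Q : Sylow r M := Sylow.ofCard ((P : Subgroup M).map f) (by
    rw [Subgroup.card_map_of_injective hf, P.card_eq_multiplicity])
  obtain ⟨c, hc⟩ := MulAction.exists_smul_eq M Q P
  set P' := (P : Subgroup M).map M.subtype
  set g₁ := (c : G) * g₀
  have hg₁P : ∀ a ∈ P', g₁ * a * g₁⁻¹ ∈ P' := by
    rintro _ ⟨a, ha, rfl⟩
    refine ⟨c * f a * c⁻¹, ?_, by simp [f, g₁, mul_assoc]⟩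
    rw [← hc]
    show _ ∈ ((c • Q : Sylow r M) : Subgroup M)
    rw [Sylow.coe_subgroup_smul]
    exact ⟨f a, ⟨a, ha, rfl⟩, by simp⟩
  have hg₁q : φ g₁ * q * (φ g₁)⁻¹ = q⁻¹ := by
    obtain ⟨i, hi⟩ := Subgroup.mem_zpowers_iff.1 (show φ (c : G) ∈ zpowers q from c.2)
    rw [map_mul, hg₀, ← hi, show q ^ i * g * q * (q ^ i * g)⁻¹ = q ^ i * (g * q * g⁻¹) * (q ^ i)⁻¹ by
      group, hg]
    group
  obtain ⟨m, hm, hm2⟩ := exists_twoEl_pow g₁
  have hg₂q : φ (g₁ ^ m) * q * (φ (g₁ ^ m))⁻¹ = q⁻¹ := by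
    rw [map_pow]; exact odd_pow_inverts hm hg₁q
  have hg₂P : ∀ (m : ℕ), ∀ a ∈ P', g₁ ^ m * a * (g₁ ^ m)⁻¹ ∈ P' := by
    intro m
    induction m with
    | zero => intro a ha; simpa using ha
    | succ m ih =>
      intro a ha
      rw [pow_succ', show g₁ * g₁ ^ m * a * (g₁ * g₁ ^ m)⁻¹ =
        g₁ * (g₁ ^ m * a * (g₁ ^ m)⁻¹) * g₁⁻¹ by group]
      exact hg₁P _ (ih a ha)
  have hP'p : IsPGroup r P' := P.2.map _
  have hw₀P : w₀ ∈ P' := ⟨⟨w₀, hw₀M⟩, hP (mem_zpowers _), rfl⟩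
  obtain ⟨y, ⟨hyP, hyq⟩, hy⟩ := exists_inverted_mem hm2 {w | w ∈ P' ∧ φ w = q}
    (fun w ⟨hw1, hw2⟩ => ⟨P'.inv_mem (hg₂P m w hw1), by
      rw [map_inv, map_mul, map_mul, map_inv, hw2, hg₂q, inv_inv]⟩) (by
      rw [show Nat.card {w : G | w ∈ P' ∧ φ w = q} = Nat.card (P' ⊓ φ.ker : Subgroup G) from
        Nat.card_congr
        { toFun := fun w => ⟨w₀⁻¹ * w.1, P'.mul_mem (P'.inv_mem hw₀P) w.2.1, by
            show φ (w₀⁻¹ * w.1) = 1
            rw [map_mul, map_inv, hw₀, w.2.2, inv_mul_cancel]⟩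
          invFun := fun w => ⟨w₀ * w.1, P'.mul_mem hw₀P w.2.1, by
            rw [map_mul, hw₀, show φ w.1 = 1 from w.2.2, mul_one]⟩
          left_inv := fun w => Subtype.ext (mul_inv_cancel_left w₀ w.1)
          right_inv := fun w => Subtype.ext (inv_mul_cancel_left w₀ w.1) }]
      obtain ⟨j, hj⟩ := (hP'p.to_le inf_le_left : IsPGroup r (P' ⊓ φ.ker : Subgroup G)).exists_card_eq
      rw [hj]
      exact hq.odd.pow)
  have hyodd : Odd (orderOf y) := by
    obtain ⟨j, hj⟩ := IsPGroup.iff_orderOf.1 hP'p ⟨y, hyP⟩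
    rw [Subgroup.orderOf_mk] at hj
    rw [hj]
    exact hq.odd.pow
  refine ⟨y, g₁ ^ m, hyq, hy, hyodd, fun h => hq.sq_ne_one ?_⟩
  rw [← hyq, ← map_pow, h, map_one]

end Cfsg.Agent.Lib.RealGraph56
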