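import Cfsg.Agent.Lib.RealGraph56.Field
import Cfsg.Agent.Lib.NumberTheory.Zsigmondy

/-!
No perfect nontrivial group satisfies `Setup`: Zsigmondy, and the case of dimension six by hand.
-/

set_option autoImplicit false
set_option linter.style.haveILetI false
set_option linter.unusedSectionVars false

namespace Cfsg.Agent.Lib.RealGraph56

open Subgroup
open scoped Pointwise

variable {H : Type*} [Group H] [Finite H] {V : Type*} [AddCommGroup V] [Finite V]
  [DistribMulAction H V]

/-- The value at `v` of `1 + x + x³`. -/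
def cubicA (x : H) (v : V) : V := v + x • v + x • x • x • v

/-- The value at `v` of `1 + x² + x³`. -/
def cubicB (x : H) (v : V) : V := v + x • x • v + x • x • x • v

namespace Setup

variable (S : Setup H V)

include S

theorem not_seven (hV : Nat.card V = 64) {x : H} (hx : RealPrime x) : orderOf x ≠ 7 := by
  intro h7
  have h2 : ∀ w : V, w + w = 0 := S.char2
  have hx7 : ∀ w : V, x • x • x • x • x • x • x • w = w := fun w => by
    simp only [← mul_smul]
    rw [show x * (x * (x * (x * (x * (x * x))))) = x ^ 7 by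
      simp only [pow_succ, pow_zero, one_mul, mul_assoc], ← h7, pow_orderOf_eq_one, one_smul]
  have hx6 : ∀ w : V,
      w + x • w + x • x • w + x • x • x • w + x • x • x • x • w + x • x • x • x • x • w +
        x • x • x • x • x • x • w = 0 := fun w => by
    refine S.free x hx _ ?_
    simp only [smul_add, hx7]
    abel
  have hBA : ∀ w : V, cubicB x (cubicA x w) = 0 := fun w => by
    have h : cubicB x (cubicA x w) =
        (w + x • w + x • x • w + x • x • x • w + x • x • x • x • w + x • x • x • x • x • w +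
          x • x • x • x • x • x • w) + (x • x • x • w + x • x • x • w) := by
      simp only [cubicA, cubicB, smul_add]
      abel
    rw [h, hx6, h2, add_zero]
  -- the kernel of the first cubic
  let Y : AddSubgroup V :=
    { carrier := {v | cubicA x v = 0}
      zero_mem' := by simp [cubicA]
      add_mem' := fun {a b} (ha : cubicA x a = 0) (hb : cubicA x b = 0) =>
        show cubicA x (a + b) = 0 by
          rw [show cubicA x (a + b) = cubicA x a + cubicA x b by
            simp only [cubicA, smul_add]; abel, ha, hb, add_zero]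
      neg_mem' := fun {a} (ha : cubicA x a = 0) => show cubicA x (-a) = 0 by
        rw [neg_eq_of_add_eq_zero_left (h2 a)]; exact ha }
  -- it is everything or nothing
  obtain ⟨g, hg⟩ := hx.2.2
  have hgx : ∀ w : V, g • x • w = x⁻¹ • g • w := fun w => by
    rw [← mul_smul, ← mul_smul, mul_inv_eq_iff_eq_mul.1 hg]
  have hswap : ∀ w : V, x • x • x • g • cubicA x w = cubicB x (g • w) := fun w => by
    simp only [cubicA, cubicB, smul_add, hgx, smul_inv_smul]
    abel
  have hswap' : ∀ w : V, x • x • x • g • cubicB x w = cubicA x (g • w) := fun w => by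
    simp only [cubicA, cubicB, smul_add, hgx, smul_inv_smul]
    abel
  have hAzero : ∀ w : V, cubicA x w = 0 ↔ cubicB x (g • w) = 0 := fun w => by
    rw [← hswap, smul_eq_zero_iff_eq, smul_eq_zero_iff_eq, smul_eq_zero_iff_eq,
      smul_eq_zero_iff_eq]
  have hstab : ∀ c : H, Commute c x → ∀ v ∈ Y, c • v ∈ Y := by
    intro c hc v hv
    have hcx : ∀ w : V, x • c • w = c • x • w := fun w => by rw [← mul_smul, ← hc.eq, mul_smul]
    show cubicA x (c • v) = 0
    rw [show cubicA x (c • v) = c • cubicA x v by simp only [cubicA, hcx, smul_add],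
      show cubicA x v = 0 from hv, smul_zero]
  by_cases hY : Y = ⊤
  · -- both cubics vanish, so `x` fixes every vector
    have hA : ∀ w : V, cubicA x w = 0 := fun w => (hY ▸ AddSubgroup.mem_top w : w ∈ Y)
    have hB : ∀ w : V, cubicB x w = 0 := fun w => by
      have := (hAzero (g⁻¹ • w)).1 (hA _)
      rwa [smul_inv_smul] at this
    obtain ⟨v, hv⟩ := S.exists_ne_zero
    refine hv (S.free x hx v (smul_left_cancel x ?_))
    have h1 : cubicA x v + cubicB x v = (x • v + x • x • v) + (v + v) +
        (x • x • x • v + x • x • x • v) := by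
      simp only [cubicA, cubicB]; abel
    simp only [hA, hB, h2, add_zero] at h1
    have h3 : x • v = -(x • x • v) := eq_neg_of_add_eq_zero_left h1.symm
    rw [neg_eq_of_add_eq_zero_left (h2 _)] at h3
    exact h3.symm
  obtain ⟨w, hw⟩ : ∃ w ∈ Y, w ≠ 0 := by
    by_contra hc
    push Not at hc
    have hinj : ∀ w : V, cubicA x w = 0 → w = 0 := fun w hw => hc w hw
    -- the second cubic is then surjective and kills everything
    obtain ⟨v, hv⟩ := S.exists_ne_zero
    have hBinj : ∀ w : V, cubicB x w = 0 → w = 0 := fun w hw => by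
      have h1 : cubicA x (g • w) = 0 := by
        rw [← hswap', hw, smul_zero, smul_zero, smul_zero, smul_zero]
      exact (smul_eq_zero_iff_eq g).1 (hinj _ h1)
    exact hv (hinj v (hBinj _ (hBA v)))
  -- `Y` has exactly eight elements, but meets every fixed space
  obtain ⟨j, hj⟩ := exists_card_eq_two_pow S.char2 Y
  have hjlt : j < 6 := by
    have hle := Nat.card_le_card_of_injective _ (Subtype.val_injective (p := fun w => w ∈ Y))
    rw [hj, hV, show 64 = 2 ^ 6 from rfl] at hle
    refine lt_of_le_of_ne ((Nat.pow_le_pow_iff_right (le_refl 2)).1 hle) fun h => hY ?_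
    exact AddSubgroup.eq_top_of_card_eq Y (by rw [hj, h, hV]; rfl)
  have hdvd : 7 ∣ 2 ^ j - 1 := hj ▸ dvd_card_sub_one (by norm_num)
    (by rw [← h7, pow_orderOf_eq_one]) Y (hstab x (Commute.refl x)) fun v _ hv => S.free x hx v hv
  have hj0 : j ≠ 0 := by
    rintro rfl
    exact hw.2 ((AddSubgroup.eq_bot_iff_forall _).1
      (AddSubgroup.card_eq_one.1 (by rw [hj, pow_zero])) w hw.1)
  have hj3 : j = 3 := by
    interval_cases j <;> simp_all
  subst hj3
  haveI : Fact (Nat.Prime 2) := ⟨Nat.prime_two⟩
  obtain ⟨T, hT⟩ := S.exists_sylow_le hw.2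
  obtain ⟨i, hi⟩ := exists_prime_orderOf_dvd_card' (G := T) 2
    (T.dvd_card_of_dvd_card (even_iff_two_dvd.1 S.even_card))
  have hisq := S.card_fixE_sq (i := (i : H)) (by rw [Subgroup.orderOf_coe]; exact hi)
  have hT8 : Nat.card (fixS V (T : Subgroup H)) ≤ 8 := by
    have hle := AddSubgroup.card_le_of_le
      (show fixS V (T : Subgroup H) ≤ fixE V (i : H) from fun v hv => hv _ i.2)
    rw [hV] at hisq
    nlinarith
  have hN := S.card_sub_one_univ T
  rw [hV] at hN
  have hN9 : 9 ≤ Nat.card (Sylow 2 H) := by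
    set q := Nat.card (fixS V (T : Subgroup H))
    set N := Nat.card (Sylow 2 H)
    by_contra hlt
    have : N * (q - 1) ≤ 8 * 7 := Nat.mul_le_mul (by omega) (by omega)
    omega
  have hall : ∀ T' : Sylow 2 H, ∃ v : Y, v ≠ 0 ∧ (v : V) ∈ fixS V (T' : Subgroup H) := by
    intro T'
    obtain ⟨c, hc, hcT⟩ := S.exists_cent_smul hx T T'
    refine ⟨⟨c • w, hstab c hc w hw.1⟩, fun e => hw.2 ?_, ?_⟩
    · exact (smul_eq_zero_iff_eq c).1 (congrArg Subtype.val e)
    · rw [← hcT, mem_fixS_smul, inv_smul_smul]
      exact fun a ha => hT ha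
  choose φ hφ0 hφ using hall
  have hinj : Function.Injective (fun T' => (⟨φ T', hφ0 T'⟩ : {v : Y // v ≠ 0})) := by
    intro T₁ T₂ h
    have h' : φ T₁ = φ T₂ := congrArg Subtype.val h
    refine S.sylow_unique (v := (φ T₁ : V)) (fun e => hφ0 T₁ (Subtype.ext e))
      (Setup.le_stabilizer_of_mem_fixS S (hφ T₁)) ?_
    rw [h']
    exact Setup.le_stabilizer_of_mem_fixS S (hφ T₂)
  have hle := Nat.card_le_card_of_injective _ hinj
  have hc7 : Nat.card {v : Y // v ≠ 0} = 7 := by
    classical
    haveI := Fintype.ofFinite Y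
    rw [Nat.card_eq_fintype_card, Fintype.card_subtype_compl, Fintype.card_subtype_eq,
      ← Nat.card_eq_fintype_card, hj]
    rfl
  omega

theorem exists_rotor_six (hV : Nat.card V = 2 ^ 6) :
    ∃ (τ : H) (C : Subgroup H), Rotor V τ C 3 := by
  haveI : Fact (Nat.Prime 2) := ⟨Nat.prime_two⟩
  have hprimes : ∀ x : H, RealPrime x → orderOf x = 3 := by
    intro x hx
    have h63 : orderOf x ∣ 2 ^ 6 - 1 := by
      have := dvd_card_sub_one hx.1 (pow_orderOf_eq_one x) (⊤ : AddSubgroup V)
        (fun v _ => AddSubgroup.mem_top _) (fun v _ hv => S.free x hx v hv)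
      rwa [AddSubgroup.card_top, hV] at this
    have h7 := S.not_seven hV hx
    have hle : orderOf x ≤ 63 := Nat.le_of_dvd (by norm_num) h63
    have hp := hx.1
    generalize orderOf x = r at *
    interval_cases r <;> norm_num at *
  have hfix3 : ∀ i : H, orderOf i = 2 → Nat.card (fixE V i) = 2 ^ 3 := by
    intro i hi
    obtain ⟨a, ha⟩ := exists_card_eq_two_pow S.char2 (fixE V i)
    have := S.card_fixE_sq hi
    rw [ha, hV, ← pow_add] at this
    rw [ha, show a = 3 by have := Nat.pow_right_injective (le_refl 2) this; omega]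
  obtain ⟨i₀, hi₀⟩ := S.exists_involution
  obtain ⟨x, hx, hix⟩ := S.exists_inverted hi₀
  set C := centralizer ({x} : Set H)
  have hC : Odd (Nat.card C) := by
    rw [← Nat.not_even_iff_odd, even_iff_two_dvd]
    intro h
    obtain ⟨⟨j, hjC⟩, hj⟩ := exists_prime_orderOf_dvd_card' (G := C) 2 h
    rw [Subgroup.orderOf_mk] at hj
    have hjx : Commute j x := Subgroup.mem_centralizer_singleton_iff.1 hjC
    have h3 := dvd_card_sub_one hx.1 (pow_orderOf_eq_one x) (fixE V j)
      (fun v hv => show j • x • v = x • v by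
        rw [← mul_smul, hjx.eq, mul_smul, mem_fixE.1 hv]) fun v _ hv => S.free x hx v hv
    rw [hfix3 j hj, hprimes x hx] at h3
    norm_num at h3
  refine ⟨i₀, C, twoEl_of_orderOf_two hi₀, hC, fun c hc => ?_, fun T T' => ?_, hfix3 i₀ hi₀, ?_,
    by norm_num, fun y hy hdvd => ?_⟩
  · rw [Subgroup.mem_centralizer_singleton_iff] at hc ⊢
    have h1 : Commute (i₀ * c * i₀⁻¹) (i₀ * x * i₀⁻¹) :=
      (show Commute c x from hc).map (MulAut.conj i₀).toMonoidHom
    rw [hix, Commute.inv_right_iff] at h1
    exact h1.eq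
  · obtain ⟨c, hc, hcT⟩ := S.exists_cent_smul hx T T'
    exact ⟨c, Subgroup.mem_centralizer_singleton_iff.2 hc, hcT⟩
  · rw [sq, Involutions.Basic.invol_mul_self hi₀,
      show fixE V (1 : H) = ⊤ from (AddSubgroup.eq_top_iff' _).2 fun v => one_smul H v,
      AddSubgroup.card_top, hV]
  · rw [hprimes y hy] at hdvd
    norm_num at hdvd

/-- No group satisfies `Setup`. -/
theorem false : False := by
  obtain ⟨n, hn, hV⟩ := S.card_eq_two_pow_even
  letI : Module (ZMod 2) V := AddCommGroup.zmodModule fun v => by rw [two_nsmul]; exact S.char2 v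
  by_cases h6 : 2 * n = 6
  · rw [h6] at hV
    obtain ⟨τ, C, R⟩ := S.exists_rotor_six hV
    exact R.false S fun h => absurd hV h
  · obtain ⟨p, hp, hpd, hprim⟩ := NumberTheory.exists_primitive_prime_divisor (q := 2) (n := 2 * n)
      le_rfl (by omega) (fun h => h6 h.2) (fun ⟨_, m, hm⟩ => by
        rcases Nat.eq_zero_or_pos m with rfl | hm0
        · norm_num at hm
        · have : 2 ∣ 2 ^ m := dvd_pow_self 2 hm0.ne'
          omega)
    exact false_of_zsig S ⟨hV, hp, hpd, hprim, by omega⟩

end Setup

end Cfsg.Agent.Lib.RealGraph56
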