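import Cfsg.Agent.Lib.RealGraph56.Basic

/-!
A perfect group acting on a 2-group so that real elements of odd prime order are fixed point free
and have centralisers transitive on each orbit: the Sylow 2-subgroups and their fixed spaces
partition the nonzero vectors.
-/

set_option autoImplicit false
set_option linter.style.haveILetI false
set_option linter.unusedSectionVars false

namespace Cfsg.Agent.Lib.RealGraph56

open Subgroup
open scoped Pointwise

variable {H : Type*} [Group H] [Finite H] {V : Type*} [AddCommGroup V] [Finite V]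
  [DistribMulAction H V]

/-- Hypotheses on the linear group. -/
structure Setup (H V : Type*) [Group H] [AddCommGroup V] [DistribMulAction H V] : Prop where
  faithful : ∀ h : H, (∀ v : V, h • v = v) → h = 1
  char2 : ∀ v : V, v + v = 0
  perfect : commutator H = ⊤
  nontriv : ∃ h : H, h ≠ 1
  free : ∀ x : H, RealPrime x → ∀ v : V, x • v = v → v = 0
  cop : ∀ x : H, RealPrime x → ∀ v : V, v ≠ 0 →
    (centralizer ({x} : Set H)).index.Coprime (MulAction.stabilizer H v).index
  oddOrbit : ∀ v : V, v ≠ 0 → Odd (MulAction.stabilizer H v).index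

/-- Fixed points of an element. -/
def fixE (V : Type*) [AddCommGroup V] [DistribMulAction H V] (g : H) : AddSubgroup V where
  carrier := {v | g • v = v}
  zero_mem' := smul_zero g
  add_mem' := fun {a b} (ha : g • a = a) (hb : g • b = b) =>
    show g • (a + b) = a + b by rw [smul_add, ha, hb]
  neg_mem' := fun {a} (ha : g • a = a) => show g • -a = -a by rw [smul_neg, ha]

/-- Fixed points of a subgroup. -/
def fixS (V : Type*) [AddCommGroup V] [DistribMulAction H V] (S : Subgroup H) :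
    AddSubgroup V where
  carrier := {v | ∀ g ∈ S, g • v = v}
  zero_mem' := fun g _ => smul_zero g
  add_mem' := fun {a b} ha hb g hg => by rw [smul_add, ha g hg, hb g hg]
  neg_mem' := fun {a} ha g hg => by rw [smul_neg, ha g hg]

/-- The stabiliser of a subgroup of vectors. -/
def stabX (X : AddSubgroup V) : Subgroup H where
  carrier := {h | ∀ v, h • v ∈ X ↔ v ∈ X}
  one_mem' := fun v => by rw [one_smul]
  mul_mem' := fun {a b} ha hb v => by rw [mul_smul, ha (b • v), hb v]
  inv_mem' := fun {a} ha v => by rw [← ha (a⁻¹ • v), smul_inv_smul]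

theorem mem_fixE {g : H} {v : V} : v ∈ fixE V g ↔ g • v = v := Iff.rfl

theorem mem_fixS {S : Subgroup H} {v : V} : v ∈ fixS V S ↔ ∀ g ∈ S, g • v = v := Iff.rfl

theorem mem_stabX {X : AddSubgroup V} {h : H} :
    h ∈ stabX X ↔ ∀ v, h • v ∈ X ↔ v ∈ X := Iff.rfl

theorem stabX_of_le {X : AddSubgroup V} {h : H} (hh : ∀ v ∈ X, h • v ∈ X) : h ∈ stabX X := by
  intro v
  refine ⟨fun hv => ?_, hh v⟩
  have hinj : Function.Injective (fun w : X => (⟨h • (w : V), hh w w.2⟩ : X)) := fun a b e =>
    Subtype.ext (smul_left_cancel h (congrArg Subtype.val e))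
  obtain ⟨w, hw⟩ := (Finite.injective_iff_surjective.1 hinj) ⟨h • v, hv⟩
  have e : (w : V) = v := smul_left_cancel h (congrArg Subtype.val hw)
  exact e ▸ w.2

theorem smul_eq_of_pow {g : H} {v : V} (h : g • v = v) (n : ℕ) : g ^ n • v = v := by
  induction n with
  | zero => rw [pow_zero, one_smul]
  | succ n ih => rw [pow_succ, mul_smul, h, ih]

theorem exists_card_eq_two_pow (hc : ∀ v : V, v + v = 0) (X : AddSubgroup V) :
    ∃ k : ℕ, Nat.card X = 2 ^ k := by
  haveI : Fact (Nat.Prime 2) := ⟨Nat.prime_two⟩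
  have hp : IsPGroup 2 (Multiplicative X) := fun a => ⟨1, by
    apply Multiplicative.toAdd.injective
    rw [toAdd_pow, toAdd_one, pow_one, two_nsmul]
    exact Subtype.ext (hc _)⟩
  obtain ⟨k, hk⟩ := hp.exists_card_eq
  exact ⟨k, hk⟩

/-- An element of prime order `r` without nonzero fixed points in an invariant subgroup. -/
theorem dvd_card_sub_one {x : H} {r : ℕ} (hr : r.Prime) (hx : x ^ r = 1) (X : AddSubgroup V)
    (hstab : ∀ v ∈ X, x • v ∈ X) (hfree : ∀ v ∈ X, x • v = v → v = 0) :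
    r ∣ Nat.card X - 1 := by
  classical
  haveI := Fact.mk hr
  haveI : Fintype X := Fintype.ofFinite X
  let f : X → X := fun w => ⟨x • (w : V), hstab w w.2⟩
  have hinj : Function.Injective f := fun a b e =>
    Subtype.ext (smul_left_cancel x (congrArg Subtype.val e))
  let σ : Equiv.Perm X := Equiv.ofBijective f (Finite.injective_iff_bijective.1 hinj)
  have hpow : ∀ (n : ℕ) (w : X), (((σ ^ n) w : X) : V) = x ^ n • (w : V) := by
    intro n
    induction n with
    | zero => intro w; simp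
    | succ n ih =>
      intro w
      rw [pow_succ', Equiv.Perm.mul_apply, pow_succ', mul_smul, ← ih w]
      rfl
  have hσ : σ ^ r ^ 1 = 1 := Equiv.ext fun w => Subtype.ext (by rw [hpow, pow_one, hx]; simp)
  have hm := Equiv.Perm.card_compl_support_modEq (p := r) (n := 1) hσ
  have hsupp : σ.supportᶜ = {(0 : X)} := by
    ext w
    rw [Finset.mem_compl, Equiv.Perm.notMem_support, Finset.mem_singleton]
    refine ⟨fun e => Subtype.ext (hfree w w.2 (congrArg Subtype.val e)), fun e => ?_⟩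
    rw [e]
    exact Subtype.ext (smul_zero x)
  rw [hsupp, Finset.card_singleton] at hm
  rw [Nat.card_eq_fintype_card]
  exact (Nat.modEq_iff_dvd' Fintype.card_pos).1 hm

/-- A two-element fixes a nonzero vector in any invariant nonzero subgroup. -/
theorem exists_fixed_ne_zero (hc : ∀ v : V, v + v = 0) {g : H} (hg : TwoEl g) (X : AddSubgroup V)
    (hX : X ≠ ⊥) (hstab : ∀ v ∈ X, g • v ∈ X) : ∃ v ∈ X, v ≠ 0 ∧ g • v = v := by
  classical
  obtain ⟨k, hk⟩ := exists_card_eq_two_pow hc X
  let s : Set V := {v | v ∈ X ∧ v ≠ 0}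
  have hs : Nat.card X = Nat.card s + 1 := by
    rw [Nat.card_coe_set_eq, ← Nat.card_congr (Equiv.refl X)]
    have : (X : Set V) = insert 0 s := by
      ext v
      simp only [Set.mem_insert_iff, s, Set.mem_ofPred_eq, SetLike.mem_coe]
      by_cases h : v = 0 <;> simp [h, X.zero_mem]
    rw [show Nat.card X = Nat.card (X : Set V) from rfl, Nat.card_coe_set_eq, this,
      Set.ncard_insert_of_notMem (fun h => h.2 rfl) (Set.toFinite _)]
  have hk0 : k ≠ 0 := by
    rintro rfl
    exact hX (AddSubgroup.card_eq_one.1 (by simpa using hk))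
  have hodd : Odd (Nat.card s) := by
    have he : Even (Nat.card s + 1) := by
      rw [← hs, hk]
      exact (Nat.even_pow' hk0).2 even_two
    rcases Nat.even_or_odd (Nat.card s) with h | h
    · exact absurd he (Nat.not_even_iff_odd.2 h.add_one)
    · exact h
  let f : s → s := fun w => ⟨g • (w : V), hstab w w.2.1, fun e => w.2.2 ((smul_eq_zero_iff_eq g).1 e)⟩
  have hinj : Function.Injective f := fun a b e =>
    Subtype.ext (smul_left_cancel g (congrArg Subtype.val e))
  let σ : Equiv.Perm s := Equiv.ofBijective f (Finite.injective_iff_bijective.1 hinj)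
  have hpow : ∀ (n : ℕ) (w : s), (((σ ^ n) w : s) : V) = g ^ n • (w : V) := by
    intro n
    induction n with
    | zero => intro w; simp
    | succ n ih =>
      intro w
      rw [pow_succ', Equiv.Perm.mul_apply, pow_succ', mul_smul, ← ih w]
      rfl
  obtain ⟨j, hj⟩ := hg.pow_eq
  obtain ⟨w, hw⟩ := exists_fixed_of_odd hodd σ j
    (Equiv.ext fun w => Subtype.ext (by rw [hpow, hj]; simp))
  exact ⟨w, w.2.1, w.2.2, congrArg Subtype.val hw⟩

namespace Setup

variable (S : Setup H V)

include S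

theorem not_solvable : ¬ Group.IsSolvable H := by
  intro h
  obtain ⟨g, hg⟩ := S.nontriv
  haveI : Nontrivial H := ⟨⟨g, 1, hg⟩⟩
  exact (ne_of_lt (Group.IsSolvable.commutator_lt_top_of_nontrivial H)) S.perfect

theorem exists_ne_zero : ∃ v : V, v ≠ 0 := by
  by_contra hc
  push Not at hc
  obtain ⟨g, hg⟩ := S.nontriv
  exact hg (S.faithful g fun v => by rw [hc v, smul_zero])

theorem even_card : Even (Nat.card H) := by
  by_contra h
  exact S.not_solvable (OddOrder.FeitThompson.isSolvable_of_odd_card (Nat.not_even_iff_odd.1 h))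

theorem noReal_stabilizer {v : V} (hv : v ≠ 0) : NoReal (MulAction.stabilizer H v) :=
  noReal_of_forall fun x hx hxv => hv (S.free x hx v hxv)

theorem exists_sylow_le {v : V} (hv : v ≠ 0) :
    ∃ T : Sylow 2 H, (T : Subgroup H) ≤ MulAction.stabilizer H v := by
  haveI : Fact (Nat.Prime 2) := ⟨Nat.prime_two⟩
  set M := MulAction.stabilizer H v
  obtain ⟨P⟩ : Nonempty (Sylow 2 M) := inferInstance
  obtain ⟨T, hT⟩ := (P.2.map M.subtype).exists_le_sylow
  refine ⟨T, ?_⟩
  have hcard : Nat.card T = Nat.card ((P : Subgroup M).map M.subtype) := by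
    rw [T.card_eq_multiplicity, Subgroup.card_map_of_injective M.subtype_injective,
      P.card_eq_multiplicity, ← M.card_mul_index,
      Nat.factorization_mul Nat.card_pos.ne' M.index_ne_zero_of_finite, Finsupp.add_apply,
      Nat.factorization_eq_zero_of_not_dvd (n := M.index) (p := 2)
        (fun h => Nat.not_even_iff_odd.2 (S.oddOrbit v hv) (even_iff_two_dvd.2 h)), add_zero]
  rw [← Subgroup.eq_of_le_of_card_ge hT hcard.le]
  exact Subgroup.map_subtype_le _

theorem mem_of_twoEl {v : V} (hv : v ≠ 0) {T : Sylow 2 H}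
    (hT : (T : Subgroup H) ≤ MulAction.stabilizer H v) {g : H} (hg : TwoEl g) (hgv : g • v = v) :
    g ∈ T := by
  obtain ⟨R, -, hR, -, hR4⟩ := exists_twoCore (S.noReal_stabilizer hv)
  have hle : (T : Subgroup H) ≤ R := fun a ha => hR4 a (hT ha) (twoEl_of_mem T.2 ha)
  show g ∈ (T : Subgroup H)
  rw [← T.3 hR hle]
  exact hR4 g hgv hg

theorem sylow_unique {v : V} (hv : v ≠ 0) {T T' : Sylow 2 H}
    (hT : (T : Subgroup H) ≤ MulAction.stabilizer H v)
    (hT' : (T' : Subgroup H) ≤ MulAction.stabilizer H v) : T = T' :=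
  Sylow.ext ((T.3 T'.2 fun a ha => S.mem_of_twoEl hv hT' (twoEl_of_mem T.2 ha) (hT ha)).symm)

end Setup

theorem mem_smul_sylow {h g : H} {T : Sylow 2 H} : g ∈ h • T ↔ h⁻¹ * g * h ∈ T := by
  show g ∈ ((h • T : Sylow 2 H) : Subgroup H) ↔ _
  rw [Sylow.coe_subgroup_smul, Subgroup.mem_pointwise_smul_iff_inv_smul_mem]
  simp only [MulAut.smul_def, ← map_inv, MulAut.conj_apply, inv_inv]
  rfl

theorem mem_fixS_smul {h : H} {T : Sylow 2 H} {v : V} :
    v ∈ fixS V ((h • T : Sylow 2 H) : Subgroup H) ↔ h⁻¹ • v ∈ fixS V (T : Subgroup H) := by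
  constructor
  · intro hv g hg
    have := hv (h * g * h⁻¹) (mem_smul_sylow.2 (show h⁻¹ * (h * g * h⁻¹) * h ∈ T by
      rw [show h⁻¹ * (h * g * h⁻¹) * h = g by group]; exact hg))
    rw [mul_smul, mul_smul] at this
    exact (eq_inv_smul_iff.2 this)
  · intro hv g hg
    have := hv _ (mem_smul_sylow.1 hg)
    rw [mul_smul, mul_smul, smul_inv_smul] at this
    exact smul_left_cancel h⁻¹ this

theorem smul_eq_of_mem_sylow {g : H} {T : Sylow 2 H} (hg : g ∈ T) : g • T = T :=
  Sylow.smul_eq_iff_mem_normalizer.2 (Subgroup.le_normalizer hg)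

theorem mem_of_smul_eq {g : H} {T : Sylow 2 H} (hg : TwoEl g) (h : g • T = T) : g ∈ T := by
  haveI : Fact (Nat.Prime 2) := ⟨Nat.prime_two⟩
  have hp : IsPGroup 2 (Subgroup.zpowers g) := by
    obtain ⟨k, hk⟩ := hg
    exact IsPGroup.of_card (n := k) (by rw [Nat.card_zpowers, hk])
  have := hp.inf_normalizer_sylow T
  have hm : g ∈ Subgroup.zpowers g ⊓ Subgroup.normalizer ((T : Subgroup H) : Set H) :=
    ⟨Subgroup.mem_zpowers g, Sylow.smul_eq_iff_mem_normalizer.1 h⟩
  exact (SetLike.le_def.1 (le_of_eq this) hm).2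

namespace Setup

variable (S : Setup H V)

include S

theorem card_fixS_eq (T T' : Sylow 2 H) :
    Nat.card (fixS V (T : Subgroup H)) = Nat.card (fixS V (T' : Subgroup H)) := by
  haveI : Fact (Nat.Prime 2) := ⟨Nat.prime_two⟩
  obtain ⟨h, rfl⟩ := MulAction.exists_smul_eq H T T'
  exact Nat.card_congr
    { toFun := fun v => ⟨h • (v : V), mem_fixS_smul.2 (by rw [inv_smul_smul]; exact v.2)⟩
      invFun := fun v => ⟨h⁻¹ • (v : V), mem_fixS_smul.1 v.2⟩
      left_inv := fun v => Subtype.ext (inv_smul_smul h (v : V))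
      right_inv := fun v => Subtype.ext (smul_inv_smul h (v : V)) }

theorem le_stabilizer_of_mem_fixS {T : Sylow 2 H} {v : V} (hv : v ∈ fixS V (T : Subgroup H)) :
    (T : Subgroup H) ≤ MulAction.stabilizer H v := fun g hg => hv g hg

theorem exists_mem_fixS (T : Sylow 2 H) : ∃ v ∈ fixS V (T : Subgroup H), v ≠ 0 := by
  haveI : Fact (Nat.Prime 2) := ⟨Nat.prime_two⟩
  obtain ⟨w, hw⟩ := S.exists_ne_zero
  obtain ⟨T₁, hT₁⟩ := S.exists_sylow_le hw
  obtain ⟨h, rfl⟩ := MulAction.exists_smul_eq H T₁ T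
  exact ⟨h • w, mem_fixS_smul.2 (by rw [inv_smul_smul]; exact fun g hg => hT₁ hg),
    fun e => hw ((smul_eq_zero_iff_eq h).1 e)⟩

/-- Nonzero vectors are partitioned by the fixed spaces. -/
theorem card_sub_one (X : AddSubgroup V) (T₀ : Sylow 2 H)
    (hX : ∀ v ∈ X, v ≠ 0 → ∀ T : Sylow 2 H, v ∈ fixS V (T : Subgroup H) →
      fixS V (T : Subgroup H) ≤ X) :
    Nat.card X - 1 = Nat.card {T : Sylow 2 H // fixS V (T : Subgroup H) ≤ X} *
      (Nat.card (fixS V (T₀ : Subgroup H)) - 1) := by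
  classical
  haveI : Fintype V := Fintype.ofFinite V
  have hne : ∀ Y : AddSubgroup V, Nat.card {v : V // v ∈ Y ∧ v ≠ 0} = Nat.card Y - 1 := by
    intro Y
    have h1 : (Y : Set V) = insert 0 {v | v ∈ Y ∧ v ≠ 0} := by
      ext v
      simp only [Set.mem_insert_iff, Set.mem_ofPred_eq, SetLike.mem_coe]
      by_cases h : v = 0 <;> simp [h, Y.zero_mem]
    rw [show Nat.card Y = (Y : Set V).ncard from Nat.card_coe_set_eq _, h1,
      Set.ncard_insert_of_notMem (fun h => h.2 rfl) (Set.toFinite _), Nat.add_sub_cancel,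
      ← Nat.card_coe_set_eq]
    rfl
  let f : (Σ T : {T : Sylow 2 H // fixS V (T : Subgroup H) ≤ X},
        {v : V // v ∈ fixS V (T.1 : Subgroup H) ∧ v ≠ 0}) → {v : V // v ∈ X ∧ v ≠ 0} :=
    fun w => ⟨w.2.1, w.1.2 w.2.2.1, w.2.2.2⟩
  have hinj : Function.Injective f := by
    rintro ⟨⟨T, hT⟩, v, hv, hv0⟩ ⟨⟨T', hT'⟩, v', hv', hv0'⟩ h
    obtain rfl : v = v' := congrArg Subtype.val h
    obtain rfl := S.sylow_unique hv0 (le_stabilizer_of_mem_fixS S hv)
      (le_stabilizer_of_mem_fixS S hv')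
    rfl
  have hsurj : Function.Surjective f := by
    rintro ⟨v, hv, hv0⟩
    obtain ⟨T, hT⟩ := S.exists_sylow_le hv0
    exact ⟨⟨⟨T, hX v hv hv0 T fun g hg => hT hg⟩, v, fun g hg => hT hg, hv0⟩, rfl⟩
  have e := (Equiv.ofBijective f ⟨hinj, hsurj⟩).symm
  haveI : Fintype {T : Sylow 2 H // fixS V (T : Subgroup H) ≤ X} := Fintype.ofFinite _
  have hc : ∀ T : {T : Sylow 2 H // fixS V (T : Subgroup H) ≤ X},
      Nat.card {v : V // v ∈ fixS V (T.1 : Subgroup H) ∧ v ≠ 0} =
        Nat.card (fixS V (T₀ : Subgroup H)) - 1 := fun T =>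
    (hne (fixS V (T.1 : Subgroup H))).trans (congrArg (fun n => n - 1) (S.card_fixS_eq T.1 T₀))
  calc Nat.card X - 1 = Nat.card {v : V // v ∈ X ∧ v ≠ 0} := (hne X).symm
    _ = ∑ T : {T : Sylow 2 H // fixS V (T : Subgroup H) ≤ X},
          Nat.card {v : V // v ∈ fixS V (T.1 : Subgroup H) ∧ v ≠ 0} :=
      (Nat.card_congr e).trans Nat.card_sigma
    _ = Nat.card {T : Sylow 2 H // fixS V (T : Subgroup H) ≤ X} *
          (Nat.card (fixS V (T₀ : Subgroup H)) - 1) := by
      rw [Finset.sum_congr rfl fun T _ => hc T, Finset.sum_const, Finset.card_univ,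
        ← Nat.card_eq_fintype_card, smul_eq_mul]

theorem card_sub_one_univ (T₀ : Sylow 2 H) :
    Nat.card V - 1 = Nat.card (Sylow 2 H) * (Nat.card (fixS V (T₀ : Subgroup H)) - 1) := by
  have h := S.card_sub_one ⊤ T₀ (fun _ _ _ _ _ => le_top)
  rw [AddSubgroup.card_top] at h
  rw [h]
  congr 1
  exact Nat.card_congr (Equiv.subtypeUnivEquiv fun T => le_top)

/-- Centralisers of real elements of odd prime order permute the Sylow 2-subgroups transitively. -/
theorem exists_cent_smul {x : H} (hx : RealPrime x) (T T' : Sylow 2 H) :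
    ∃ c : H, Commute c x ∧ c • T = T' := by
  haveI : Fact (Nat.Prime 2) := ⟨Nat.prime_two⟩
  obtain ⟨v, hv, hv0⟩ := S.exists_mem_fixS T
  obtain ⟨h, rfl⟩ := MulAction.exists_smul_eq H T T'
  obtain ⟨c, hc, s, hs, rfl⟩ := exists_mul_of_coprime (S.cop x hx v hv0) h
  refine ⟨c, Subgroup.mem_centralizer_singleton_iff.1 hc, ?_⟩
  rw [mul_smul]
  congr 1
  refine S.sylow_unique hv0 (le_stabilizer_of_mem_fixS S hv) ?_
  intro g hg
  have h1 := hv _ (mem_smul_sylow.1 hg)
  rw [mul_smul, mul_smul, MulAction.mem_stabilizer_iff.1 hs] at h1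
  have h2 := congrArg (s • ·) h1
  simp only [smul_inv_smul, MulAction.mem_stabilizer_iff.1 hs] at h2
  exact h2

/-- The number of Sylow 2-subgroups divides every orbit size. -/
theorem card_sylow_dvd {v : V} (hv : v ≠ 0) :
    Nat.card (Sylow 2 H) ∣ (MulAction.stabilizer H v).index := by
  haveI : Fact (Nat.Prime 2) := ⟨Nat.prime_two⟩
  obtain ⟨T, hT⟩ := S.exists_sylow_le hv
  rw [Sylow.card_eq_index_normalizer T]
  refine Subgroup.index_dvd_of_le fun h hh => Sylow.smul_eq_iff_mem_normalizer.1 ?_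
  refine S.sylow_unique hv ?_ hT
  intro g hg
  have h1 : (h⁻¹ * g * h) • v = v := hT (mem_smul_sylow.1 hg)
  rw [mul_smul, mul_smul, MulAction.mem_stabilizer_iff.1 hh, inv_smul_eq_iff,
    MulAction.mem_stabilizer_iff.1 hh] at h1
  exact h1

theorem not_dvd_index_centralizer {x : H} (hx : RealPrime x) {p : ℕ} (hp : p.Prime)
    (hpN : p ∣ Nat.card (Sylow 2 H)) : ¬ p ∣ (centralizer ({x} : Set H)).index := by
  intro h
  obtain ⟨v, hv⟩ := S.exists_ne_zero
  exact hp.ne_one (Nat.eq_one_of_dvd_coprimes (S.cop x hx v hv) h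
    (hpN.trans (S.card_sylow_dvd hv)))

theorem eq_one_of_forall_mem {g : H} (h : ∀ T : Sylow 2 H, g ∈ T) : g = 1 := by
  refine S.faithful g fun v => ?_
  by_cases hv : v = 0
  · rw [hv, smul_zero]
  · obtain ⟨T, hT⟩ := S.exists_sylow_le hv
    exact hT (h T)

theorem exists_inverted {i : H} (hi : orderOf i = 2) :
    ∃ y : H, RealPrime y ∧ i * y * i⁻¹ = y⁻¹ := by
  obtain ⟨y, hy1, hyo, hy⟩ := Involutions.BaerSuzuki.exists_odd_inverted i hi fun N hN hN2 hiN =>
    Involutions.Basic.invol_ne_one hi (S.eq_one_of_forall_mem fun T => by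
      haveI := hN
      exact hN2.le_sylow_of_normal T hiN)
  obtain ⟨m, hm, hm'⟩ := exists_realPrime_pow_of_odd hy hyo hy1
  exact ⟨_, hm, hm'⟩

theorem card_fixE_sq {i : H} (hi : orderOf i = 2) :
    Nat.card (fixE V i) * Nat.card (fixE V i) = Nat.card V := by
  obtain ⟨x, hx, hix⟩ := S.exists_inverted hi
  have hii : i * i = 1 := Involutions.Basic.invol_mul_self hi
  refine le_antisymm ?_ ?_
  · -- `i` and a conjugate have no common nonzero fixed point
    obtain ⟨m, hm⟩ := hx.odd
    set y := x ^ (m + 1)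
    have hyy : y * y = x := by
      rw [← pow_add, show m + 1 + (m + 1) = 2 * m + 1 + 1 by omega, pow_succ x, ← hm,
        pow_orderOf_eq_one, one_mul]
    have hy : i * y * i⁻¹ = y⁻¹ := by rw [← conj_pow, hix, inv_pow]
    have hconj : y⁻¹ * i * y = i * x := by
      rw [← hy, ← hyy, Involutions.Basic.invol_inv hi]
      simp only [mul_assoc]
      rw [← mul_assoc i i y, hii, one_mul]
    let f : fixE V i × fixE V i → V := fun w => (w.1 : V) + y⁻¹ • (w.2 : V)
    have hfix : ∀ w : fixE V i, (i * x) • (y⁻¹ • (w : V)) = y⁻¹ • (w : V) := fun w => by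
      rw [← hconj, mul_smul, mul_smul, smul_inv_smul, mem_fixE.1 w.2]
    have hinj : Function.Injective f := by
      rintro ⟨a, b⟩ ⟨a', b'⟩ h
      have h' : ((a - a' : fixE V i) : V) = y⁻¹ • ((b' - b : fixE V i) : V) := by
        rw [AddSubgroup.coe_sub, AddSubgroup.coe_sub, smul_sub, sub_eq_sub_iff_add_eq_add]
        simpa [f, add_comm, add_left_comm] using h
      set u : V := ((a - a' : fixE V i) : V)
      have h1 : i • u = u := (a - a').2
      have h2 : (i * x) • u = u := by rw [h']; exact hfix _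
      have hu : u = 0 := S.free x hx u (by
        rw [mul_smul] at h2
        exact smul_left_cancel i (h2.trans h1.symm))
      have hb : ((b' - b : fixE V i) : V) = 0 := (smul_eq_zero_iff_eq y⁻¹).1 (h'.symm.trans hu)
      rw [Prod.mk.injEq]
      exact ⟨sub_eq_zero.1 (Subtype.ext hu), (sub_eq_zero.1 (Subtype.ext hb)).symm⟩
    rw [← Nat.card_prod]
    exact Nat.card_le_card_of_injective f hinj
  · let φ : V →+ V := DistribSMul.toAddMonoidHom V i + AddMonoidHom.id V
    have hker : φ.ker = fixE V i := by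
      ext v
      show i • v + v = 0 ↔ i • v = v
      exact ⟨fun e => eq_of_sub_eq_zero (by
        rw [sub_eq_add_neg, neg_eq_of_add_eq_zero_left (S.char2 v)]; exact e),
        fun e => by rw [e]; exact S.char2 v⟩
    have hrange : φ.range ≤ fixE V i := by
      rintro _ ⟨v, rfl⟩
      show i • (i • v + v) = i • v + v
      rw [smul_add, ← mul_smul, hii, one_smul, add_comm]
    rw [← φ.ker.card_mul_index, AddSubgroup.index_ker, hker]
    exact Nat.mul_le_mul le_rfl (AddSubgroup.card_le_of_le hrange)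

theorem exists_involution : ∃ i : H, orderOf i = 2 := by
  haveI : Fact (Nat.Prime 2) := ⟨Nat.prime_two⟩
  exact exists_prime_orderOf_dvd_card' 2 (even_iff_two_dvd.1 S.even_card)

theorem card_eq_two_pow_even : ∃ d : ℕ, 0 < d ∧ Nat.card V = 2 ^ (2 * d) := by
  obtain ⟨i, hi⟩ := S.exists_involution
  obtain ⟨d, hd⟩ := exists_card_eq_two_pow S.char2 (fixE V i)
  have h : Nat.card V = 2 ^ (2 * d) := by rw [← S.card_fixE_sq hi, hd, ← pow_add, two_mul]
  refine ⟨d, Nat.pos_of_ne_zero fun e => ?_, h⟩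
  obtain ⟨v, hv⟩ := S.exists_ne_zero
  haveI : Subsingleton V := (Nat.card_eq_one_iff_unique.1 (by rw [h, e]; rfl)).1
  exact hv (Subsingleton.elim _ _)

theorem fixS_ne_top (T : Sylow 2 H) : fixS V (T : Subgroup H) ≠ ⊤ := by
  intro e
  haveI : Fact (Nat.Prime 2) := ⟨Nat.prime_two⟩
  obtain ⟨i, hi⟩ := exists_prime_orderOf_dvd_card' (G := T) 2
    (T.dvd_card_of_dvd_card (even_iff_two_dvd.1 S.even_card))
  exact Involutions.Basic.invol_ne_one (Subgroup.orderOf_coe i ▸ hi)
    (S.faithful i fun v => (e ▸ AddSubgroup.mem_top v : v ∈ fixS V (T : Subgroup H)) i i.2)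

end Setup

end Cfsg.Agent.Lib.RealGraph56
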