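import Cfsg.Agent.Lib.RealGraph56.Lift
import Cfsg.Agent.Lib.RealGraph56.Linear
import Cfsg.Agent.Lib.Cores.Basic

/-!
A group whose real class sizes split into two sets of primes is solvable: reduction to a perfect
linear group.
-/

set_option autoImplicit false
set_option linter.style.haveILetI false
set_option linter.unusedSectionVars false

namespace Cfsg.Agent.Lib.RealGraph56

open Subgroup
open scoped Pointwise IsMulCommutative commutatorElement

universe u

variable {G : Type u} [Group G] [Finite G]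

/-- The primes of the side without `2` never share a real class size with another prime. -/
structure Side (G : Type u) [Group G] (side : ℕ → Prop) : Prop where
  two : ¬ side 2
  cons : ∀ y : G, IsConj y y⁻¹ → ∀ q r : ℕ, q.Prime → r.Prime → q ∣ idx y → r ∣ idx y →
    side q → side r

/-- An involution whose class size belongs to the side without `2`. -/
structure Key (side : ℕ → Prop) (t : G) : Prop where
  invol : orderOf t = 2
  ne_one : idx t ≠ 1
  side : ∀ q : ℕ, q.Prime → q ∣ idx t → side q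

theorem isConj_of_invert {g y : G} (h : g * y * g⁻¹ = y⁻¹) : IsConj y y⁻¹ := isConj_iff.2 ⟨g, h⟩

theorem idx_eq_one_iff {x : G} : idx x = 1 ↔ x ∈ center G := by
  rw [Subgroup.index_eq_one, Subgroup.centralizer_eq_top_iff_subset, Set.singleton_subset_iff]
  rfl

namespace Side

variable {side : ℕ → Prop} (S : Side G side)

include S

theorem not_side_of_sq_ne_one {g y : G} (h : g * y * g⁻¹ = y⁻¹) (hy : y ^ 2 ≠ 1) {q : ℕ}
    (hq : q.Prime) (hqy : q ∣ idx y) : ¬ side q := fun hs =>
  S.two (S.cons y (isConj_of_invert h) q 2 hq Nat.prime_two hqy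
    (even_iff_two_dvd.1 (even_idx h hy)) hs)

theorem coprime_idx {g y v : G} (h : g * y * g⁻¹ = y⁻¹) (hy : y ^ 2 ≠ 1)
    (hv : ∀ q : ℕ, q.Prime → q ∣ idx v → side q) : (idx y).Coprime (idx v) :=
  Nat.coprime_of_dvd' fun q hq h1 h2 =>
    absurd (hv q hq h2) (S.not_side_of_sq_ne_one h hy hq h1)

theorem exists_key (hex : ∃ (y : G) (q : ℕ), IsConj y y⁻¹ ∧ q.Prime ∧ q ∣ idx y ∧ side q) :
    ∃ t : G, Key side t := by
  obtain ⟨y, q, hy, hq, hqy, hs⟩ := hex
  have hne : idx y ≠ 1 := fun e => hq.ne_one (Nat.dvd_one.1 (e ▸ hqy))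
  obtain ⟨g, hg⟩ := isConj_iff.1 hy
  have h2 : y ^ 2 = 1 := by
    by_contra h
    exact S.not_side_of_sq_ne_one hg h hq hqy hs
  refine ⟨y, orderOf_eq_prime h2 fun h1 => hne ?_, hne,
    fun r hr hry => S.cons y hy q r hq hr hqy hry hs⟩
  rw [idx_eq_one_iff, h1]
  exact one_mem _

end Side

namespace Key

variable {side : ℕ → Prop} {t : G}

theorem conj (K : Key side t) (a : G) : Key side (a * t * a⁻¹) := by
  have e := idx_eq_of_isConj (isConj_iff.2 ⟨a, rfl⟩ : IsConj t (a * t * a⁻¹))
  exact ⟨by rw [Involutions.Basic.orderOf_conj_eq]; exact K.invol, by rw [e]; exact K.ne_one,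
    fun q hq h => K.side q hq (e ▸ h)⟩

theorem of_isConj (K : Key side t) {a : G} (h : IsConj t a) : Key side a := by
  obtain ⟨c, rfl⟩ := isConj_iff.1 h
  exact K.conj c

theorem mul_self (K : Key side t) : t * t = 1 := Involutions.Basic.invol_mul_self K.invol

theorem odd_idx (S : Side G side) (K : Key side t) : Odd (idx t) := by
  rw [← Nat.not_even_iff_odd, even_iff_two_dvd]
  exact fun h => S.two (K.side 2 Nat.prime_two h)

/-- An inverted element of square different from one has a centraliser transitive on the class. -/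
theorem exists_cent_conj (S : Side G side) (K : Key side t) {g y : G} (h : g * y * g⁻¹ = y⁻¹)
    (hy : y ^ 2 ≠ 1) {a : G} (ha : IsConj t a) : ∃ c : G, Commute c y ∧ c * t * c⁻¹ = a := by
  obtain ⟨u, rfl⟩ := isConj_iff.1 ha
  obtain ⟨c, hc, s, hs, rfl⟩ := exists_mul_of_coprime (S.coprime_idx h hy K.side) u
  refine ⟨c, Subgroup.mem_centralizer_singleton_iff.1 hc, ?_⟩
  rw [show c * s * t * (c * s)⁻¹ = c * (s * t * s⁻¹) * c⁻¹ by group,
    Subgroup.mem_centralizer_singleton_iff.1 hs, mul_inv_cancel_right]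

/-- An inverted element has an inverter centralising `t`. -/
theorem exists_inverter (S : Side G side) (K : Key side t) {g y : G} (h : g * y * g⁻¹ = y⁻¹)
    (hy : y ^ 2 ≠ 1) : ∃ k : G, Commute k t ∧ k * y * k⁻¹ = y⁻¹ := by
  obtain ⟨c, hc, k, hk, e⟩ := exists_mul_of_coprime (S.coprime_idx h hy K.side) g
  refine ⟨k, Subgroup.mem_centralizer_singleton_iff.1 hk, ?_⟩
  have hc' : Commute c y := Subgroup.mem_centralizer_singleton_iff.1 hc
  rw [e] at h
  calc k * y * k⁻¹ = c⁻¹ * ((c * k) * y * (c * k)⁻¹) * c := by group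
    _ = y⁻¹ := by rw [h, mul_assoc, ← hc'.inv_right.eq, inv_mul_cancel_left]

theorem not_commute (S : Side G side) (K : Key side t) {x : G} (hx : RealPrime x) :
    ¬ Commute x t := by
  intro hxt
  obtain ⟨g, hg⟩ := hx.2.2
  obtain ⟨k, hkt, hkx⟩ := K.exists_inverter S hg hx.sq_ne_one
  have htx : k * (t * x) * k⁻¹ = (t * x)⁻¹ := by
    rw [mul_inv_rev, Involutions.Basic.invol_inv K.invol,
      show k * (t * x) * k⁻¹ = (k * t * k⁻¹) * (k * x * k⁻¹) by group, hkt.eq,
      mul_inv_cancel_right, hkx, hxt.inv_left.eq]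
  have hsq : (t * x) ^ 2 = x ^ 2 := by
    rw [hxt.symm.mul_pow, sq t, K.mul_self, one_mul]
  have hne : (t * x) ^ 2 ≠ 1 := hsq ▸ hx.sq_ne_one
  have hle : centralizer ({t * x} : Set G) ≤ centralizer ({t} : Set G) := by
    intro c hc
    rw [Subgroup.mem_centralizer_singleton_iff] at hc ⊢
    obtain ⟨m, hm⟩ := hx.odd
    have htr : (t * x) ^ orderOf x = t := by
      rw [hxt.symm.mul_pow, pow_orderOf_eq_one, mul_one, hm, pow_succ, pow_mul, sq, K.mul_self,
        one_pow, one_mul]
    have h1 : Commute c ((t * x) ^ orderOf x) := (show Commute c (t * x) from hc).pow_right _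
    rw [htr] at h1
    exact h1.eq
  obtain ⟨q, hq, hqt⟩ := Nat.exists_prime_and_dvd K.ne_one
  exact S.not_side_of_sq_ne_one htx hne hq (hqt.trans (index_dvd_of_le hle)) (K.side q hq hqt)

theorem noReal_centralizer (S : Side G side) (K : Key side t) :
    NoReal (centralizer ({t} : Set G)) :=
  noReal_of_forall fun _ hx hxt =>
    K.not_commute S hx (Subgroup.mem_centralizer_singleton_iff.1 hxt)

end Key

/-- The statement for all smaller groups. -/
def Smaller (n : ℕ) (side : ℕ → Prop) : Prop :=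
  ∀ (K : Type u) [Group K] [Finite K], Nat.card K < n → Side K side → (∃ t : K, Key side t) →
    Group.IsSolvable K

theorem isSolvable_of_le {A B : Subgroup G} (h : A ≤ B) (hB : Group.IsSolvable B) :
    Group.IsSolvable A :=
  haveI := hB
  Coprime.isSolvable_of_le h

theorem isSolvable_extension (N : Subgroup G) [N.Normal] (h1 : Group.IsSolvable N)
    (h2 : Group.IsSolvable (G ⧸ N)) : Group.IsSolvable G :=
  haveI := h1
  haveI := h2
  Group.isSolvable_of_ker_le_range N.subtype (QuotientGroup.mk' N)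
    (by rw [QuotientGroup.ker_mk', Subgroup.range_subtype])

/-- Proper normal subgroups through `t` are solvable. -/
theorem solvable_normal {side : ℕ → Prop} (S : Side G side) {t : G} (K : Key side t)
    (ih : Smaller.{u} (Nat.card G) side) (M : Subgroup G) [M.Normal] (ht : t ∈ M) (hM : M ≠ ⊤) :
    Group.IsSolvable M := by
  by_cases hc : ∀ m ∈ M, Commute m t
  · exact isSolvable_of_le (fun m hm => Subgroup.mem_centralizer_singleton_iff.2 (hc m hm).eq)
      (solvable_of_noReal (K.noReal_centralizer S))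
  push Not at hc
  obtain ⟨m, hm, hmt⟩ := hc
  have hlt : Nat.card M < Nat.card G :=
    lt_of_le_of_ne (Nat.card_le_card_of_injective _ M.subtype_injective) fun e =>
      hM (Subgroup.eq_top_of_card_eq M e)
  have hreal : ∀ y : M, IsConj y y⁻¹ → IsConj (y : G) (y : G)⁻¹ := fun y hy => by
    simpa using M.subtype.map_isConj hy
  refine ih M hlt ⟨S.two, fun y hy q r hq hr h1 h2 hs => S.cons (y : G) (hreal y hy) q r hq hr
    (h1.trans (idx_dvd_of_normal y)) (h2.trans (idx_dvd_of_normal y)) hs⟩
    ⟨⟨t, ht⟩, by rw [Subgroup.orderOf_mk]; exact K.invol, fun h => hmt ?_,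
      fun q hq h => K.side q hq (h.trans (idx_dvd_of_normal (⟨t, ht⟩ : M)))⟩
  rw [idx_eq_one_iff, Subgroup.mem_center_iff] at h
  exact congrArg Subtype.val (h ⟨m, hm⟩)

/-- Reduction modulo a normal subgroup of odd order. -/
theorem solvable_of_odd_normal {side : ℕ → Prop} (S : Side G side) {t : G} (K : Key side t)
    (ih : Smaller.{u} (Nat.card G) side) (N : Subgroup G) [N.Normal] (hN : Odd (Nat.card N))
    (hN1 : N ≠ ⊥) : Group.IsSolvable G := by
  refine isSolvable_extension N (OddOrder.FeitThompson.isSolvable_of_odd_card hN) ?_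
  set π := QuotientGroup.mk' N
  have hπ : Function.Surjective π := QuotientGroup.mk'_surjective N
  have hker : Odd (Nat.card π.ker) := by rw [QuotientGroup.ker_mk']; exact hN
  have hti : t⁻¹ = t := Involutions.Basic.invol_inv K.invol
  have htN : π t ≠ 1 := fun h => by
    have h2 := Subgroup.orderOf_dvd_natCard N ((QuotientGroup.eq_one_iff t).1 h)
    rw [K.invol] at h2
    exact Nat.not_even_iff_odd.2 hN (even_iff_two_dvd.2 h2)
  have hord : orderOf (π t) = 2 := orderOf_eq_prime (by rw [← map_pow, sq, K.mul_self, map_one]) htN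
  by_cases hc : idx (π t) = 1
  · -- `t` is central modulo `N`
    haveI := solvable_of_noReal (K.noReal_centralizer S)
    refine Group.isSolvable_of_surjective
      (f := π.comp (centralizer ({t} : Set G)).subtype) fun q => ?_
    obtain ⟨g, rfl⟩ := hπ q
    set v := g * t * g⁻¹
    have hv : v * v = 1 := (K.conj g).mul_self
    have hxN : t * v ∈ N := by
      rw [← QuotientGroup.eq_one_iff]
      show π (t * v) = 1
      rw [map_mul, map_mul, map_mul, map_inv,
        Subgroup.mem_center_iff.1 (idx_eq_one_iff.1 hc) (π g), mul_inv_cancel_right, ← map_mul,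
        K.mul_self, map_one]
    set x := t * v with hx
    obtain ⟨m, hm⟩ := orderOf_odd_of_mem hN hxN
    set y := x ^ (m + 1)
    have hyy : y * y = x := by
      rw [← pow_add, show m + 1 + (m + 1) = 2 * m + 1 + 1 by omega, pow_succ x, ← hm,
        pow_orderOf_eq_one, one_mul]
    have htx : t * x * t⁻¹ = x⁻¹ := by
      rw [hx, mul_inv_rev, hti, inv_eq_of_mul_eq_one_right hv, ← mul_assoc t t v, K.mul_self,
        one_mul]
    have hty : t * y * t⁻¹ = y⁻¹ := by rw [← conj_pow, htx, inv_pow]
    refine ⟨⟨y * g, Subgroup.mem_centralizer_singleton_iff.2 ?_⟩, ?_⟩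
    · have hv' : v = t * (y * y) := by
        rw [hyy, hx, ← mul_assoc, K.mul_self, one_mul]
      have : y * v * y⁻¹ = t := by
        have e : y * t = t * y⁻¹ := by
          rw [← hty, hti]
          simp only [← mul_assoc, K.mul_self, one_mul]
        rw [hv', ← mul_assoc y t, e]
        group
      rw [← mul_inv_eq_iff_eq_mul]
      rw [show y * g * t * (y * g)⁻¹ = y * v * y⁻¹ by simp only [v]; group, this]
    · show π (y * g) = π g
      rw [map_mul, show π y = 1 from (QuotientGroup.eq_one_iff y).2 (pow_mem hxN _), one_mul]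
  have hlt : Nat.card (G ⧸ N) < Nat.card G := by
    rw [← N.index_mul_card]
    have : 1 < Nat.card N := Finite.one_lt_card_iff_nontrivial.2 ((nontrivial_iff_ne_bot N).2 hN1)
    exact lt_mul_of_one_lt_right (Nat.pos_of_ne_zero N.index_ne_zero_of_finite) this
  refine ih (G ⧸ N) hlt ⟨S.two, fun q hq p r hp hr h1 h2 hs => ?_⟩
    ⟨π t, hord, hc, fun q hq h => K.side q hq (h.trans (idx_map_dvd hπ t))⟩
  obtain ⟨g, hg⟩ := isConj_iff.1 hq
  obtain ⟨y, g', rfl, hy⟩ := exists_lift_of_odd hπ hker hg
  exact S.cons y (isConj_of_invert hy) p r hp hr (h1.trans (idx_map_dvd hπ y))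
    (h2.trans (idx_map_dvd hπ y)) hs

/-- With no odd core, the involution lies in the 2-core. -/
theorem mem_pCore {side : ℕ → Prop} (S : Side G side) {t : G} (K : Key side t)
    (hO : ∀ N : Subgroup G, N.Normal → Odd (Nat.card N) → N = ⊥) : t ∈ Cfsg.pCore 2 G := by
  classical
  set B : Set G := {y | ∃ a b : G, IsConj t a ∧ IsConj t b ∧ y = a * b ∧ ¬ TwoEl y}
  have hinv : ∀ y ∈ B, ∀ d, IsConj t d → d * y * d⁻¹ = y⁻¹ := by
    rintro y ⟨a, b, ha, hb, rfl, hy⟩ d hd
    have hKa := K.of_isConj ha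
    have hbb := (K.of_isConj hb).mul_self
    have ha' : a * (a * b) * a⁻¹ = (a * b)⁻¹ := by
      rw [Involutions.Basic.invol_inv hKa.invol]
      exact Involutions.Basic.invert_mul hKa.mul_self hbb
    have hsq : (a * b) ^ 2 ≠ 1 := fun h => hy (twoEl_of_pow (k := 1) (by simpa using h))
    obtain ⟨c, hc, rfl⟩ := hKa.exists_cent_conj S ha' hsq (ha.symm.trans hd)
    rw [show c * a * c⁻¹ * (a * b) * (c * a * c⁻¹)⁻¹ =
      c * (a * (c⁻¹ * (a * b) * c) * a⁻¹) * c⁻¹ by group]
    have e1 : c⁻¹ * (a * b) * c = a * b := by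
      rw [hc.inv_left.eq, inv_mul_cancel_right]
    rw [e1, ha', hc.inv_right.eq, mul_inv_cancel_right]
  have hcomm : ∀ y ∈ B, ∀ y' ∈ B, Commute y y' := by
    rintro y hy _ ⟨a, b, ha, hb, rfl, -⟩
    have h1 := hinv y hy a ha
    have h2 := hinv y hy b hb
    have : (a * b) * y * (a * b)⁻¹ = y := by
      rw [show a * b * y * (a * b)⁻¹ = a * (b * y * b⁻¹) * a⁻¹ by group, h2, ← conj_inv, h1,
        inv_inv]
    exact (mul_inv_eq_iff_eq_mul.1 this).symm
  have hB : ∀ a b : G, IsConj t a → IsConj t b → TwoEl (a * b) := by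
    intro a b ha hb
    by_contra hy
    set y := a * b
    have hyB : y ∈ B := ⟨a, b, ha, hb, rfl, hy⟩
    obtain ⟨n, hn⟩ : ∃ n : ℕ, n = Nat.card G / 2 ^ (Nat.card G).factorization 2 := ⟨_, rfl⟩
    have hnodd : Odd n := by
      rw [hn, Nat.odd_iff, ← Nat.two_dvd_ne_zero]
      exact Nat.not_dvd_ordCompl Nat.prime_two Nat.card_pos.ne'
    set E : Set G := {w | (∃ y ∈ B, w ∈ zpowers y) ∧ w ^ n = 1}
    have hEcomm : ∀ v ∈ E, ∀ w ∈ E, Commute v w := by
      rintro v ⟨⟨y₁, hy₁, hv⟩, -⟩ w ⟨⟨y₂, hy₂, hw⟩, -⟩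
      obtain ⟨i, rfl⟩ := Subgroup.mem_zpowers_iff.1 hv
      obtain ⟨j, rfl⟩ := Subgroup.mem_zpowers_iff.1 hw
      exact ((hcomm y₁ hy₁ y₂ hy₂).zpow_left i).zpow_right j
    set L := closure E
    have hLc : IsMulCommutative L :=
      Subgroup.isMulCommutative_closure fun v hv w hw => (hEcomm v hv w hw).eq
    have hLn : L.Normal := ⟨fun w hw c => by
      induction hw using Subgroup.closure_induction with
      | mem w hw =>
        obtain ⟨⟨y₁, ⟨a₁, b₁, ha₁, hb₁, rfl, hy₁⟩, hw⟩, hwn⟩ := hw
        refine subset_closure ⟨⟨(c * a₁ * c⁻¹) * (c * b₁ * c⁻¹), ⟨_, _,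
          ha₁.trans (isConj_iff.2 ⟨c, rfl⟩), hb₁.trans (isConj_iff.2 ⟨c, rfl⟩), rfl,
          fun h => hy₁ ?_⟩, ?_⟩, ?_⟩
        · have := h.conj c⁻¹
          simpa [mul_assoc] using this
        · obtain ⟨i, rfl⟩ := Subgroup.mem_zpowers_iff.1 hw
          refine ⟨i, ?_⟩
          show (c * a₁ * c⁻¹ * (c * b₁ * c⁻¹)) ^ i = _
          rw [show c * a₁ * c⁻¹ * (c * b₁ * c⁻¹) = c * (a₁ * b₁) * c⁻¹ by group, conj_zpow]
        · rw [conj_pow, hwn, mul_one, mul_inv_cancel]
      | one => simp
      | mul x y _ _ hx hy =>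
        have := mul_mem hx hy
        rwa [show c * x * c⁻¹ * (c * y * c⁻¹) = c * (x * y) * c⁻¹ by group] at this
      | inv x _ hx =>
        have := inv_mem hx
        rwa [show (c * x * c⁻¹)⁻¹ = c * x⁻¹ * c⁻¹ by group] at this⟩
    have hLn1 : ∀ w ∈ L, w ^ n = 1 := by
      intro w hw
      induction hw using Subgroup.closure_induction with
      | mem w hw => exact hw.2
      | one => exact one_pow n
      | mul x y hx hy hx' hy' =>
        have hc : Commute x y := congrArg Subtype.val (hLc.is_comm.comm ⟨x, hx⟩ ⟨y, hy⟩)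
        rw [hc.mul_pow, hx', hy', one_mul]
      | inv x _ hx => rw [inv_pow, hx, inv_one]
    have hLo : Odd (Nat.card L) := by
      haveI : Fact (Nat.Prime 2) := ⟨Nat.prime_two⟩
      rw [← Nat.not_even_iff_odd, even_iff_two_dvd]
      intro h
      obtain ⟨⟨w, hw⟩, hw2⟩ := exists_prime_orderOf_dvd_card' (G := L) 2 h
      rw [Subgroup.orderOf_mk] at hw2
      have h3 := orderOf_dvd_of_pow_eq_one (hLn1 w hw)
      rw [hw2] at h3
      exact Nat.not_even_iff_odd.2 hnodd (even_iff_two_dvd.2 h3)
    obtain ⟨m, hm, -⟩ := exists_realPrime_pow (hinv y hyB t (IsConj.refl t)) hy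
    have hmem : y ^ m ∈ L := subset_closure ⟨⟨y, hyB, pow_mem (mem_zpowers y) m⟩, by
      refine orderOf_dvd_iff_pow_eq_one.1 ?_
      have h1 : orderOf (y ^ m) ∣ Nat.card G := orderOf_dvd_natCard _
      rw [← Nat.ordProj_mul_ordCompl_eq_self (Nat.card G) 2, ← hn] at h1
      exact (Nat.Coprime.dvd_of_dvd_mul_left
        (Nat.Coprime.pow_right _ ((Nat.coprime_primes hm.1 Nat.prime_two).2 hm.2.1)) h1)⟩
    have hbot := hO L hLn hLo
    rw [hbot, Subgroup.mem_bot] at hmem
    exact hm.ne_one hmem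
  by_contra hnot
  obtain ⟨x, hx1, hxo, htx⟩ := Involutions.BaerSuzuki.exists_odd_inverted t K.invol
    fun N hN hN2 htN => by
      haveI := hN
      exact hnot (Cores.le_pCore hN2 htN)
  obtain ⟨m, hm⟩ := hxo
  set y := x ^ (m + 1)
  have hyy : y * y = x := by
    rw [← pow_add, show m + 1 + (m + 1) = 2 * m + 1 + 1 by omega, pow_succ x, ← hm,
      pow_orderOf_eq_one, one_mul]
  have hty : t * y * t⁻¹ = y⁻¹ := by rw [← conj_pow, htx, inv_pow]
  have hconj : y⁻¹ * t * y = t * x := by
    rw [← hty, ← hyy, Involutions.Basic.invol_inv K.invol]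
    simp only [mul_assoc]
    rw [← mul_assoc t t y, K.mul_self, one_mul]
  have h2 := hB t (y⁻¹ * t * y) (IsConj.refl t) (isConj_iff.2 ⟨y⁻¹, by rw [inv_inv]⟩)
  rw [hconj, ← mul_assoc, K.mul_self, one_mul] at h2
  exact hx1 (eq_one_of_twoEl_of_odd h2 ⟨m, hm⟩)

/-- Conjugation on a normal subgroup. -/
def cW (W : Subgroup G) [W.Normal] (g : G) : W →* W where
  toFun w := ⟨g * w * g⁻¹, Subgroup.Normal.conj_mem ‹_› _ w.2 g⟩
  map_one' := Subtype.ext (by simp)
  map_mul' a b := Subtype.ext (by simp [mul_assoc])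

theorem cW_coe (W : Subgroup G) [W.Normal] (g : G) (w : W) : (cW W g w : G) = g * w * g⁻¹ := rfl

theorem cW_mul (W : Subgroup G) [W.Normal] (g h : G) (w : W) :
    cW W (g * h) w = cW W g (cW W h w) := Subtype.ext (by simp [cW, mul_assoc])

theorem cW_one (W : Subgroup G) [W.Normal] (w : W) : cW W 1 w = w := Subtype.ext (by simp [cW])

theorem prod_range_shift {M : Type*} [CommMonoid M] (f : ℕ → M) (r : ℕ) (h : f r = f 0) :
    ∏ i ∈ Finset.range r, f (i + 1) = ∏ i ∈ Finset.range r, f i := by
  cases r with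
  | zero => simp
  | succ n =>
    rw [Finset.prod_range_succ (fun i => f (i + 1)), h, Finset.prod_range_succ' f]

/-- The norm map of `x`. -/
noncomputable def norm {W : Subgroup G} [W.Normal] [IsMulCommutative W] (x : G) : W →* W :=
  ∏ i ∈ Finset.range (orderOf x), cW W (x ^ i)

theorem norm_apply {W : Subgroup G} [W.Normal] [IsMulCommutative W] (x : G) (w : W) :
    norm x w = ∏ i ∈ Finset.range (orderOf x), cW W (x ^ i) w :=
  MonoidHom.finsetProd_apply _ _ _

/-- The automorphism induced on a quotient of a normal subgroup. -/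
def quotAction {W : Subgroup G} [W.Normal] {Z : Subgroup W} [Z.Normal]
    (hZ : ∀ g : G, ∀ w ∈ Z, cW W g w = w) : G →* MulAut (W ⧸ Z) where
  toFun g :=
    MonoidHom.toMulEquiv
      (QuotientGroup.map Z Z (cW W g) fun w hw => show cW W g w ∈ Z by rw [hZ g w hw]; exact hw)
      (QuotientGroup.map Z Z (cW W g⁻¹) fun w hw => show cW W g⁻¹ w ∈ Z by
        rw [hZ g⁻¹ w hw]; exact hw)
      (QuotientGroup.monoidHom_ext Z (MonoidHom.ext fun w => congrArg QuotientGroup.mk
        (show cW W g⁻¹ (cW W g w) = w by rw [← cW_mul, inv_mul_cancel, cW_one])))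
      (QuotientGroup.monoidHom_ext Z (MonoidHom.ext fun w => congrArg QuotientGroup.mk
        (show cW W g (cW W g⁻¹ w) = w by rw [← cW_mul, mul_inv_cancel, cW_one])))
  map_one' := MulEquiv.ext fun q => QuotientGroup.induction_on q fun w =>
    congrArg QuotientGroup.mk (cW_one W w)
  map_mul' g h := MulEquiv.ext fun q => QuotientGroup.induction_on q fun w =>
    congrArg QuotientGroup.mk (cW_mul W g h w)

theorem quotAction_mk {W : Subgroup G} [W.Normal] {Z : Subgroup W} [Z.Normal]
    (hZ : ∀ g : G, ∀ w ∈ Z, cW W g w = w) (g : G) (w : W) :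
    quotAction hZ g (w : W ⧸ Z) = ((cW W g w : W) : W ⧸ Z) := rfl

/-- Additive form of an action by automorphisms of a commutative group. -/
@[reducible]
def additiveAction {M : Type*} [CommGroup M] (A : Subgroup (MulAut M)) :
    DistribMulAction A (Additive M) where
  smul a v := Additive.ofMul ((a : MulAut M) (Additive.toMul v))
  one_smul _ := rfl
  mul_smul _ _ _ := rfl
  smul_zero a := congrArg Additive.ofMul (map_one (a : MulAut M))
  smul_add a v w := congrArg Additive.ofMul
    (map_mul (a : MulAut M) (Additive.toMul v) (Additive.toMul w))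

/-- The core of the reduction. -/
theorem false_of_reduced {side : ℕ → Prop} (S : Side G side) {t : G} (K : Key side t)
    (hns : ¬ Group.IsSolvable G)
    (hO : ∀ N : Subgroup G, N.Normal → Odd (Nat.card N) → N = ⊥)
    (htop : ∀ M : Subgroup G, M.Normal → commutator G ≤ M → t ∈ M → M = ⊤) : False := by
  classical
  haveI : Fact (Nat.Prime 2) := ⟨Nat.prime_two⟩
  haveI : Fintype G := Fintype.ofFinite G
  -- conjugates of `t` commute
  have hQ : ∀ a, IsConj t a → a ∈ Cfsg.pCore 2 G ∧
      ∀ b ∈ Cfsg.pCore 2 G, Commute a b := by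
    intro a ha
    have hKa := K.of_isConj ha
    refine ⟨mem_pCore S hKa hO, fun b hb => ?_⟩
    set C := centralizer ({a} : Set G)
    obtain ⟨P⟩ : Nonempty (Sylow 2 C) := inferInstance
    obtain ⟨T, hT⟩ := (P.2.map C.subtype).exists_le_sylow
    have hcard : Nat.card T = Nat.card ((P : Subgroup C).map C.subtype) := by
      rw [T.card_eq_multiplicity, Subgroup.card_map_of_injective C.subtype_injective,
        P.card_eq_multiplicity, ← C.card_mul_index,
        Nat.factorization_mul Nat.card_pos.ne' C.index_ne_zero_of_finite, Finsupp.add_apply,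
        Nat.factorization_eq_zero_of_not_dvd (n := C.index) (p := 2)
          (fun h => Nat.not_even_iff_odd.2 (hKa.odd_idx S) (even_iff_two_dvd.2 h)), add_zero]
    have hTC : (T : Subgroup G) ≤ C := by
      rw [← Subgroup.eq_of_le_of_card_ge hT hcard.le]
      exact Subgroup.map_subtype_le _
    exact (Subgroup.mem_centralizer_singleton_iff.1 (hTC (Cores.pCore_le_sylow T hb))).symm
  set W := closure {a | IsConj t a}
  haveI hWn : W.Normal := ⟨fun w hw c => by
    induction hw using Subgroup.closure_induction with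
    | mem w hw => exact subset_closure (IsConj.trans hw (isConj_iff.2 ⟨c, rfl⟩))
    | one => simp
    | mul x y _ _ hx hy =>
      have := mul_mem hx hy
      rwa [show c * x * c⁻¹ * (c * y * c⁻¹) = c * (x * y) * c⁻¹ by group] at this
    | inv x _ hx =>
      have := inv_mem hx
      rwa [show (c * x * c⁻¹)⁻¹ = c * x⁻¹ * c⁻¹ by group] at this⟩
  haveI hWc : IsMulCommutative W := Subgroup.isMulCommutative_closure fun a ha b hb =>
    ((hQ a ha).2 b (hQ b hb).1).eq
  have hsub : ∀ a, IsConj t a → a ∈ W := fun a ha => subset_closure ha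
  have hWsq : ∀ w : W, w * w = 1 := by
    rintro ⟨w, hw⟩
    apply Subtype.ext
    show w * w = 1
    induction hw using Subgroup.closure_induction with
    | mem w hw => exact (K.of_isConj hw).mul_self
    | one => simp
    | mul x y hx hy hx' hy' =>
      have hc : Commute x y := congrArg Subtype.val (hWc.is_comm.comm ⟨x, hx⟩ ⟨y, hy⟩)
      rw [← sq, hc.mul_pow, sq, sq, hx', hy', one_mul]
    | inv x _ hx => rw [← mul_inv_rev, hx, inv_one]
  have hWinv : ∀ w : W, w⁻¹ = w := fun w => inv_eq_of_mul_eq_one_right (hWsq w)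
  haveI : Fintype W := Fintype.ofFinite W
  set T : Finset W := Finset.univ.filter fun w => IsConj t (w : G)
  have hTmem : ∀ w : W, w ∈ T ↔ IsConj t (w : G) := fun w => by simp [T]
  have hTcard : T.card = idx t := by
    rw [← card_conj]
    rw [← Fintype.card_subtype, ← Nat.card_eq_fintype_card]
    exact Nat.card_congr
      { toFun := fun w => ⟨(w.1 : G), w.2⟩
        invFun := fun a => ⟨⟨a.1, hsub _ a.2⟩, a.2⟩
        left_inv := fun w => rfl
        right_inv := fun a => rfl }
  set z₀ : W := ∏ a ∈ T, a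
  have hz₀ : ∀ g : G, cW W g z₀ = z₀ := fun g => by
    rw [map_prod]
    refine Finset.prod_nbij' (cW W g) (cW W g⁻¹) (fun a ha => ?_) (fun a ha => ?_)
      (fun a _ => by rw [← cW_mul, inv_mul_cancel, cW_one])
      (fun a _ => by rw [← cW_mul, mul_inv_cancel, cW_one]) (fun a _ => rfl)
    · rw [hTmem, cW_coe]
      exact ((hTmem a).1 ha).trans (isConj_iff.2 ⟨g, rfl⟩)
    · rw [hTmem, cW_coe]
      exact ((hTmem a).1 ha).trans (isConj_iff.2 ⟨g⁻¹, rfl⟩)
  set Z : Subgroup W := zpowers z₀
  have hZ : ∀ g : G, ∀ w ∈ Z, cW W g w = w := by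
    intro g w hw
    obtain ⟨i, rfl⟩ := Subgroup.mem_zpowers_iff.1 hw
    rw [map_zpow, hz₀]
  have hZc : ∀ w ∈ Z, ∀ g : G, Commute g (w : G) := fun w hw g => by
    have := congrArg Subtype.val (hZ g w hw)
    exact mul_inv_eq_iff_eq_mul.1 this
  -- fixed points of real elements lie in `Z`
  have hfix : ∀ x : G, RealPrime x → ∀ w : W, Commute x (w : G) → w ∈ Z := by
    intro x hx
    set r := orderOf x with hr
    obtain ⟨g, hg⟩ := hx.2.2
    have hshift : ∀ y : G, y ^ r = 1 → ∀ v : W,
        ∏ i ∈ Finset.range r, cW W (y ^ (i + 1)) v = ∏ i ∈ Finset.range r, cW W (y ^ i) v :=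
      fun y hy v => prod_range_shift (fun i => cW W (y ^ i) v) r (by
        show cW W (y ^ r) v = cW W (y ^ 0) v
        rw [hy, pow_zero])
    have hxr : x ^ r = 1 := pow_orderOf_eq_one x
    have hxfix : ∀ v : W, Commute x ((norm x v : W) : G) := by
      intro v
      have h1 : cW W x (norm x v) = norm x v := by
        rw [norm_apply, map_prod]
        refine (Finset.prod_congr rfl fun i _ => ?_).trans (hshift x hxr v)
        rw [← cW_mul, pow_succ']
      have := congrArg Subtype.val h1
      exact mul_inv_eq_iff_eq_mul.1 this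
    have hnormc : ∀ c : G, Commute c x → ∀ v : W, norm x (cW W c v) = cW W c (norm x v) := by
      intro c hc v
      rw [norm_apply, norm_apply, map_prod]
      refine Finset.prod_congr rfl fun i _ => ?_
      rw [← cW_mul, ← cW_mul, (hc.pow_right i).eq]
    have hindep : ∀ a b : W, a ∈ T → b ∈ T → norm x a = norm x b := by
      intro a b ha hb
      have hKa := K.of_isConj ((hTmem a).1 ha)
      obtain ⟨k, hka, hkx⟩ := hKa.exists_inverter S hg hx.sq_ne_one
      set w := norm x a
      have hkw : cW W k w = w := by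
        rw [show w = ∏ i ∈ Finset.range r, cW W (x ^ i) a from norm_apply x a, map_prod]
        have e : ∀ i, cW W k (cW W (x ^ i) a) = cW W (x⁻¹ ^ i) a := fun i => by
          have h2 : cW W k a = a := Subtype.ext (by
            rw [cW_coe, hka.eq, mul_inv_cancel_right])
          conv_rhs => rw [← h2]
          rw [← cW_mul, ← cW_mul, ← hkx, conj_pow, inv_mul_cancel_right]
        rw [Finset.prod_congr rfl fun i _ => e i]
        rw [← Finset.prod_range_reflect]
        refine (Finset.prod_congr rfl fun i hi => ?_).trans (hshift x hxr a)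
        congr 2
        rw [inv_pow, inv_eq_iff_mul_eq_one, ← pow_add,
          show r - 1 - i + (i + 1) = r by have := Finset.mem_range.1 hi; omega, hxr]
      have hw' : Commute x (w : G) := hxfix a
      have hkw' : k * (w : G) * k⁻¹ = w := congrArg Subtype.val hkw
      have hwsq : (w : G) * w = 1 := congrArg Subtype.val (hWsq w)
      have hreal : k * (x * w) * k⁻¹ = (x * (w : G))⁻¹ := by
        rw [show k * (x * (w : G)) * k⁻¹ = (k * x * k⁻¹) * (k * w * k⁻¹) by group, hkx, hkw',
          mul_inv_rev, inv_eq_of_mul_eq_one_right hwsq, hw'.inv_left.eq]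
      have hsq : (x * (w : G)) ^ 2 = x ^ 2 := by
        rw [hw'.mul_pow, sq (w : G), hwsq, mul_one]
      obtain ⟨c, hc, hca⟩ := hKa.exists_cent_conj S hreal (hsq ▸ hx.sq_ne_one)
        (((hTmem a).1 ha).symm.trans ((hTmem b).1 hb))
      have hcx : Commute c x := by
        obtain ⟨m, hm⟩ := hx.odd
        have e : x = (x ^ 2) ^ (m + 1) := by
          rw [← pow_mul, show 2 * (m + 1) = 2 * m + 1 + 1 by ring, pow_succ, ← hm,
            pow_orderOf_eq_one, one_mul]
        rw [e, ← hsq]
        exact (hc.pow_right 2).pow_right _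
      have hcw : Commute c (w : G) := by
        have := (hcx.inv_right).mul_right hc
        rwa [inv_mul_cancel_left] at this
      rw [show b = cW W c a from Subtype.ext hca.symm, hnormc c hcx]
      exact Subtype.ext (by rw [cW_coe, hcw.eq, mul_inv_cancel_right])
    obtain ⟨n, hn⟩ := K.odd_idx S
    have hodd : ∀ (v : W) (m : ℕ), v ^ (2 * m + 1) = v := fun v m => by
      rw [pow_succ, pow_mul, sq, hWsq, one_pow, one_mul]
    obtain ⟨m, hm⟩ := hx.odd
    have hnz : norm x z₀ = z₀ := by
      rw [norm_apply, Finset.prod_congr rfl fun i _ => hz₀ _, Finset.prod_const,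
        Finset.card_range, hm, hodd]
    have hall : ∀ a ∈ T, norm x a = z₀ := by
      intro a ha
      have : norm x z₀ = norm x a := by
        rw [map_prod, Finset.prod_congr rfl fun b hb => hindep b a hb ha, Finset.prod_const,
          hTcard, hn, hodd]
      rw [← this, hnz]
    have hmapsTo : ∀ w : W, norm x w ∈ Z := by
      rintro ⟨w, hw⟩
      induction hw using Subgroup.closure_induction with
      | mem w hw => rw [hall ⟨w, hsub w hw⟩ ((hTmem _).2 hw)]; exact mem_zpowers z₀
      | one =>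
        rw [show (⟨1, _⟩ : W) = 1 from rfl, map_one]
        exact one_mem _
      | mul u v hu hv hu' hv' =>
        rw [show (⟨u * v, _⟩ : W) = ⟨u, hu⟩ * ⟨v, hv⟩ from rfl, map_mul]
        exact mul_mem hu' hv'
      | inv u hu hu' =>
        rw [show (⟨u⁻¹, _⟩ : W) = (⟨u, hu⟩ : W)⁻¹ from rfl, map_inv]
        exact inv_mem hu'
    intro w hw
    have hww : norm x w = w := by
      rw [norm_apply]
      rw [Finset.prod_congr rfl fun i _ => (Subtype.ext (by
        rw [cW_coe, (hw.pow_left i).eq, mul_inv_cancel_right]) : cW W (x ^ i) w = w),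
        Finset.prod_const, Finset.card_range, hm, hodd]
    exact hww ▸ hmapsTo w
  obtain ⟨x, hx⟩ : ∃ x : G, RealPrime x := by
    by_contra hc
    push Not at hc
    haveI := solvable_of_noReal (M := (⊤ : Subgroup G)) (noReal_of_forall fun x hx _ => hc x hx)
    exact hns (Group.isSolvable_of_surjective (f := (⊤ : Subgroup G).subtype)
      fun g => ⟨⟨g, mem_top g⟩, rfl⟩)
  -- the order of `x` is on the side of `t`
  have hr : side (orderOf x) := by
    refine K.side _ hx.1 ?_
    haveI := Fact.mk hx.1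
    haveI : Fintype {w : G // IsConj t w} := Fintype.ofFinite _
    let σ : Equiv.Perm {w : G // IsConj t w} :=
      { toFun := fun w => ⟨x * w * x⁻¹, w.2.trans (isConj_iff.2 ⟨x, rfl⟩)⟩
        invFun := fun w => ⟨x⁻¹ * w * x, w.2.trans (isConj_iff.2 ⟨x⁻¹, by rw [inv_inv]⟩)⟩
        left_inv := fun w => Subtype.ext (by group)
        right_inv := fun w => Subtype.ext (by group) }
    have hpow : ∀ (n : ℕ) w, (((σ ^ n) w) : G) = x ^ n * (w : G) * (x ^ n)⁻¹ := by
      intro n
      induction n with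
      | zero => intro w; simp
      | succ n ih =>
        intro w
        rw [pow_succ', Equiv.Perm.mul_apply]
        show x * ((σ ^ n) w : G) * x⁻¹ = _
        rw [ih, pow_succ']
        group
    have hσ : σ ^ orderOf x ^ 1 = 1 := Equiv.ext fun w => Subtype.ext (by
      rw [hpow, pow_one, pow_orderOf_eq_one]; simp)
    have hm := Equiv.Perm.card_compl_support_modEq (p := orderOf x) (n := 1) hσ
    have hsupp : σ.supportᶜ = ∅ := by
      refine Finset.eq_empty_of_forall_notMem fun w hw => ?_
      rw [Finset.mem_compl, Equiv.Perm.notMem_support] at hw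
      exact (K.of_isConj w.2).not_commute S hx
        (mul_inv_eq_iff_eq_mul.1 (congrArg Subtype.val hw))
    rw [hsupp, Finset.card_empty, ← Nat.card_eq_fintype_card, card_conj] at hm
    exact Nat.modEq_zero_iff_dvd.1 hm.symm
  -- the other vectors are on the side of `t`
  have hside : ∀ w : W, w ∉ Z → ∀ q : ℕ, q.Prime → q ∣ idx (w : G) → side q := by
    intro w hw q hq hqw
    by_contra hns'
    have hreal : IsConj (w : G) (w : G)⁻¹ := by
      rw [show (w : G)⁻¹ = w from congrArg Subtype.val (hWinv w)]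
    haveI := Fact.mk hx.1
    obtain ⟨P, hP⟩ := (IsPGroup.of_card (G := zpowers x) (n := 1)
      (by rw [Nat.card_zpowers, pow_one])).exists_le_sylow
    have hnd : ¬ orderOf x ∣ idx (w : G) := fun h =>
      hns' (S.cons _ hreal (orderOf x) q hx.1 hq h hqw hr)
    obtain ⟨c, hc⟩ := ClassSizes.NonAdjacent.exists_conj_mem_centralizer P hnd
    have hcomm : Commute x ((cW W c⁻¹ w : W) : G) := by
      rw [cW_coe, inv_inv]
      exact Subgroup.mem_centralizer_iff.1 hc x (hP (mem_zpowers x))
    have h1 := hfix x hx _ hcomm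
    have h2 : w = cW W c⁻¹ w := by
      have := hZ c _ h1
      rwa [← cW_mul, mul_inv_cancel, cW_one] at this
    exact hw (h2 ▸ h1)
  have hcop : ∀ w : W, w ∉ Z → ∀ g y : G, g * y * g⁻¹ = y⁻¹ → y ^ 2 ≠ 1 →
      (idx y).Coprime (idx (w : G)) := fun w hw g y h hy => S.coprime_idx h hy (hside w hw)
  have hoddidx : ∀ w : W, w ∉ Z → Odd (idx (w : G)) := fun w hw => by
    rw [← Nat.not_even_iff_odd, even_iff_two_dvd]
    exact fun h => S.two (hside w hw 2 Nat.prime_two h)
  have hcoset : ∀ w : W, w ∉ Z → ∀ g : G, w⁻¹ * cW W g w ∈ Z → Commute g (w : G) := by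
    intro w hw g hg
    obtain ⟨i, hi⟩ := Subgroup.mem_zpowers_iff.1 hg
    rcases Int.even_or_odd i with ⟨j, rfl⟩ | ⟨j, rfl⟩
    · rw [← two_mul, zpow_mul, zpow_two, hWsq, one_zpow, eq_comm, inv_mul_eq_one] at hi
      exact mul_inv_eq_iff_eq_mul.1 (congrArg Subtype.val hi.symm)
    rw [zpow_add_one, zpow_mul, zpow_two, hWsq, one_zpow, one_mul, eq_inv_mul_iff_mul_eq] at hi
    by_cases hz : z₀ = 1
    · rw [hz, mul_one] at hi
      exact mul_inv_eq_iff_eq_mul.1 (congrArg Subtype.val hi.symm)
    exfalso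
    -- the class is invariant under multiplication by `z₀`
    have hgw : (w : G) * (z₀ : G) = g * w * g⁻¹ := congrArg Subtype.val hi
    have hzc : ∀ a : G, Commute a (z₀ : G) := fun a => hZc z₀ (mem_zpowers z₀) a
    have hzz : (z₀ : G) * z₀ = 1 := congrArg Subtype.val (hWsq z₀)
    have hclosed : ∀ u : G, IsConj (w : G) u → IsConj (w : G) (u * z₀) := by
      intro u hu
      obtain ⟨a, rfl⟩ := isConj_iff.1 hu
      refine isConj_iff.2 ⟨a * g, ?_⟩
      rw [show a * g * (w : G) * (a * g)⁻¹ = a * (g * w * g⁻¹) * a⁻¹ by group, ← hgw,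
        ← mul_assoc, mul_assoc, ← (hzc a⁻¹).eq, ← mul_assoc]
    let f : Equiv.Perm {u : G // IsConj (w : G) u} :=
      { toFun := fun u => ⟨(u : G) * z₀, hclosed _ u.2⟩
        invFun := fun u => ⟨(u : G) * z₀, hclosed _ u.2⟩
        left_inv := fun u => Subtype.ext (by simp [mul_assoc, hzz])
        right_inv := fun u => Subtype.ext (by simp [mul_assoc, hzz]) }
    obtain ⟨u, hu⟩ := exists_fixed_of_odd (by rw [card_conj]; exact hoddidx w hw) f 1
      (Equiv.ext fun u => Subtype.ext (by simp [pow_two, f, mul_assoc, hzz]))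
    exact hz (Subtype.ext (mul_eq_left.1 (congrArg Subtype.val hu)))
  -- the linear group
  set ρ := quotAction hZ
  set A := ρ.range
  letI : DistribMulAction A (Additive (W ⧸ Z)) := additiveAction A
  set π := ρ.rangeRestrict
  have hπ : Function.Surjective π := ρ.rangeRestrict_surjective
  have hsmul : ∀ (g : G) (w : W), π g • Additive.ofMul (w : W ⧸ Z) =
      Additive.ofMul ((cW W g w : W) : W ⧸ Z) := fun g w => rfl
  have hmk : ∀ v : Additive (W ⧸ Z), ∃ w : W, Additive.ofMul (w : W ⧸ Z) = v := fun v => by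
    obtain ⟨w, hw⟩ := QuotientGroup.mk_surjective (Additive.toMul v)
    exact ⟨w, congrArg Additive.ofMul hw⟩
  have hzero : ∀ w : W, Additive.ofMul (w : W ⧸ Z) = 0 ↔ w ∈ Z := fun w =>
    ⟨fun h => (QuotientGroup.eq_one_iff w).1 h,
      fun h => congrArg Additive.ofMul ((QuotientGroup.eq_one_iff w).2 h)⟩
  have hstab : ∀ w : W, w ∉ Z → ∀ g : G,
      π g • Additive.ofMul (w : W ⧸ Z) = Additive.ofMul (w : W ⧸ Z) ↔ Commute g (w : G) := by
    intro w hw g
    rw [hsmul]
    refine ⟨fun h => hcoset w hw g (QuotientGroup.eq.1 (Additive.ofMul.injective h).symm),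
      fun h => ?_⟩
    rw [show cW W g w = w from Subtype.ext (by rw [cW_coe, h.eq, mul_inv_cancel_right])]
  have hidx : ∀ w : W, w ∉ Z →
      (MulAction.stabilizer A (Additive.ofMul (w : W ⧸ Z))).index = idx (w : G) := by
    intro w hw
    rw [← Subgroup.index_comap_of_surjective _ hπ]
    congr 1
    ext g
    rw [Subgroup.mem_comap, MulAction.mem_stabilizer_iff, hstab w hw,
      Subgroup.mem_centralizer_singleton_iff]
    rfl
  have htW : (⟨t, hsub t (IsConj.refl t)⟩ : W) ∉ Z := fun h =>
    K.ne_one (idx_eq_one_iff.2 (Subgroup.mem_center_iff.2 fun g => (hZc _ h g).eq))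
  have SA : Setup A (Additive (W ⧸ Z)) := {
    faithful := fun a ha => Subtype.ext (MulEquiv.ext fun q =>
      Additive.ofMul.injective (ha (Additive.ofMul q)))
    char2 := fun v => by
      obtain ⟨w, rfl⟩ := hmk v
      exact congrArg Additive.ofMul (congrArg QuotientGroup.mk (hWsq w))
    perfect := by
      have hW1 : ∀ w ∈ W, π w = 1 := fun w hw => by
        refine Subtype.ext (MulEquiv.ext fun q => QuotientGroup.induction_on q fun v => ?_)
        show ((cW W w v : W) : W ⧸ Z) = (v : W ⧸ Z)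
        rw [show cW W w v = v from Subtype.ext (by
          rw [cW_coe, show w * (v : G) = v * w from
            congrArg Subtype.val (hWc.is_comm.comm ⟨w, hw⟩ v), mul_inv_cancel_right])]
      have hM : commutator G ⊔ W = ⊤ := htop _ inferInstance le_sup_left
        (le_sup_right (a := commutator G) (hsub t (IsConj.refl t)))
      rw [_root_.commutator_def, ← Subgroup.map_top_of_surjective π hπ, ← Subgroup.map_commutator,
        ← _root_.commutator_def]
      conv_rhs => rw [← hM]
      rw [Subgroup.map_sup, show W.map π = ⊥ from (Subgroup.eq_bot_iff_forall _).2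
        (by rintro _ ⟨w, hw, rfl⟩; exact hW1 w hw), sup_bot_eq]
    nontriv := by
      obtain ⟨g, hg⟩ : ∃ g : G, ¬ Commute g t := by
        by_contra hc
        push Not at hc
        exact K.ne_one (idx_eq_one_iff.2 (Subgroup.mem_center_iff.2 fun g => (hc g).eq))
      exact ⟨π g, fun h => hg ((hstab _ htW g).1 (by rw [h, one_smul]))⟩
    free := fun q hq v hv => by
      obtain ⟨w, rfl⟩ := hmk v
      by_contra hne
      have hw : w ∉ Z := fun h => hne ((hzero w).2 h)
      obtain ⟨y, g, rfl, hy, hyo, hy2⟩ := exists_lift_realPrime hπ hq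
      have hyw : Commute y (w : G) := (hstab w hw y).1 hv
      obtain ⟨m, hm, -⟩ := exists_realPrime_pow_of_odd hy hyo fun h => hy2 (by rw [h, one_pow])
      exact hw (hfix _ hm w (hyw.pow_left m))
    cop := fun q hq v hv => by
      obtain ⟨w, rfl⟩ := hmk v
      have hw : w ∉ Z := fun h => hv ((hzero w).2 h)
      obtain ⟨y, g, rfl, hy, -, hy2⟩ := exists_lift_realPrime hπ hq
      rw [hidx w hw]
      exact Nat.Coprime.coprime_dvd_left (idx_map_dvd hπ y) (hcop w hw g y hy hy2)
    oddOrbit := fun v hv => by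
      obtain ⟨w, rfl⟩ := hmk v
      have hw : w ∉ Z := fun h => hv ((hzero w).2 h)
      rw [hidx w hw]
      exact hoddidx w hw }
  exact SA.false

/-- The theorem. -/
theorem isSolvable_of_key {side : ℕ → Prop} :
    ∀ (n : ℕ) (G : Type u) [Group G] [Finite G], Nat.card G = n → Side G side →
      (∃ t : G, Key side t) → Group.IsSolvable G := by
  intro n
  induction n using Nat.strong_induction_on with
  | _ n ihn =>
    intro G _ _ hn S ⟨t, K⟩
    subst hn
    have ih : Smaller.{u} (Nat.card G) side := fun H _ _ hH SH hK =>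
      ihn (Nat.card H) hH H rfl SH hK
    by_contra hns
    refine false_of_reduced S K hns (fun N hN hNo => ?_) (fun M hM hcM htM => ?_)
    · by_contra hN1
      haveI := hN
      exact hns (solvable_of_odd_normal S K ih N hNo hN1)
    · by_contra hM1
      haveI := hM
      refine hns (isSolvable_extension M (solvable_normal S K ih M htM hM1)
        (Group.isSolvable_of_comm fun a b => ?_))
      induction a using QuotientGroup.induction_on with | _ a => ?_
      induction b using QuotientGroup.induction_on with | _ b => ?_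
      refine QuotientGroup.eq.2 ?_
      have := hcM (Subgroup.commutator_mem_commutator (mem_top b⁻¹) (mem_top a⁻¹))
      rw [show (a * b)⁻¹ * (b * a) = ⁅b⁻¹, a⁻¹⁆ by rw [commutatorElement_def]; group]
      exact this

/-- Real class sizes with two separated nonempty sets of primes force solvability. -/
theorem isSolvable_of_disconnected (π₁ π₂ : Set ℕ) (h₁ : π₁.Nonempty) (h₂ : π₂.Nonempty)
    (hcover : ∀ q : ℕ, q.Prime → (∃ y : G, IsConj y y⁻¹ ∧ q ∣ idx y) → q ∈ π₁ ∨ q ∈ π₂)
    (hsub : ∀ q ∈ π₁ ∪ π₂, q.Prime ∧ ∃ y : G, IsConj y y⁻¹ ∧ q ∣ idx y)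
    (hdisj : Disjoint π₁ π₂)
    (hnoedge : ∀ a ∈ π₁, ∀ b ∈ π₂, ∀ y : G, IsConj y y⁻¹ → ¬ (a ∣ idx y ∧ b ∣ idx y)) :
    Group.IsSolvable G := by
  by_cases h2 : 2 ∈ π₁
  · have S : Side G (· ∈ π₂) := ⟨fun h => Set.disjoint_left.1 hdisj h2 h,
      fun y hy q r _ hr hq hry hs => (hcover r hr ⟨y, hy, hry⟩).resolve_left fun hr1 =>
        hnoedge r hr1 q hs y hy ⟨hry, hq⟩⟩
    obtain ⟨q, hq⟩ := h₂
    obtain ⟨hqp, y, hy, hqy⟩ := hsub q (Or.inr hq)
    exact isSolvable_of_key _ G rfl S (S.exists_key ⟨y, q, hy, hqp, hqy, hq⟩)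
  · have S : Side G (· ∈ π₁) := ⟨h2,
      fun y hy q r _ hr hq hry hs => (hcover r hr ⟨y, hy, hry⟩).resolve_right fun hr1 =>
        hnoedge q hs r hr1 y hy ⟨hq, hry⟩⟩
    obtain ⟨q, hq⟩ := h₁
    obtain ⟨hqp, y, hy, hqy⟩ := hsub q (Or.inl hq)
    exact isSolvable_of_key _ G rfl S (S.exists_key ⟨y, q, hy, hqp, hqy, hq⟩)

end Cfsg.Agent.Lib.RealGraph56
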