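import Cfsg.Agent.Lib.RealGraph56.Reduce

/-!
The shape of a group whose real class sizes split into two sets of primes: `2` divides a real class
size, and in the subgroup generated by the 2-elements every real class size is odd or a power of `2`.
-/

set_option autoImplicit false
set_option linter.style.haveILetI false
set_option linter.unusedSectionVars false

namespace Cfsg.Agent.Lib.RealGraph56

open Subgroup
open scoped Pointwise commutatorElement

universe u

variable {G : Type u} [Group G] [Finite G]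

/-- The order of a real element of odd prime order divides the class size of a key involution. -/
theorem Key.orderOf_dvd_idx {side : ℕ → Prop} (S : Side G side) {t : G} (K : Key side t) {x : G}
    (hx : RealPrime x) : orderOf x ∣ idx t := by
  classical
  haveI := Fact.mk hx.1
  haveI : Fintype {w : G // IsConj t w} := Fintype.ofFinite _
  let σ : Equiv.Perm {w : G // IsConj t w} :=
    { toFun := fun w => ⟨x * w * x⁻¹, w.2.trans (isConj_iff.2 ⟨x, rfl⟩)⟩
      invFun := fun w => ⟨x⁻¹ * w * x, w.2.trans (isConj_iff.2 ⟨x⁻¹, by rw [inv_inv]⟩)⟩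
      left_inv := fun w => Subtype.ext (by group)
      right_inv := fun w => Subtype.ext (by group) }
  have hpow : ∀ (n : ℕ) w, (((σ ^ n) w) : G) = x ^ n * (w : G) * (x ^ n)⁻¹ := by
    intro n
    induction n with
    | zero => intro w; simp
    | succ n ih =>
      intro w
      rw [pow_succ', Equiv.Perm.mul_apply]
      show x * ((σ ^ n) w : G) * x⁻¹ = _
      rw [ih, pow_succ']
      group
  have hσ : σ ^ orderOf x ^ 1 = 1 := Equiv.ext fun w => Subtype.ext (by
    rw [hpow, pow_one, pow_orderOf_eq_one]; simp)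
  have hm := Equiv.Perm.card_compl_support_modEq (p := orderOf x) (n := 1) hσ
  have hsupp : σ.supportᶜ = ∅ := by
    refine Finset.eq_empty_of_forall_notMem fun w hw => ?_
    rw [Finset.mem_compl, Equiv.Perm.notMem_support] at hw
    exact (K.of_isConj w.2).not_commute S hx
      (mul_inv_eq_iff_eq_mul.1 (congrArg Subtype.val hw))
  rw [hsupp, Finset.card_empty, ← Nat.card_eq_fintype_card, card_conj] at hm
  exact Nat.modEq_zero_iff_dvd.1 hm.symm

/-- In a solvable group generated by 2-elements every odd prime divisor of the order is the order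
of a real element. -/
theorem exists_realPrime_of_generated : ∀ (n : ℕ) (G : Type u) [Group G] [Finite G],
    Nat.card G = n → Group.IsSolvable G → closure {g : G | TwoEl g} = ⊤ →
    ∀ r : ℕ, r.Prime → r ≠ 2 → r ∣ Nat.card G → ∃ x : G, RealPrime x ∧ orderOf x = r := by
  intro n
  induction n using Nat.strong_induction_on with
  | _ n ih =>
    intro G _ _ hn hsol hgen r hr hr2 hrG
    subst hn
    haveI := Fact.mk hr
    haveI := hsol
    -- the normal closure argument at an abelian normal subgroup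
    haveI : Nontrivial G := Finite.one_lt_card_iff_nontrivial.1
      (lt_of_lt_of_le hr.one_lt (Nat.le_of_dvd Nat.card_pos hrG))
    obtain ⟨k, hk⟩ := (Group.isSolvable_def G).1 hsol
    obtain ⟨j, hj, hj1⟩ : ∃ j, derivedSeries G j ≠ ⊥ ∧ derivedSeries G (j + 1) = ⊥ := by
      have h0 : derivedSeries G 0 ≠ ⊥ := by rw [derivedSeries_zero]; exact top_ne_bot
      classical
      have hex : ∃ j, derivedSeries G j = ⊥ := ⟨k, hk⟩
      have hne : Nat.find hex ≠ 0 := fun h => h0 (h ▸ Nat.find_spec hex)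
      obtain ⟨j, hj⟩ := Nat.exists_eq_add_one_of_ne_zero hne
      exact ⟨j, Nat.find_min hex (by omega), hj ▸ Nat.find_spec hex⟩
    set N := derivedSeries G j
    haveI : N.Normal := derivedSeries_normal G j
    have hNab : ∀ a ∈ N, ∀ b ∈ N, Commute a b := fun a ha b hb => by
      rw [derivedSeries_succ] at hj1
      have := Subgroup.commutator_mem_commutator ha hb
      rw [hj1, Subgroup.mem_bot] at this
      exact commutatorElement_eq_one_iff_commute.1 this
    by_cases hrN : r ∣ N.index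
    · have hlt : Nat.card (G ⧸ N) < Nat.card G := by
        rw [← N.index_mul_card]
        have : 1 < Nat.card N :=
          Finite.one_lt_card_iff_nontrivial.2 ((nontrivial_iff_ne_bot N).2 hj)
        exact lt_mul_of_one_lt_right (Nat.pos_of_ne_zero N.index_ne_zero_of_finite) this
      set π := QuotientGroup.mk' N
      have hπ : Function.Surjective π := QuotientGroup.mk'_surjective N
      have hgen' : closure {g : G ⧸ N | TwoEl g} = ⊤ := by
        rw [← top_le_iff, ← Subgroup.map_top_of_surjective π hπ, ← hgen, MonoidHom.map_closure]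
        refine Subgroup.closure_mono ?_
        rintro _ ⟨g, hg, rfl⟩
        obtain ⟨i, hi⟩ := TwoEl.pow_eq hg
        exact twoEl_of_pow (k := i) (by rw [← map_pow, hi, map_one])
      obtain ⟨q, hq, hqr⟩ := ih _ hlt (G ⧸ N) rfl inferInstance hgen' r hr hr2
        (N.index_eq_card ▸ hrN)
      obtain ⟨y, g, rfl, hy, -, -⟩ := exists_lift_realPrime hπ hq
      have hdvd : r ∣ orderOf y := hqr ▸ orderOf_map_dvd π y
      have e : orderOf (y ^ (orderOf y / r)) = r := by
        rw [orderOf_pow_of_dvd (Nat.div_pos (Nat.le_of_dvd (orderOf_pos y) hdvd) hr.pos).ne'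
          (Nat.div_dvd_of_dvd hdvd), Nat.div_div_self hdvd (orderOf_pos y).ne']
      exact ⟨_, ⟨by rw [e]; exact hr, by rw [e]; exact hr2, g,
        by rw [← conj_pow, hy, inv_pow]⟩, e⟩
    -- the Sylow subgroup is normal
    obtain ⟨P⟩ : Nonempty (Sylow r G) := inferInstance
    have hPN : (P : Subgroup G) ≤ N := by
      intro a ha
      rw [← QuotientGroup.eq_one_iff]
      obtain ⟨i, hi⟩ := P.isPGroup' ⟨a, ha⟩
      have h1 : (QuotientGroup.mk a : G ⧸ N) ^ r ^ i = 1 := by
        rw [← QuotientGroup.mk_pow, show a ^ r ^ i = 1 from congrArg Subtype.val hi]; rfl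
      exact orderOf_eq_one_iff.1 (Nat.eq_one_of_dvd_coprimes
        (Nat.Coprime.pow_left i (hr.coprime_iff_not_dvd.2 hrN))
        (orderOf_dvd_of_pow_eq_one h1) (N.index_eq_card ▸ orderOf_dvd_natCard _))
    haveI hPn : (P : Subgroup G).Normal := by
      refine ⟨fun a ha g => ?_⟩
      have hR : IsPGroup r ↥((P : Subgroup G) ⊔ MulAut.conj g • (P : Subgroup G)) := by
        refine IsPGroup.to_sup_of_normal_right' P.2
          (P.2.map (MulAut.conj g).toMonoidHom) fun b hb => ?_
        have hb' : b ∈ N := hPN hb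
        refine Subgroup.centralizer_le_normalizer _ (Subgroup.mem_centralizer_iff.2 fun c hc => ?_)
        obtain ⟨d, hd, rfl⟩ := hc
        exact (hNab _ (Subgroup.Normal.conj_mem inferInstance d (hPN hd) g) b hb').eq
      rw [← P.3 hR le_sup_left]
      exact Subgroup.mem_sup_right (Subgroup.smul_mem_pointwise_smul a (MulAut.conj g) _ ha)
    have hP1 : (P : Subgroup G) ≠ ⊥ := P.ne_bot_of_dvd_card hrG
    by_cases hc : ∀ g : G, TwoEl g → g ∈ centralizer ((P : Subgroup G) : Set G)
    · -- then the Sylow subgroup is a direct factor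
      exfalso
      have hcen : centralizer ((P : Subgroup G) : Set G) = ⊤ :=
        top_le_iff.1 (hgen ▸ (closure_le _).2 fun g hg => hc g hg)
      obtain ⟨C, hC⟩ := Subgroup.exists_right_complement'_of_coprime
        (N := (P : Subgroup G)) P.card_coprime_index
      have hCn : C.Normal := ⟨fun c hcC g => by
        have hg : g ∈ ((P : Subgroup G) : Set G) * (C : Set G) := by
          rw [hC.mul_eq]; exact Set.mem_univ g
        obtain ⟨a, ha, b, hb, rfl⟩ := Set.mem_mul.1 hg
        have hab : a * (b * c * b⁻¹) = b * c * b⁻¹ * a :=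
          Subgroup.mem_centralizer_iff.1 (hcen ▸ Subgroup.mem_top (b * c * b⁻¹)) a ha
        rw [show a * b * c * (a * b)⁻¹ = a * (b * c * b⁻¹) * a⁻¹ by group, hab,
          mul_inv_cancel_right]
        exact C.mul_mem (C.mul_mem hb hcC) (C.inv_mem hb)⟩
      haveI := hCn
      have hle : closure {g : G | TwoEl g} ≤ C := (closure_le _).2 fun g hg => by
        obtain ⟨i, hi⟩ := TwoEl.pow_eq hg
        show g ∈ C
        rw [← QuotientGroup.eq_one_iff]
        have h1 : (QuotientGroup.mk g : G ⧸ C) ^ 2 ^ i = 1 := by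
          rw [← QuotientGroup.mk_pow, hi]; rfl
        obtain ⟨e, he⟩ := P.2.exists_card_eq
        refine orderOf_eq_one_iff.1 (Nat.eq_one_of_dvd_coprimes
          (Nat.Coprime.pow i e ((Nat.coprime_primes Nat.prime_two hr).2 (Ne.symm hr2)))
          (orderOf_dvd_of_pow_eq_one h1) ?_)
        rw [← he, ← hC.index_eq_card, Subgroup.index_eq_card]
        exact orderOf_dvd_natCard _
      have hCtop : C = ⊤ := top_le_iff.1 (hgen ▸ hle)
      refine hP1 ((Subgroup.eq_bot_iff_forall _).2 fun a ha => ?_)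
      exact Subgroup.mem_bot.1 (hC.disjoint.le_bot ⟨ha, hCtop ▸ Subgroup.mem_top a⟩)
    push Not at hc
    obtain ⟨g, hg, hgc⟩ := hc
    obtain ⟨g', y, -, hyP, -, hy1, hinv⟩ :=
      LAEven54.Inverted.exists_inverted_of_normalizer (p := r) hg P.2
        (by rw [Subgroup.normalizer_eq_top]; exact Subgroup.mem_top g) hgc
    obtain ⟨i, hi⟩ := LAEven54.Inverted.exists_orderOf_prime (p := r) (y := y) (by
      obtain ⟨e, he⟩ := IsPGroup.iff_orderOf.1 P.2 ⟨y, hyP⟩
      exact ⟨e, by rw [← he, Subgroup.orderOf_mk]⟩) hy1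
    exact ⟨y ^ i, ⟨by rw [hi]; exact hr, by rw [hi]; exact hr2, g',
      by rw [← conj_pow, hinv, inv_pow]⟩, hi⟩

/-- If the real elements have order at most two, two classes of coprime sizes give a trivial one. -/
theorem idx_eq_one_of_pair (hall : ∀ y : G, IsConj y y⁻¹ → y ^ 2 = 1 ∧ Odd (idx y)) {u v : G}
    (hu : IsConj u u⁻¹) (hv : IsConj v v⁻¹) (huv : (idx u).Coprime (idx v))
    (hw : (idx (u * v)).Coprime (idx v)) : idx v = 1 := by
  have hv2 : v * v = 1 := by rw [← sq]; exact (hall v hv).1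
  by_contra hne
  obtain ⟨d, hd, hdv⟩ : ∃ d, IsConj v d ∧ d ≠ v := by
    by_contra hc
    push Not at hc
    refine hne ?_
    rw [← card_conj, Nat.card_eq_one_iff_unique]
    exact ⟨⟨fun a b => Subtype.ext ((hc _ a.2).trans (hc _ b.2).symm)⟩, ⟨⟨v, IsConj.refl v⟩⟩⟩
  have hd2 : d * d = 1 := by
    obtain ⟨a, rfl⟩ := isConj_iff.1 hd
    rw [show a * v * a⁻¹ * (a * v * a⁻¹) = a * (v * v) * a⁻¹ by group, hv2]
    group
  have hvd : (v * d) * (v * d) = 1 := by
    have h : IsConj (v * d) (v * d)⁻¹ := isConj_iff.2 ⟨v, by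
      rw [inv_eq_of_mul_eq_one_right hv2]
      exact Involutions.Basic.invert_mul hv2 hd2⟩
    rw [← sq]; exact (hall _ h).1
  -- every translate of the first class stays inside it
  have hclosed : ∀ u', IsConj u u' → IsConj u (u' * (v * d)) := by
    intro u' hu'
    obtain ⟨g, rfl⟩ := isConj_iff.1 hu'
    obtain ⟨c, hc, s, hs, rfl⟩ := exists_mul_of_coprime huv.symm g
    have hcv : Commute c v := Subgroup.mem_centralizer_singleton_iff.1 hc
    have hsu : Commute s u := Subgroup.mem_centralizer_singleton_iff.1 hs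
    obtain ⟨a, rfl⟩ := isConj_iff.1 hd
    obtain ⟨b, hb, e, he, hbe⟩ := exists_mul_of_coprime hw (c⁻¹ * a)
    have hbw : Commute b (u * v) := Subgroup.mem_centralizer_singleton_iff.1 hb
    have hev : Commute e v := Subgroup.mem_centralizer_singleton_iff.1 he
    refine isConj_iff.2 ⟨c * b, ?_⟩
    have ha : a * v * a⁻¹ = c * (b * v * b⁻¹) * c⁻¹ := by
      have e1 : a = c * (b * e) := by rw [← hbe, mul_inv_cancel_left]
      rw [e1, show c * (b * e) * v * (c * (b * e))⁻¹ = c * (b * (e * v * e⁻¹) * b⁻¹) * c⁻¹ by group,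
        hev.eq, mul_inv_cancel_right]
    rw [show c * s * u * (c * s)⁻¹ = c * (s * u * s⁻¹) * c⁻¹ by group, hsu.eq,
      mul_inv_cancel_right, ha]
    have e2 : c * u * c⁻¹ * v = c * (u * v) * c⁻¹ := by
      rw [show c * (u * v) * c⁻¹ = c * u * c⁻¹ * (c * v * c⁻¹) by group, hcv.eq,
        mul_inv_cancel_right]
    rw [← mul_assoc, e2, show c * b * u * (c * b)⁻¹ =
      c * ((b * (u * v) * b⁻¹) * (b * v⁻¹ * b⁻¹)) * c⁻¹ by group, hbw.eq, mul_inv_cancel_right,
      inv_eq_of_mul_eq_one_right hv2]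
    group
  let f : Equiv.Perm {w : G // IsConj u w} :=
    { toFun := fun w => ⟨(w : G) * (v * d), hclosed _ w.2⟩
      invFun := fun w => ⟨(w : G) * (v * d), hclosed _ w.2⟩
      left_inv := fun w => Subtype.ext (by simp [mul_assoc] at hvd ⊢; simp [hvd])
      right_inv := fun w => Subtype.ext (by simp [mul_assoc] at hvd ⊢; simp [hvd]) }
  obtain ⟨w, hwf⟩ := exists_fixed_of_odd (by rw [card_conj]; exact (hall u hu).2) f 1
    (Equiv.ext fun w => Subtype.ext (by
      simp [pow_two, f, mul_assoc] at hvd ⊢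
      simp [hvd]))
  have : v * d = 1 := mul_eq_left.1 (congrArg Subtype.val hwf)
  exact hdv (mul_left_cancel (this.trans hv2.symm))

/-- `2` divides a real class size. -/
theorem exists_even_idx (π₁ π₂ : Set ℕ) (h₁ : π₁.Nonempty) (h₂ : π₂.Nonempty)
    (hcover : ∀ q : ℕ, q.Prime → (∃ y : G, IsConj y y⁻¹ ∧ q ∣ idx y) → q ∈ π₁ ∨ q ∈ π₂)
    (hsub : ∀ q ∈ π₁ ∪ π₂, q.Prime ∧ ∃ y : G, IsConj y y⁻¹ ∧ q ∣ idx y)
    (hdisj : Disjoint π₁ π₂)
    (hnoedge : ∀ a ∈ π₁, ∀ b ∈ π₂, ∀ y : G, IsConj y y⁻¹ → ¬ (a ∣ idx y ∧ b ∣ idx y)) :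
    ∃ y : G, IsConj y y⁻¹ ∧ 2 ∣ idx y := by
  by_contra hcon
  push Not at hcon
  have hall : ∀ y : G, IsConj y y⁻¹ → y ^ 2 = 1 ∧ Odd (idx y) := fun y hy => by
    refine ⟨?_, ?_⟩
    · by_contra h
      obtain ⟨g, hg⟩ := isConj_iff.1 hy
      exact hcon y hy (even_iff_two_dvd.1 (even_idx hg h))
    · rw [← Nat.not_even_iff_odd, even_iff_two_dvd]
      exact hcon y hy
  obtain ⟨q₁, hq₁⟩ := h₁
  obtain ⟨q₂, hq₂⟩ := h₂
  obtain ⟨hp₁, u, hu, hqu⟩ := hsub q₁ (Or.inl hq₁)
  obtain ⟨hp₂, v, hv, hqv⟩ := hsub q₂ (Or.inr hq₂)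
  have hu1 : ∀ p : ℕ, p.Prime → p ∣ idx u → p ∈ π₁ := fun p hp h =>
    (hcover p hp ⟨u, hu, h⟩).resolve_right fun h2 => hnoedge q₁ hq₁ p h2 u hu ⟨hqu, h⟩
  have hv2 : ∀ p : ℕ, p.Prime → p ∣ idx v → p ∈ π₂ := fun p hp h =>
    (hcover p hp ⟨v, hv, h⟩).resolve_left fun h1 => hnoedge p h1 q₂ hq₂ v hv ⟨h, hqv⟩
  have hco : (idx u).Coprime (idx v) := Nat.coprime_of_dvd' fun p hp ha hb =>
    absurd (hv2 p hp hb) (Set.disjoint_left.1 hdisj (hu1 p hp ha))
  have hu2 : u * u = 1 := by rw [← sq]; exact (hall u hu).1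
  have hvv : v * v = 1 := by rw [← sq]; exact (hall v hv).1
  have hw : IsConj (u * v) (u * v)⁻¹ := isConj_iff.2 ⟨u, by
    rw [inv_eq_of_mul_eq_one_right hu2]
    exact Involutions.Basic.invert_mul hu2 hvv⟩
  have hwv : u * v = v * u := by
    have h : (u * v) * (u * v) = 1 := by rw [← sq]; exact (hall _ hw).1
    rw [← inv_eq_of_mul_eq_one_right h, mul_inv_rev, inv_eq_of_mul_eq_one_right hu2,
      inv_eq_of_mul_eq_one_right hvv]
  by_cases hmix : ∃ p ∈ π₂, p ∣ idx (u * v)
  · obtain ⟨p, hp, hpw⟩ := hmix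
    have hw2 : (idx (u * v)).Coprime (idx u) := Nat.coprime_of_dvd' fun l hl ha hb =>
      absurd ⟨ha, hpw⟩ (hnoedge l (hu1 l hl hb) p hp (u * v) hw)
    rw [hwv] at hw2
    exact hp₁.ne_one (Nat.dvd_one.1 (idx_eq_one_of_pair hall hv hu hco.symm hw2 ▸ hqu))
  · push Not at hmix
    have hw2 : (idx (u * v)).Coprime (idx v) := Nat.coprime_of_dvd' fun l hl ha hb =>
      absurd ha (hmix l (hv2 l hl hb))
    exact hp₂.ne_one (Nat.dvd_one.1 (idx_eq_one_of_pair hall hu hv hco hw2 ▸ hqv))

/-- The subgroup generated by the 2-elements. -/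
abbrev twoGen (G : Type u) [Group G] : Subgroup G :=
  closure {g : G | ∃ k : ℕ, orderOf g = 2 ^ k}

/-- Either the Sylow 2-subgroup is normal, or the real class sizes of `O^{2'}(G)` are odd or powers
of two and both kinds occur. -/
theorem structure_twoGen {side : ℕ → Prop} (S : Side G side) {t : G} (K : Key side t)
    (hsol : Group.IsSolvable G) :
    (∀ P : Sylow 2 G, (P : Subgroup G).Normal) ∨
      ((∀ y : twoGen G, IsConj y y⁻¹ → Odd (idx y) ∨ ∃ j : ℕ, idx y = 2 ^ j) ∧
        (∃ y : twoGen G, IsConj y y⁻¹ ∧ 2 ∣ idx y) ∧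
        ∃ (y : twoGen G) (q : ℕ), IsConj y y⁻¹ ∧ q.Prime ∧ q ≠ 2 ∧ q ∣ idx y) := by
  haveI : Fact (Nat.Prime 2) := ⟨Nat.prime_two⟩
  set L := twoGen G
  have hLn : L.Normal := ⟨fun n hn a => by
    induction hn using Subgroup.closure_induction with
    | mem x hx => exact subset_closure (TwoEl.conj hx a)
    | one => simp
    | mul x y _ _ hx hy =>
      have := mul_mem hx hy
      rwa [show a * x * a⁻¹ * (a * y * a⁻¹) = a * (x * y) * a⁻¹ by group] at this
    | inv x _ hx =>
      have := inv_mem hx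
      rwa [show (a * x * a⁻¹)⁻¹ = a * x⁻¹ * a⁻¹ by group] at this⟩
  haveI := hLn
  by_cases hN : NoReal L
  · left
    intro P
    obtain ⟨R, -, hR, -, hRm⟩ := exists_twoCore hN
    have hmem : ∀ a : G, TwoEl a → a ∈ R := fun a ha => hRm a (subset_closure ha) ha
    have hPR : (P : Subgroup G) ≤ R := fun a ha => hmem a (twoEl_of_mem P.2 ha)
    have e := P.3 hR hPR
    exact ⟨fun a ha g => e ▸ hmem _ ((twoEl_of_mem P.2 ha).conj g)⟩
  right
  have htL : t ∈ L := subset_closure (twoEl_of_orderOf_two K.invol)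
  have hreal : ∀ y : L, IsConj y y⁻¹ → IsConj (y : G) (y : G)⁻¹ := fun y hy => by
    simpa using L.subtype.map_isConj hy
  have hgen : closure {g : L | TwoEl g} = ⊤ := by
    refine eq_top_iff.2 fun g hg' => ?_
    clear hg'
    obtain ⟨g, hg⟩ := g
    induction hg using Subgroup.closure_induction with
    | mem a ha =>
      refine subset_closure ?_
      obtain ⟨k, hk⟩ := ha
      exact ⟨k, by rw [Subgroup.orderOf_mk, hk]⟩
    | one => exact one_mem _
    | mul a b _ _ ha hb => exact mul_mem ha hb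
    | inv a _ ha => exact inv_mem ha
  have hodd_side : ∀ r : ℕ, r.Prime → r ≠ 2 → r ∣ Nat.card L → side r := by
    intro r hr hr2 hrL
    haveI := hsol
    obtain ⟨x, hx, hxr⟩ := exists_realPrime_of_generated _ L rfl inferInstance hgen r hr hr2 hrL
    obtain ⟨g, hg⟩ := hx.2.2
    have hxG : RealPrime (x : G) := ⟨by rw [Subgroup.orderOf_coe]; exact hx.1,
      by rw [Subgroup.orderOf_coe]; exact hx.2.1, g, by simpa using congrArg Subtype.val hg⟩
    refine K.side r hr ?_
    have := K.orderOf_dvd_idx S hxG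
    rwa [Subgroup.orderOf_coe, hxr] at this
  refine ⟨fun y hy => ?_, ?_, ⟨t, htL⟩, ?_⟩
  · have hd : idx y ∣ idx (y : G) := idx_dvd_of_normal y
    by_cases hs : ∃ q, q.Prime ∧ q ∣ idx (y : G) ∧ side q
    · obtain ⟨q, hq, hqy, hqs⟩ := hs
      left
      rw [← Nat.not_even_iff_odd, even_iff_two_dvd]
      exact fun h2 => S.two (S.cons _ (hreal y hy) q 2 hq Nat.prime_two hqy (h2.trans hd) hqs)
    · push Not at hs
      refine Or.inr ⟨_, Nat.eq_prime_pow_of_unique_prime_dvd
        (Subgroup.index_ne_zero_of_finite) fun {l} hl hld => ?_⟩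
      by_contra hl2
      exact hs l hl (hld.trans hd)
        (hodd_side l hl hl2 (hld.trans (Subgroup.index_dvd_card _)))
  · unfold NoReal at hN
    push Not at hN
    obtain ⟨x, g, hxL, hgL, hp, hp2, hg⟩ := hN
    refine ⟨⟨x, hxL⟩, isConj_iff.2 ⟨⟨g, hgL⟩, Subtype.ext (by simpa using hg)⟩,
      even_iff_two_dvd.1 (even_idx (g := (⟨g, hgL⟩ : L)) (Subtype.ext (by simpa using hg))
        fun h => ?_)⟩
    exact RealPrime.sq_ne_one (x := x) ⟨hp, hp2, g, hg⟩ (congrArg Subtype.val h)
  · have hne : idx (⟨t, htL⟩ : L) ≠ 1 := fun h => hN (noReal_of_forall fun x hx hxL =>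
      K.not_commute S hx (congrArg Subtype.val
        (Subgroup.mem_center_iff.1 (idx_eq_one_iff.1 h) ⟨x, hxL⟩)))
    obtain ⟨q, hq, hqt⟩ := Nat.exists_prime_and_dvd hne
    refine ⟨q, ?_, hq, ?_, hqt⟩
    · rw [show (⟨t, htL⟩ : L)⁻¹ = ⟨t, htL⟩ from Subtype.ext (Involutions.Basic.invol_inv K.invol)]
    · rintro rfl
      exact S.two (K.side 2 hq (hqt.trans (idx_dvd_of_normal (⟨t, htL⟩ : L))))

end Cfsg.Agent.Lib.RealGraph56
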